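import Cfsg.Agent.H42.UAut
import Cfsg.Agent.H91.SylIn
import Cfsg.Prelude.Def_TwoFusion

/-! Project GMS (notes/GMS.md): a component of type `U₃(q)`, `q` even, in an involution
centralizer.  Contexts, first frame, outcomes, transport along isomorphisms. -/

set_option autoImplicit false

namespace Cfsg.Agent.GMS

open Subgroup H10 H91
open H42 hiding SylIn

section Field

variable {F : Type*} [Field F] [Fintype F] {q : ℕ} [hF : Fact (Fintype.card F = q ^ 2)]

local notation "σ" => H10.cj F q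

/-- The subfield with `q` elements. -/
abbrev K0 (F : Type*) [Field F] [Fintype F] (q : ℕ) [Fact (Fintype.card F = q ^ 2)] : Type _ :=
  ↥(fixedSubfield F q)

theorem cj_k0 (b : K0 F q) : σ (b : F) = b := b.2

theorem map_cj (φ : F ≃+* F) (x : F) : φ (σ x) = σ (φ x) := by
  rw [cj_apply, cj_apply, map_pow]

/-- conjugation as a field automorphism -/
noncomputable def sg (F : Type*) [Field F] [Fintype F] (q : ℕ) [Fact (Fintype.card F = q ^ 2)] :
    F ≃+* F := RingEquiv.ofRingHom (cj F q) (cj F q) (by ext; simp [H10.cj_cj])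
      (by ext; simp [H10.cj_cj])

@[simp] theorem sg_apply (x : F) : sg F q x = σ x := rfl

/-- the norm -/
noncomputable def nm (q : ℕ) [Fact (Fintype.card F = q ^ 2)] (a : F) : K0 F q :=
  ⟨cj F q a * a, by rw [mem_fixedSubfield, map_mul, H10.cj_cj, mul_comm]⟩

/-- the commutator form -/
noncomputable def cm (q : ℕ) [Fact (Fintype.card F = q ^ 2)] (a b : F) : K0 F q :=
  ⟨cj F q a * b + cj F q b * a, by
    rw [mem_fixedSubfield, map_add, map_mul, map_mul, H10.cj_cj, H10.cj_cj]; ring⟩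

/-- a field automorphism on the subfield -/
def kf (φ : F ≃+* F) (b : K0 F q) : K0 F q :=
  ⟨φ b, by rw [mem_fixedSubfield, ← map_cj, cj_k0]⟩

@[simp] theorem coe_nm (a : F) : (nm q a : F) = σ a * a := rfl
@[simp] theorem coe_cm (a b : F) : (cm q a b : F) = σ a * b + σ b * a := rfl
@[simp] theorem coe_kf (φ : F ≃+* F) (b : K0 F q) : (kf φ b : F) = φ b := rfl

/-- the semilinear maps of `UM` -/
noncomputable def sl (l : F) (φ : F ≃+* F) (u : UM F q) : UM F q :=
  ⟨l * φ u.x, σ l * l * φ u.y, by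
    have := congrArg φ u.h
    simp only [map_add, map_mul, map_cj] at this
    simp only [map_mul, H10.cj_cj]
    linear_combination σ l * l * this⟩

@[simp] theorem sl_x (l : F) (φ : F ≃+* F) (u : UM F q) : (sl l φ u).x = l * φ u.x := rfl
@[simp] theorem sl_y (l : F) (φ : F ≃+* F) (u : UM F q) : (sl l φ u).y = σ l * l * φ u.y := rfl

variable [CharP F 2]

/-- the central elements of `UM` -/
def zz (b : K0 F q) : UM F q := ⟨0, b, by rw [cj_k0, zero_mul, CharTwo.add_self_eq_zero]⟩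

@[simp] theorem zz_x (b : K0 F q) : (zz b).x = 0 := rfl
@[simp] theorem zz_y (b : K0 F q) : (zz b).y = b := rfl

theorem zz_add (b d : K0 F q) : zz (b + d) = zz b * zz d := by ext <;> simp

theorem zz_zero : zz (0 : K0 F q) = 1 := by ext <;> simp

theorem zz_inj {b d : K0 F q} (h : zz b = zz d) : b = d := Subtype.ext (congrArg UM.y h)

theorem exists_zz {u : UM F q} (h : u.x = 0) : ∃ b, u = zz b := by
  have := u.h
  rw [h, zero_mul] at this
  exact ⟨⟨u.y, (CharTwo.add_eq_zero.1 this).symm⟩, UM.ext h rfl⟩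

theorem zz_comm (b : K0 F q) (u : UM F q) : zz b * u = u * zz b := by
  ext <;> simp [add_comm]

theorem um_sq (u : UM F q) : u * u = zz (nm q u.x) := UM.ext (UM.sq_x u) (UM.sq_y u)

theorem um_comm (u v : UM F q) : u * v = v * u * zz (cm q u.x v.x) := by
  have h2 : (2 : F) = 0 := CharTwo.two_eq_zero
  ext
  · simp [add_comm]
  · simp only [UM.mul_y, UM.mul_x, zz_x, zz_y, coe_cm]
    linear_combination (-(σ v.x * u.x)) * h2

theorem sl_zz (l : F) (φ : F ≃+* F) (b : K0 F q) : sl l φ (zz b) = zz (nm q l * kf φ b) := by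
  ext <;> simp

end Field

/-- `A` is normal in `C(t)` and of type `U₃(q)`; `T` is a Sylow 2-subgroup of `C(t)`,
`R = C_T(A)`, `U` parametrises `T ∩ A`, `H` is a Cartan subgroup and `L ≅ L₂(q)`. -/
structure Ctx0 (G : Type*) [Group G] (F : Type*) [Field F] [Fintype F] [CharP F 2] (q : ℕ)
    [Fact (Fintype.card F = q ^ 2)] where
  t : G
  R : Subgroup G
  A : Subgroup G
  T : Subgroup G
  H : Subgroup G
  L : Subgroup G
  U : UM F q →* G
  q4 : 4 ≤ q
  t1 : t ≠ 1
  t2 : t * t = 1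
  tR : t ∈ R
  Rc : ∀ r ∈ R, ∀ s ∈ R, r * s = s * r
  RT : R ≤ T
  RA : ∀ r ∈ R, ∀ a ∈ A, r * a = a * r
  RA1 : ∀ r ∈ R, r ∈ A → r = 1
  Uinj : Function.Injective U
  UA : ∀ u, U u ∈ A
  UT : ∀ u, U u ∈ T
  An : ∀ y, y * t = t * y → ∀ a ∈ A, y * a * y⁻¹ ∈ A
  syl : SylIn 2 T (centralizer {t})
  TA : ∀ y ∈ T, y ∈ A → ∃ u, y = U u
  TK : ∀ y ∈ T, (∀ a ∈ A, y * a = a * y) → y ∈ R
  TX : ∀ a ∈ A, ∀ k, (∀ x ∈ A, k * x = x * k) → a * k ∈ T → ∃ r ∈ R, ∃ u, a * k = r * U u
  act : ∀ y, y * t = t * y → (∀ u, ∃ v, y * U u * y⁻¹ = U v) →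
    ∃ w l φ, l ≠ 0 ∧ ∀ u, y * U u * y⁻¹ = U (w * sl l φ u * w⁻¹)
  actT : ∀ y ∈ T, ∃ w φ, ∀ u, y * U u * y⁻¹ = U (w * sl 1 φ u * w⁻¹)
  ker : ∀ y, y * t = t * y → (∀ u, ∃ v, y * U u * y⁻¹ = U v ∧ v.x = u.x) →
    ∃ w k, (∀ x ∈ A, k * x = x * k) ∧ y = U w * k
  ti : ∀ y, y * t = t * y → ∀ u v, u ≠ 1 → y * U u * y⁻¹ = U v →
    ∀ u', ∃ v', y * U u' * y⁻¹ = U v'
  HA : H ≤ A
  Hc : ∀ h ∈ H, ∀ k ∈ H, h * k = k * h
  Hodd : Odd (Nat.card H)
  Hact : ∀ h ∈ H, ∃ l, l ≠ 0 ∧ ∀ u, h * U u * h⁻¹ = U (sl l (RingEquiv.refl F) u)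
  Hex : ∀ k : F, k ≠ 0 → ∃ h ∈ H,
    ∀ u, h * U u * h⁻¹ = U (sl (k * k / cj F q k) (RingEquiv.refl F) u)
  LA : L ≤ A
  Ls : IsSimpleGroup L
  Lna : ¬ IsMulCommutative L
  ZL : ∀ b, U (zz b) ∈ L
  HL : ∀ l : K0 F q, l ≠ 0 → ∃ h ∈ H, h ∈ L ∧
    ∀ u, h * U u * h⁻¹ = U (sl (l : F) (RingEquiv.refl F) u)
  H1L : ∀ h ∈ H, (∀ b, h * U (zz b) = U (zz b) * h) → ∀ x ∈ L, h * x = x * h
  fL : ∀ y ∈ T, (∀ u, y * U u * y⁻¹ = U (sl 1 (sg F q) u)) →
    ∃ b, ∀ x ∈ L, y * U (zz b) * x = x * (y * U (zz b))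
  Lmax : ∀ y ∈ T, (∀ u, y * U u * y⁻¹ = U (sl 1 (sg F q) u)) → (∀ x ∈ L, y * x = x * y) →
    ∀ a ∈ A, y * a = a * y → ∃ x ∈ L, ∀ a' ∈ A, a * a' * a⁻¹ = x * a' * x⁻¹

/-- `R` is elementary, all its involutions have centralizer `C(t)`, and
`C(A) ∩ C(t) = R × O`. -/
structure Ctx (G : Type*) [Group G] (F : Type*) [Field F] [Fintype F] [CharP F 2] (q : ℕ)
    [Fact (Fintype.card F = q ^ 2)] extends Ctx0 G F q where
  O : Subgroup G
  Re : ∀ r ∈ R, r * r = 1
  RC : ∀ r ∈ R, r ≠ 1 → ∀ y, y * r = r * y ↔ y * t = t * y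
  Oodd : Odd (Nat.card O)
  OA : ∀ o ∈ O, ∀ a ∈ A, o * a = a * o
  Ot : ∀ o ∈ O, o * t = t * o
  KO : ∀ k, (∀ x ∈ A, k * x = x * k) → k * t = t * k → ∃ r ∈ R, ∃ o ∈ O, k = r * o

variable {G G' : Type*} [Group G] [Group G'] {F : Type*} [Field F] [Fintype F] [CharP F 2] {q : ℕ}
  [hF : Fact (Fintype.card F = q ^ 2)]

namespace Ctx0

variable (c : Ctx0 G F q)

/-- the elements of `Z` -/
def z (b : K0 F q) : G := c.U (zz b)
/-- `Q = T ∩ A` -/
def Q : Subgroup G := c.U.range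
/-- `Z = Z(Q)` -/
def Z : Subgroup G := (center (UM F q)).map c.U
/-- `X = R Q` -/
def X : Subgroup G := c.R ⊔ c.Q
/-- `V = R Z` -/
def V : Subgroup G := c.R ⊔ c.Z
/-- `s` is conjugate to a non-trivial element of `R` -/
def Tc (s : G) : Prop := ∃ r ∈ c.R, r ≠ 1 ∧ IsConj r s
/-- `y` acts on `Q` exactly as the field automorphism of order two -/
def Ex (y : G) : Prop := y ∈ c.T ∧ ∀ u, y * c.U u * y⁻¹ = c.U (sl 1 (sg F q) u)
/-- `h ∈ H` acts as the scalar `l` -/
def Sc (h : G) (l : F) : Prop := h ∈ c.H ∧ ∀ u, h * c.U u * h⁻¹ = c.U (sl l (RingEquiv.refl F) u)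
/-- fusion of `R` into `V` -/
def VF : Prop := ∃ s ∈ c.V, s ∉ c.R ∧ c.Tc s
/-- outcome: an elementary abelian strongly closed subgroup above `Z` -/
def SCB : Prop := ∃ (S : Sylow 2 G) (B : Subgroup G), c.Z ≤ B ∧ IsElementaryAbelian 2 B ∧
  IsStronglyClosed B (S : Subgroup G)
/-- outcome: `T` is a Sylow 2-subgroup of `G` and `R` is strongly closed in it -/
def SCR : Prop := SylIn 2 c.T ⊤ ∧ IsStronglyClosed c.R c.T

theorem z_add (b d : K0 F q) : c.z (b + d) = c.z b * c.z d := by rw [z, zz_add, map_mul]; rfl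
@[simp] theorem z_zero : c.z 0 = 1 := by rw [z, zz_zero, map_one]
theorem z_inj {b d : K0 F q} : c.z b = c.z d ↔ b = d :=
  ⟨fun h => zz_inj (c.Uinj h), fun h => h ▸ rfl⟩
theorem z_eq_one {b : K0 F q} : c.z b = 1 ↔ b = 0 := by rw [← c.z_zero, z_inj]
theorem mem_Q {y : G} : y ∈ c.Q ↔ ∃ u, y = c.U u := ⟨fun ⟨u, h⟩ => ⟨u, h.symm⟩, fun ⟨u, h⟩ => ⟨u, h.symm⟩⟩
theorem mem_Z {y : G} : y ∈ c.Z ↔ ∃ b, y = c.z b :=
  ⟨fun ⟨u, hu, h⟩ => by
    obtain ⟨b, rfl⟩ := exists_zz (UM.mem_center_iff.1 hu)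
    exact ⟨b, h.symm⟩, fun ⟨b, h⟩ => ⟨zz b, UM.mem_center_iff.2 rfl, h.symm⟩⟩

/-- transport along an isomorphism -/
def map (e : G ≃* G') : Ctx0 G' F q where
  t := e c.t
  R := c.R.comap e.symm.toMonoidHom
  A := c.A.comap e.symm.toMonoidHom
  T := c.T.comap e.symm.toMonoidHom
  H := c.H.comap e.symm.toMonoidHom
  L := c.L.comap e.symm.toMonoidHom
  U := e.toMonoidHom.comp c.U
  q4 := c.q4
  t1 := (map_ne_one_iff _ e.injective).2 c.t1
  t2 := by rw [← map_mul, c.t2, map_one]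
  tR := by simpa using c.tR
  Rc r hr s hs := e.symm.injective (by simpa using c.Rc _ hr _ hs)
  RT := comap_mono c.RT
  RA r hr s hs := e.symm.injective (by simpa using c.RA _ hr _ hs)
  RA1 r hr hs := e.symm.injective (by simpa using c.RA1 _ hr hs)
  Uinj := e.injective.comp c.Uinj
  UA u := by simpa using c.UA u
  UT u := by simpa using c.UT u
  An y hy a ha := by
    simpa using c.An (e.symm y) (by simpa using congrArg e.symm hy) _ ha
  syl := by
    have h := c.syl.map e.toMonoidHom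
    rw [map_equiv_eq_comap_symm', map_equiv_eq_comap_symm'] at h
    convert h using 1
    ext y
    simp only [mem_centralizer_singleton_iff, mem_comap]
    exact ⟨fun h => by simpa using congrArg e.symm h, fun h => e.symm.injective (by simpa using h)⟩
  TA y hy ha := (c.TA _ hy ha).imp fun u h => e.symm.injective (by simpa using h)
  TK y hy h := c.TK _ hy fun a ha => by
    simpa using congrArg e.symm (h (e a) (by simpa using ha))
  TX a ha k hk h := by
    obtain ⟨r, hr, u, h⟩ := c.TX _ ha (e.symm k) (fun x hx => by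
      simpa using congrArg e.symm (hk (e x) (by simpa using hx))) (by simpa using h)
    exact ⟨e r, by simpa using hr, u, e.symm.injective (by simpa using h)⟩
  act y hy h := by
    obtain ⟨w, l, φ, h0, h⟩ := c.act (e.symm y) (by simpa using congrArg e.symm hy) fun u =>
      (h u).imp fun v h => by simpa using congrArg e.symm h
    exact ⟨w, l, φ, h0, fun u => e.symm.injective (by simpa using h u)⟩
  actT y hy := by
    obtain ⟨w, φ, h⟩ := c.actT _ hy
    exact ⟨w, φ, fun u => e.symm.injective (by simpa using h u)⟩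
  ker y hy h := by
    obtain ⟨w, k, hk, h⟩ := c.ker (e.symm y) (by simpa using congrArg e.symm hy) fun u =>
      (h u).imp fun v h => ⟨by simpa using congrArg e.symm h.1, h.2⟩
    exact ⟨w, e k, fun x hx => e.symm.injective (by simpa using hk _ hx),
      e.symm.injective (by simpa using h)⟩
  ti y hy u v hu h u' := (c.ti (e.symm y) (by simpa using congrArg e.symm hy) u v hu
    (by simpa using congrArg e.symm h) u').imp fun v h => e.symm.injective (by simpa using h)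
  HA := comap_mono c.HA
  Hc r hr s hs := e.symm.injective (by simpa using c.Hc _ hr _ hs)
  Hodd := by
    rw [← map_equiv_eq_comap_symm', card_map_of_injective e.injective]; exact c.Hodd
  Hact h hh := (c.Hact _ hh).imp fun l hl => ⟨hl.1, fun u => e.symm.injective (by simpa using hl.2 u)⟩
  Hex k hk := by
    obtain ⟨h, hh, h1⟩ := c.Hex k hk
    exact ⟨e h, by simpa using hh, fun u => e.symm.injective (by simpa using h1 u)⟩
  LA := comap_mono c.LA
  Ls := by
    rw [← map_equiv_eq_comap_symm']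
    have := c.Ls
    exact (e.subgroupMap c.L).symm.isSimpleGroup
  Lna h := c.Lna ⟨⟨fun x y => Subtype.ext (e.injective (by
    rw [coe_mul, coe_mul, map_mul, map_mul]
    exact congrArg Subtype.val (h.1.1 ⟨e x, by simp⟩ ⟨e y, by simp⟩)))⟩⟩
  ZL b := by simpa using c.ZL b
  HL l hl := by
    obtain ⟨h, hh, hL, h1⟩ := c.HL l hl
    exact ⟨e h, by simpa using hh, by simpa using hL, fun u => e.symm.injective (by simpa using h1 u)⟩
  H1L h hh h1 x hx := e.symm.injective (by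
    simpa using c.H1L _ hh (fun b => by simpa using congrArg e.symm (h1 b)) _ hx)
  fL y hy h := (c.fL _ hy fun u => by simpa using congrArg e.symm (h u)).imp fun b hb x hx =>
    e.symm.injective (by simpa using hb _ hx)
  Lmax y hy h h1 a ha h2 := by
    obtain ⟨x, hx, h3⟩ := c.Lmax _ hy (fun u => by simpa using congrArg e.symm (h u))
      (fun x hx => by simpa using congrArg e.symm (h1 (e x) (by simpa using hx))) _ ha
      (by simpa using congrArg e.symm h2)
    exact ⟨e x, by simpa using hx, fun a' ha' => e.symm.injective (by simpa using h3 _ ha')⟩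

/-- the conjugate context -/
def cj (g : G) : Ctx0 G F q := c.map (MulAut.conj g)

end Ctx0

namespace Ctx

variable (c : Ctx G F q)

/-- transport along an isomorphism -/
def map (e : G ≃* G') : Ctx G' F q where
  toCtx0 := c.toCtx0.map e
  O := c.O.comap e.symm.toMonoidHom
  Re r hr := e.symm.injective (by simpa using c.Re _ hr)
  RC r hr h1 y := by
    have := c.RC _ hr ((map_ne_one_iff _ e.symm.injective).2 h1) (e.symm y)
    exact ⟨fun h => e.symm.injective (by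
        simpa [Ctx0.map] using this.1 (by simpa using congrArg e.symm h)),
      fun h => e.symm.injective (by
        simpa using this.2 (by simpa [Ctx0.map] using congrArg e.symm h))⟩
  Oodd := by
    rw [← map_equiv_eq_comap_symm', card_map_of_injective e.injective]; exact c.Oodd
  OA r hr s hs := e.symm.injective (by simpa using c.OA _ hr _ hs)
  Ot r hr := e.symm.injective (by simpa [Ctx0.map] using c.Ot _ hr)
  KO k hk h := by
    obtain ⟨r, hr, o, ho, h⟩ := c.KO (e.symm k) (fun x hx => by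
      simpa using congrArg e.symm (hk (e x) (by simpa [Ctx0.map] using hx)))
      (by simpa [Ctx0.map] using congrArg e.symm h)
    exact ⟨e r, by simpa [Ctx0.map] using hr, e o, by simpa using ho,
      e.symm.injective (by simpa using h)⟩

/-- the conjugate context -/
def cj (g : G) : Ctx G F q := c.map (MulAut.conj g)

end Ctx

/-- The first step: `P = O₂` of the stabiliser of `X > Z` in `N(X)`, with additive coordinates
on `P/Z = R × Q/Z × W/Z`. -/
structure Fr1 (c : Ctx G F q) where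
  P : Subgroup G
  e : G → K0 F q
  a : G → F
  b : G → K0 F q
  cc : K0 F q
  pg : IsPGroup 2 P
  e_mul : ∀ y ∈ P, ∀ y' ∈ P, e (y * y') = e y + e y'
  a_mul : ∀ y ∈ P, ∀ y' ∈ P, a (y * y') = a y + a y'
  b_mul : ∀ y ∈ P, ∀ y' ∈ P, b (y * y') = b y + b y'
  ker : ∀ y ∈ P, e y = 0 → a y = 0 → b y = 0 → ∃ k, y = c.z k
  mU : ∀ u, c.U u ∈ P ∧ e (c.U u) = 0 ∧ a (c.U u) = u.x ∧ b (c.U u) = 0
  mR : ∀ r ∈ c.R, r ∈ P ∧ a r = 0 ∧ b r = 0
  eR : ∀ r ∈ c.R, e r = 0 → r = 1
  et : e c.t = 1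
  eP : ∀ y ∈ P, ∃ r ∈ c.R, e y = e r
  surj : ∀ k, ∃ w ∈ P, e w = 0 ∧ a w = 0 ∧ b w = k
  sq : ∀ y ∈ P, y * y = c.z (nm q (a y) + (cc + e y) * b y)
  comm : ∀ y ∈ P, ∀ y' ∈ P,
    y * y' = y' * y * c.z (cm q (a y) (a y') + e y * b y' + e y' * b y)
  nrm : ∀ g ∈ normalizer (c.X : Set G), g ∈ normalizer (P : Set G)
  act : ∀ y, y * c.t = c.t * y → ∀ w l φ, (∀ u, y * c.U u * y⁻¹ = c.U (w * sl l φ u * w⁻¹)) →
    ∀ p ∈ P, y * p * y⁻¹ ∈ P ∧ e (y * p * y⁻¹) = e p ∧ a (y * p * y⁻¹) = l * φ (a p) ∧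
      b (y * p * y⁻¹) = nm q l * kf φ (b p)
  Oc : ∀ o ∈ c.O, ∀ p ∈ P, o * p = p * o
  max : ∀ y, (∃ k, y ^ 2 ^ k = 1) → (∀ x ∈ c.X, ∃ k, y * x * y⁻¹ = x * c.z k) → y ∈ P

namespace Fr1

variable {c : Ctx G F q} (f : Fr1 c)

/-- `W` -/
def W : Subgroup G where
  carrier := {y | y ∈ f.P ∧ f.e y = 0 ∧ f.a y = 0}
  one_mem' := ⟨one_mem _, by simpa using (f.mU 1).2.1, by simpa using (f.mU 1).2.2.1⟩
  mul_mem' hx hy := ⟨mul_mem hx.1 hy.1, by rw [f.e_mul _ hx.1 _ hy.1, hx.2.1, hy.2.1, add_zero],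
    by rw [f.a_mul _ hx.1 _ hy.1, hx.2.2, hy.2.2, add_zero]⟩
  inv_mem' {x} hx := ⟨inv_mem hx.1, by
    have := f.e_mul _ hx.1 _ (inv_mem hx.1)
    rwa [mul_inv_cancel, ← map_one c.U, (f.mU 1).2.1, hx.2.1, zero_add, eq_comm] at this, by
    have := f.a_mul _ hx.1 _ (inv_mem hx.1)
    rwa [mul_inv_cancel, ← map_one c.U, (f.mU 1).2.2.1, hx.2.2, zero_add, eq_comm] at this⟩

/-- `P T` -/
def Ph : Subgroup G := f.P ⊔ c.T

/-- no conjugate of an involution of `R` lies in `P` outside `V` -/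
def Lam0 : Prop := ∀ s ∈ f.P, c.Tc s → f.b s = 0

/-- transport along an isomorphism -/
def map (e : G ≃* G') : Fr1 (c.map e) where
  P := f.P.comap e.symm.toMonoidHom
  e y := f.e (e.symm y)
  a y := f.a (e.symm y)
  b y := f.b (e.symm y)
  cc := f.cc
  pg := by rw [← map_equiv_eq_comap_symm']; exact f.pg.map _
  e_mul y hy y' hy' := by rw [map_mul]; exact f.e_mul _ hy _ hy'
  a_mul y hy y' hy' := by rw [map_mul]; exact f.a_mul _ hy _ hy'
  b_mul y hy y' hy' := by rw [map_mul]; exact f.b_mul _ hy _ hy'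
  ker y hy h1 h2 h3 := (f.ker _ hy h1 h2 h3).imp fun k h => e.symm.injective (by
    simpa [Ctx.map, Ctx0.map, Ctx0.z] using h)
  mU u := by simpa [Ctx.map, Ctx0.map] using f.mU u
  mR r hr := f.mR _ hr
  eR r hr h := e.symm.injective (by simpa using f.eR _ hr h)
  et := by simpa [Ctx.map, Ctx0.map] using f.et
  eP y hy := by
    obtain ⟨r, hr, h⟩ := f.eP _ hy
    exact ⟨e r, by simpa [Ctx.map, Ctx0.map] using hr, by simpa using h⟩
  surj k := by
    obtain ⟨w, hw, h⟩ := f.surj k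
    exact ⟨e w, by simpa using hw, by simpa using h⟩
  sq y hy := e.symm.injective (by simpa [Ctx.map, Ctx0.map, Ctx0.z] using f.sq _ hy)
  comm y hy y' hy' := e.symm.injective (by
    simpa [Ctx.map, Ctx0.map, Ctx0.z] using f.comm _ hy _ hy')
  nrm g hg := by
    have hX : (c.map e).X = c.X.comap e.symm.toMonoidHom := by
      simp only [← map_equiv_eq_comap_symm', Ctx0.X, Subgroup.map_sup, Ctx0.Q, Ctx.map, Ctx0.map,
        MonoidHom.range_comp]
    rw [hX] at hg
    have h1 : e.symm g ∈ normalizer (c.X : Set G) := mem_normalizer_iff.2 fun x => by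
      simpa using mem_normalizer_iff.1 hg (e x)
    exact mem_normalizer_iff.2 fun x => by
      simpa using mem_normalizer_iff.1 (f.nrm _ h1) (e.symm x)
  act y hy w l φ h p hp := by
    simpa using f.act (e.symm y) (by simpa [Ctx.map, Ctx0.map] using congrArg e.symm hy) w l φ
      (fun u => by simpa [Ctx.map, Ctx0.map] using congrArg e.symm (h u)) _ hp
  Oc o ho p hp := e.symm.injective (by simpa using f.Oc _ ho _ hp)
  max y hy h := by
    have hX : (c.map e).X = c.X.comap e.symm.toMonoidHom := by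
      simp only [← map_equiv_eq_comap_symm', Ctx0.X, Subgroup.map_sup, Ctx0.Q, Ctx.map, Ctx0.map,
        MonoidHom.range_comp]
    refine f.max _ (hy.imp fun k hk => by simpa using congrArg e.symm hk) fun x hx => ?_
    exact (h (e x) (by simpa [hX] using hx)).imp fun k hk => by
      simpa [Ctx.map, Ctx0.map, Ctx0.z] using congrArg e.symm hk

/-- the conjugate frame -/
def cj (g : G) : Fr1 (c.cj g) := f.map (MulAut.conj g)

end Fr1

end Cfsg.Agent.GMS
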