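import Cfsg.Agent.GMS.Top0

set_option autoImplicit false
set_option linter.unusedSectionVars false

namespace Cfsg.Agent.GMS

open Subgroup H10 H91
open H42 hiding SylIn

variable {G : Type*} [Group G] [Finite G] {F : Type*} [Field F] [Fintype F] [CharP F 2] {q : ℕ}
  [hF : Fact (Fintype.card F = q ^ 2)]

theorem ab1_sym {x : F} (hx : x + cj F q x = 1) : cj F q x + cj F q (cj F q x) = 1 := by
  rw [H10.cj_cj, add_comm, hx]

theorem ab1_comm {x y : G} (hx : x * x = 1) (hy : y * y = 1) (h : x * y * (x * y) = 1) : x * y = y * x := by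
  rw [← inv_eq_of_mul_eq_one_right h, mul_inv_rev, inv_eq_of_mul_eq_one_right hx,
    inv_eq_of_mul_eq_one_right hy]

namespace Fr2

variable {c : Ctx G F q} (f : Fr2 c)

theorem ab1_b1 : f.b 1 = 0 := by simpa using (f.mZ 0).1
theorem ab1_k1 : f.k 1 = 0 := by simpa using (f.mZ 0).2

theorem ab1_ln (x ξ : F) : ∃ u ∈ f.Ln x, f.d u = ξ := by
  obtain ⟨u, hu, h1, h2⟩ := f.surj ξ (x * ξ)
  exact ⟨u, ⟨hu, by rw [h1, h2]⟩, h1⟩

theorem ab1_W (x : F) : f.W ≤ f.Ln x := fun w hw => ⟨hw.1, by rw [hw.2.1, hw.2.2, mul_zero]⟩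

theorem ab1_mem_W {x : F} {u : G} (hu : u ∈ f.Ln x) (h : f.d u = 0) : u ∈ f.W :=
  ⟨hu.1, h, by rw [hu.2, h, mul_zero]⟩

theorem ab1_t {y : G} (hy : y ∈ f.Y) : c.t * y * c.t⁻¹ ∈ f.Y ∧ f.d (c.t * y * c.t⁻¹) = f.d y := by
  have := f.act c.t rfl 1 1 (RingEquiv.refl F) (fun u => by
    rw [c.bs_RU c.tR]; simp) y hy
  simpa using this

theorem ab1_alpha {g : G} {x : F} (hg : g ∈ normalizer (f.Ln x : Set G))
    (hW : g ∈ normalizer (f.W : Set G)) : ∃ α : F → F, (∀ u ∈ f.Ln x, f.d (g * u * g⁻¹) = α (f.d u)) ∧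
      (∀ ξ ζ, α (ξ + ζ) = α ξ + α ζ) ∧ ∀ ξ, α ξ = 0 → ξ = 0 := by
  choose u hu du using f.ab1_ln x
  have cj : ∀ v ∈ f.Ln x, g * v * g⁻¹ ∈ f.Y := fun v hv => (conj_mem_of_mem_normalizer hg hv).1
  have key : ∀ v ∈ f.Ln x, f.d (g * v * g⁻¹) = f.d (g * u (f.d v) * g⁻¹) := fun v hv => by
    have h1 := f.ab1_mem_W (mul_mem hv (hu (f.d v)))
      (by rw [f.d_mul _ hv.1 _ (hu _).1, du, CharTwo.add_self_eq_zero])
    have h2 := (conj_mem_of_mem_normalizer hW h1).2.1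
    rwa [← conj_mul, f.d_mul _ (cj v hv) _ (cj _ (hu _)), CharTwo.add_eq_zero] at h2
  refine ⟨fun ξ => f.d (g * u ξ * g⁻¹), key, fun ξ ζ => ?_, fun ξ h => ?_⟩
  · have := key _ (mul_mem (hu ξ) (hu ζ))
    rw [f.d_mul _ (hu _).1 _ (hu _).1, du, du, ← conj_mul, f.d_mul _ (cj _ (hu _)) _ (cj _ (hu _))] at this
    exact this.symm
  · have := (mem_normalizer_iff.1 hW _).2 (f.ab1_mem_W (conj_mem_of_mem_normalizer hg (hu ξ)) h)
    rw [← du ξ, this.2.1]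

variable {x : F} (hx : x + cj F q x = 1) (hd : nm q x = f.dl)
include hx hd

theorem ab1_sq {y : G} (hy : y ∈ f.Ln x) : y * y = 1 := by
  have h2 : (2 : F) = 0 := CharTwo.two_eq_zero
  obtain ⟨h1, h3⟩ := f.sq y hy.1
  refine f.ker _ (mul_mem hy.1 hy.1) (by rw [f.d_mul _ hy.1 _ hy.1, CharTwo.add_self_eq_zero])
    (by rw [f.a_mul _ hy.1 _ hy.1, CharTwo.add_self_eq_zero]) ?_ ?_
  · rw [h1, hy.2]
    refine k0_ext ?_
    simp only [AddMemClass.coe_add, coe_nm, coe_cm, map_mul, ZeroMemClass.coe_zero]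
    linear_combination (cj F q (f.d y) * f.d y) * hx + (cj F q (f.d y) * f.d y) * h2
  · rw [h3, hy.2, nm_mul, hd, k0_add_self]

theorem ab_inv {y : G} (hy : y ∈ f.Y) : y * y = 1 ↔ y ∈ f.Ln x ∨ y ∈ f.Ln (cj F q x) := by
  refine ⟨fun h => ?_, fun h => h.elim (f.ab1_sq hx hd) (f.ab1_sq (ab1_sym hx) ((nm_cj x).trans hd))⟩
  have h2 : (2 : F) = 0 := CharTwo.two_eq_zero
  obtain ⟨h1, h3⟩ := f.sq y hy
  rw [h, ab1_b1] at h1
  rw [h, ab1_k1, ← hd] at h3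
  by_cases h0 : f.d y = 0
  · rw [h0, nm_zero, mul_zero, add_zero, eq_comm, nm_eq_zero] at h3
    exact Or.inl ⟨hy, by rw [h0, h3, mul_zero]⟩
  have e1 := congrArg Subtype.val h1
  have e3 := congrArg Subtype.val h3
  simp only [AddMemClass.coe_add, coe_nm, coe_cm, ZeroMemClass.coe_zero, MulMemClass.coe_mul] at e1 e3
  have e : cj F q (f.d y) * ((f.a y - x * f.d y) * (f.a y - cj F q x * f.d y)) = 0 := by
    linear_combination (-(cj F q (f.d y) * f.a y * f.d y)) * hx - f.a y * e1 - f.d y * e3 -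
      (cj F q (f.d y) * f.a y * f.d y + cj F q (f.a y) * f.d y * f.a y) * h2
  rcases mul_eq_zero.1 ((mul_eq_zero.1 e).resolve_left (by simpa using h0)) with e | e
  · exact Or.inl ⟨hy, sub_eq_zero.1 e⟩
  · exact Or.inr ⟨hy, sub_eq_zero.1 e⟩

theorem ab_elem : IsElementaryAbelian 2 (f.Ln x) :=
  ⟨⟨⟨fun u v => Subtype.ext (ab1_comm (f.ab1_sq hx hd u.2) (f.ab1_sq hx hd v.2)
    (f.ab1_sq hx hd (mul_mem u.2 v.2)))⟩⟩, fun a ha => (pow_two a).trans (f.ab1_sq hx hd ha)⟩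

theorem ab_prod {y : G} (hy : y ∈ f.Y) : ∃ u ∈ f.Ln x, ∃ v ∈ f.Ln (cj F q x), y = u * v := by
  have h2 : (2 : F) = 0 := CharTwo.two_eq_zero
  obtain ⟨u, hu, du⟩ := f.ab1_ln x (f.a y + cj F q x * f.d y)
  refine ⟨u, hu, u⁻¹ * y, ⟨mul_mem (inv_mem hu.1) hy, ?_⟩, by group⟩
  rw [f.a_mul _ (inv_mem hu.1) _ hy, f.d_mul _ (inv_mem hu.1) _ hy, f.a_inv hu.1, f.d_inv hu.1, hu.2, du]
  linear_combination (f.a y + cj F q x * f.d y) * hx +
    (f.a y - cj F q x * f.a y - cj F q x * cj F q x * f.d y) * h2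

theorem ab_inf : f.Ln x ⊓ f.Ln (cj F q x) = f.W := by
  refine le_antisymm (fun y hy => f.ab1_mem_W hy.1 ?_) (le_inf (f.ab1_W _) (f.ab1_W _))
  have h2 : (2 : F) = 0 := CharTwo.two_eq_zero
  linear_combination (-f.d y) * hx - hy.1.2 + hy.2.2 + (cj F q x * f.d y) * h2

theorem ab_comm {u v : G} (hu : u ∈ f.Ln x) (hv : v ∈ f.Ln (cj F q x)) :
    f.b (u * v * u⁻¹ * v⁻¹) = cm q (f.d u) (f.d v) ∧
      f.k (u * v * u⁻¹ * v⁻¹) = cm q (x * f.d u) (f.d v) := by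
  have h2 : (2 : F) = 0 := CharTwo.two_eq_zero
  obtain ⟨-, h1, h3⟩ := f.comm hu.1 hv.1
  rw [h1, h3, hu.2, hv.2, ← hd]
  constructor <;> refine k0_ext ?_ <;>
    simp only [AddMemClass.coe_add, coe_nm, coe_cm, map_mul, MulMemClass.coe_mul, H10.cj_cj]
  · linear_combination (cj F q (f.d u) * cj F q x * f.d v + x * cj F q (f.d v) * f.d u) * h2
  · linear_combination (cj F q (f.d u) * cj F q x * f.d v + x * cj F q (f.d v) * f.d u) * hx

theorem ab1_not {g : G} (hg : g ∈ normalizer (f.Y : Set G)) {x' : F}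
    (h1 : ∀ u ∈ f.Ln x, g * u * g⁻¹ ∈ f.Ln x') (h2 : ∀ u ∈ f.Ln (cj F q x), g * u * g⁻¹ ∈ f.Ln x') :
    False := by
  obtain ⟨y, hy, e1, e2⟩ := f.surj 0 1
  obtain ⟨u, hu, v, hv, e⟩ := f.ab_prod hx hd (conj_mem_of_mem_normalizer (inv_mem hg) hy)
  have h3 := mul_mem (h1 u hu) (h2 v hv)
  rw [conj_mul, ← e, show g * (g⁻¹ * y * g⁻¹⁻¹) * g⁻¹ = y by group] at h3
  simpa [e1, e2] using h3.2

theorem ab1_or {g : G} (hg : g ∈ normalizer (f.Y : Set G)) {D : Subgroup G} (hD : D ≤ f.Y)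
    (h2 : ∀ u ∈ D, u * u = 1) : (∀ u ∈ D, g * u * g⁻¹ ∈ f.Ln x) ∨ ∀ u ∈ D, g * u * g⁻¹ ∈ f.Ln (cj F q x) := by
  have : (H42.cj g D : Set G) ⊆ f.Ln x ∪ f.Ln (cj F q x) := by
    rintro _ ⟨u, hu, rfl⟩
    exact (f.ab_inv hx hd (conj_mem_of_mem_normalizer hg (hD hu))).1 (by
      rw [conj_mul, h2 u hu]; group)
  exact (SubgroupClass.subset_union.1 this).imp cj_le_iff.1 cj_le_iff.1

theorem ab_nrm {g : G} (hg : g ∈ normalizer (f.Y : Set G)) :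
    (g ∈ normalizer (f.Ln x : Set G) ∧ g ∈ normalizer (f.Ln (cj F q x) : Set G)) ∨
      ((∀ u ∈ f.Ln x, g * u * g⁻¹ ∈ f.Ln (cj F q x)) ∧
        ∀ v ∈ f.Ln (cj F q x), g * v * g⁻¹ ∈ f.Ln x) := by
  rcases f.ab1_or hx hd hg (D := f.Ln x) (fun _ h => h.1) (fun _ h => f.ab1_sq hx hd h) with h1 | h1 <;>
  rcases f.ab1_or hx hd hg (D := f.Ln (cj F q x)) (fun _ h => h.1)
    (fun _ h => f.ab1_sq (ab1_sym hx) ((nm_cj x).trans hd) h) with h2 | h2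
  · exact (f.ab1_not hx hd hg h1 h2).elim
  · exact Or.inl ⟨mem_normalizer_of_conj_mem h1, mem_normalizer_of_conj_mem h2⟩
  · exact Or.inr ⟨h1, h2⟩
  · exact (f.ab1_not hx hd hg h1 h2).elim

theorem ab1_tsw {u : G} (hu : u ∈ f.Ln x) : c.t * u * c.t⁻¹ ∈ f.Ln (cj F q x) := by
  have h2 : (2 : F) = 0 := CharTwo.two_eq_zero
  refine ⟨(f.ab1_t hu.1).1, ?_⟩
  rw [f.ta u hu.1, (f.ab1_t hu.1).2, hu.2]
  linear_combination (f.d u) * hx + (f.d u - cj F q x * f.d u) * h2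

theorem ab1_tsw' {u : G} (hu : u ∈ f.Ln (cj F q x)) : c.t * u * c.t⁻¹ ∈ f.Ln x := by
  have := f.ab1_tsw (ab1_sym hx) ((nm_cj x).trans hd) hu
  rwa [H10.cj_cj] at this

/-- the commutator of `u ∈ A₁`, `v ∈ B₁` determines and is determined by `d u * σ (d v)` -/
theorem ab1_m {u v u' v' : G} (hu : u ∈ f.Ln x) (hv : v ∈ f.Ln (cj F q x)) (hu' : u' ∈ f.Ln x)
    (hv' : v' ∈ f.Ln (cj F q x)) : u * v * u⁻¹ * v⁻¹ = u' * v' * u'⁻¹ * v'⁻¹ ↔
      f.d u * cj F q (f.d v) = f.d u' * cj F q (f.d v') := by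
  have h2 : (2 : F) = 0 := CharTwo.two_eq_zero
  obtain ⟨a1, a2⟩ := f.ab_comm hx hd hu hv
  obtain ⟨b1, b2⟩ := f.ab_comm hx hd hu' hv'
  refine ⟨fun e => ?_, fun e => ?_⟩
  · rw [e, b1] at a1
    rw [e, b2] at a2
    have e1 := congrArg Subtype.val a1
    have e2 := congrArg Subtype.val a2
    simp only [coe_cm, map_mul] at e1 e2
    linear_combination (f.d u' * cj F q (f.d v') - f.d u * cj F q (f.d v)) * hx + cj F q x * e1 - e2 +
      (cj F q x * (f.d u * cj F q (f.d v) - f.d u' * cj F q (f.d v'))) * h2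
  · have e' := congrArg (cj F q) e
    simp only [map_mul, H10.cj_cj] at e'
    refine f.W_ext (f.comm hu.1 hv.1).1 (f.comm hu'.1 hv'.1).1 ?_ ?_
    · rw [a1, b1]
      refine k0_ext ?_
      simp only [coe_cm]
      linear_combination e + e'
    · rw [a2, b2]
      refine k0_ext ?_
      simp only [coe_cm, map_mul]
      linear_combination x * e + cj F q x * e'

theorem ab1_scal {g : G} (h1 : g ∈ normalizer (f.Ln x : Set G))
    (h2 : g ∈ normalizer (f.Ln (cj F q x) : Set G)) : ∃ (l l' : F) (φ : F ≃+* F), l ≠ 0 ∧ l' ≠ 0 ∧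
      (∀ u ∈ f.Ln x, f.d (g * u * g⁻¹) = l * φ (f.d u)) ∧
      ∀ u ∈ f.Ln (cj F q x), f.d (g * u * g⁻¹) = l' * φ (f.d u) := by
  have hW : g ∈ normalizer (f.W : Set G) := mem_normalizer_of_conj_mem fun w hw => by
    rw [← f.ab_inf hx hd] at hw ⊢
    exact ⟨conj_mem_of_mem_normalizer h1 hw.1, conj_mem_of_mem_normalizer h2 hw.2⟩
  obtain ⟨α, a1, a2, a3⟩ := f.ab1_alpha h1 hW
  obtain ⟨β, b1, -, b3⟩ := f.ab1_alpha h2 hW
  have b0 : cj F q (β 1) ≠ 0 := fun e => one_ne_zero (b3 1 (by simpa using e))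
  obtain ⟨φ, p1, p2, p3, p4⟩ := autot α (fun ζ => cj F q (β (cj F q ζ))) (fun m => α m * cj F q (β 1))
    (fun m m' => by rw [a2, add_mul]) (fun m m' e => by
      have := a3 (m + m') (by rw [a2, mul_right_cancel₀ b0 e, CharTwo.add_self_eq_zero])
      exact CharTwo.add_eq_zero.1 this) (fun ξ ζ => by
      obtain ⟨u, hu, du⟩ := f.ab1_ln x ξ
      obtain ⟨v, hv, dv⟩ := f.ab1_ln (cj F q x) (cj F q ζ)
      obtain ⟨u', hu', du'⟩ := f.ab1_ln x (ξ * ζ)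
      obtain ⟨v', hv', dv'⟩ := f.ab1_ln (cj F q x) 1
      have e := (f.ab1_m hx hd hu' hv' hu hv).2 (by rw [du, dv, du', dv', H10.cj_cj, map_one, mul_one])
      have := (f.ab1_m hx hd (conj_mem_of_mem_normalizer h1 hu') (conj_mem_of_mem_normalizer h2 hv')
        (conj_mem_of_mem_normalizer h1 hu) (conj_mem_of_mem_normalizer h2 hv)).1 (by
          have := congrArg (fun z => g * z * g⁻¹) e
          convert this using 1 <;> group)
      rwa [a1 _ hu, a1 _ hu', b1 _ hv, b1 _ hv', du, dv, du', dv'] at this)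
  refine ⟨α 1, β 1, φ, p3, fun e => b0 (by rw [e, map_zero]), fun u hu => by rw [a1 u hu, p1],
    fun u hu => ?_⟩
  have := congrArg (cj F q) (p2 (cj F q (f.d u)))
  simp only [H10.cj_cj, map_mul, map_one, map_cj] at this
  rw [b1 u hu, this]

theorem ab1_fix {h : G} {k : ℕ} (hk : h ^ 2 ^ k = 1) (hn : h ∈ normalizer (f.Ln x : Set G)) {l : F}
    (e : ∀ u ∈ f.Ln x, f.d (h * u * h⁻¹) = l * f.d u) {u : G} (hu : u ∈ f.Ln x) :
    f.d (h * u * h⁻¹) = f.d u := by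
  have key : ∀ n : ℕ, ∀ u ∈ f.Ln x, f.d (h ^ n * u * (h ^ n)⁻¹) = l ^ n * f.d u := fun n => by
    induction n with
    | zero => simp
    | succ n ih =>
      intro u hu
      rw [show h ^ (n + 1) * u * (h ^ (n + 1))⁻¹ = h ^ n * (h * u * h⁻¹) * (h ^ n)⁻¹ by
        rw [pow_succ]; group, ih _ (conj_mem_of_mem_normalizer hn hu), e u hu, pow_succ, mul_assoc]
  obtain ⟨v, hv, dv⟩ := f.ab1_ln x 1
  have := key (2 ^ k) v hv
  rw [hk, dv] at this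
  rw [e u hu, eq_one_of_pow (l := l) (k := k) (by simpa [dv] using this.symm), one_mul]

theorem ab1_ns {S : Subgroup G} (hS : IsPGroup 2 S) (hY : f.Y ⊔ c.T ≤ S)
    (hn : S ≤ normalizer (f.Y : Set G)) {g : G} (hg : g ∈ S) (h1 : g ∈ normalizer (f.Ln x : Set G))
    (h2 : g ∈ normalizer (f.Ln (cj F q x) : Set G)) : g ∈ f.Y ⊔ c.T := by
  have tS : c.t ∈ S := hY (mem_sup_right (c.RT c.tR))
  have ti : c.t⁻¹ = c.t := inv_eq_of_mul_eq_one_right c.t2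
  obtain ⟨l, l', φ, l0, l0', a, b⟩ := f.ab1_scal hx hd h1 h2
  set h := g⁻¹ * c.t * g * c.t⁻¹ with hh
  have hS' : h ∈ S := mul_mem (mul_mem (mul_mem (inv_mem hg) tS) hg) (inv_mem tS)
  obtain ⟨k, hk⟩ := hS ⟨h, hS'⟩
  have hk' : h ^ 2 ^ k = 1 := congrArg Subtype.val hk
  have e0 : ∀ u, h * u * h⁻¹ = g⁻¹ * (c.t * (g * (c.t * u * c.t⁻¹) * g⁻¹) * c.t⁻¹) * g⁻¹⁻¹ := fun u => by
    rw [hh, ti]; simp only [mul_inv_rev, ti]; group
  have n1 : h ∈ normalizer (f.Ln x : Set G) := mem_normalizer_of_conj_mem fun u hu => by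
    rw [e0]
    exact conj_mem_of_mem_normalizer (inv_mem h1)
      (f.ab1_tsw' hx hd (conj_mem_of_mem_normalizer h2 (f.ab1_tsw hx hd hu)))
  have n2 : h ∈ normalizer (f.Ln (cj F q x) : Set G) := mem_normalizer_of_conj_mem fun u hu => by
    rw [e0]
    exact conj_mem_of_mem_normalizer (inv_mem h2)
      (f.ab1_tsw hx hd (conj_mem_of_mem_normalizer h1 (f.ab1_tsw' hx hd hu)))
  have e1 : ∀ u, g * (h * u * h⁻¹) * g⁻¹ = c.t * (g * (c.t * u * c.t⁻¹) * g⁻¹) * c.t⁻¹ := fun u => by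
    rw [e0]; group
  have d1 : ∀ u ∈ f.Ln x, f.d (h * u * h⁻¹) = f.d u := fun u hu =>
    f.ab1_fix hx hd hk' n1 (l := φ.symm (l' / l)) (fun u hu => φ.injective (by
      have := a _ (conj_mem_of_mem_normalizer n1 hu)
      rw [e1, (f.ab1_t (conj_mem_of_mem_normalizer h2 (f.ab1_tsw hx hd hu)).1).2,
        b _ (f.ab1_tsw hx hd hu), (f.ab1_t hu.1).2] at this
      rw [map_mul, RingEquiv.apply_symm_apply]
      field_simp
      linear_combination -this)) hu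
  have d2 : ∀ u ∈ f.Ln (cj F q x), f.d (h * u * h⁻¹) = f.d u := fun u hu =>
    f.ab1_fix (ab1_sym hx) ((nm_cj x).trans hd) hk' n2 (l := φ.symm (l / l')) (fun u hu => φ.injective (by
      have := b _ (conj_mem_of_mem_normalizer n2 hu)
      rw [e1, (f.ab1_t (conj_mem_of_mem_normalizer h1 (f.ab1_tsw' hx hd hu)).1).2,
        a _ (f.ab1_tsw' hx hd hu), (f.ab1_t hu.1).2] at this
      rw [map_mul, RingEquiv.apply_symm_apply]
      field_simp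
      linear_combination -this)) hu
  have hY' : h ∈ f.Y := f.faith hS (le_sup_left.trans hY) tS hn hS' fun y hy => by
    obtain ⟨u, hu, v, hv, rfl⟩ := f.ab_prod hx hd hy
    have u1 := conj_mem_of_mem_normalizer n1 hu
    have v1 := conj_mem_of_mem_normalizer n2 hv
    rw [← conj_mul, f.d_mul _ u1.1 _ v1.1, f.a_mul _ u1.1 _ v1.1, f.d_mul _ hu.1 _ hv.1,
      f.a_mul _ hu.1 _ hv.1, u1.2, v1.2, hu.2, hv.2, d1 u hu, d2 v hv]
    exact ⟨rfl, rfl⟩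
  obtain ⟨u, hu, e⟩ := f.nrm_t (g := g⁻¹) (by rw [inv_inv]; exact hY')
  have hT : S ⊓ centralizer {c.t} = c.T := c.syl.eq_of_le (hS.to_le inf_le_left)
    (le_inf (le_sup_right.trans hY) c.syl.le) inf_le_right
  have : u⁻¹ * g⁻¹ ∈ c.T := hT.le ⟨S.mul_mem (inv_mem (hY (mem_sup_left hu))) (inv_mem hg),
    mem_centralizer_singleton_iff.2 e⟩
  have := mul_mem (inv_mem (mem_sup_right this : _ ∈ f.Y ⊔ c.T)) (inv_mem (mem_sup_left hu))
  simpa using this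

/-- `Y T` is a Sylow 2-subgroup of `N(Y)` -/
theorem ab_syl0 : SylIn 2 (f.Y ⊔ c.T) (normalizer (f.Y : Set G)) := by
  refine sylIn_of_maximal (sup_le le_normalizer f.T_nrm)
    (IsPGroup.to_sup_of_normal_left' f.pg c.syl.isPGroup f.T_nrm) fun S hS hY hn g hg => ?_
  rcases f.ab_nrm hx hd (hn hg) with ⟨h1, h2⟩ | ⟨h1, h2⟩
  · exact f.ab1_ns hx hd hS hY hn hg h1 h2
  · have tT : c.t ∈ f.Y ⊔ c.T := mem_sup_right (c.RT c.tR)
    have e : ∀ u, c.t * g * u * (c.t * g)⁻¹ = c.t * (g * u * g⁻¹) * c.t⁻¹ := fun u => by group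
    have := f.ab1_ns hx hd hS hY hn (mul_mem (hY tT) hg)
      (mem_normalizer_of_conj_mem fun u hu => e u ▸ f.ab1_tsw' hx hd (h1 u hu))
      (mem_normalizer_of_conj_mem fun u hu => e u ▸ f.ab1_tsw hx hd (h2 u hu))
    simpa using mul_mem (inv_mem tT) this

end Fr2

end Cfsg.Agent.GMS
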