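import Cfsg.Agent.GMS.AB1

set_option autoImplicit false
set_option linter.unusedSectionVars false

namespace Cfsg.Agent.GMS

open Subgroup H10 H91
open H42 hiding SylIn

variable {G : Type*} [Group G] [Finite G] {F : Type*} [Field F] [Fintype F] [CharP F 2] {q : ℕ}
  [hF : Fact (Fintype.card F = q ^ 2)]

theorem ab2_idx {E K : Subgroup G} (h : ∀ a ∈ E, ∀ b ∈ E, a ∈ K ∨ b ∈ K ∨ a * b ∈ K) :
    Nat.card E ≤ 2 * Nat.card ↥(E ⊓ K) := by
  have h1 : (K.subgroupOf E).index ∣ 2 := by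
    by_cases hK : E ≤ K
    · rw [subgroupOf_eq_top.2 hK, index_top]; exact one_dvd _
    obtain ⟨x, hx, xK⟩ := SetLike.not_le_iff_exists.1 hK
    exact index_dvd_two_iff.2 ⟨⟨x, hx⟩, fun b => (h b b.2 x hx).elim Or.inr fun k =>
      k.elim (fun k => (xK k).elim) Or.inl⟩
  have h2 := H91.card_mul_relIndex (inf_le_left : E ⊓ K ≤ E)
  rw [inf_relIndex_left] at h2
  have := Nat.le_of_dvd two_pos h1
  rw [← h2, mul_comm]
  exact Nat.mul_le_mul_right _ this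

theorem ab2_lt {C D : Subgroup G} (h : C ≤ D) {s : G} (hs : s ∈ D) (h' : s ∉ C) :
    2 * Nat.card C ≤ Nat.card D := by
  have h1 := H91.card_mul_relIndex h
  have h2 : C.relIndex D ≠ 1 := fun e => h' (relIndex_eq_one.1 e hs)
  have h3 : C.relIndex D ≠ 0 := index_ne_zero_of_finite
  rw [← h1, mul_comm]
  exact Nat.mul_le_mul_left _ (by omega)

namespace Fr2

variable {c : Ctx G F q} (f : Fr2 c)

theorem ab2_mem {K : Subgroup G} (hK : K ≤ c.T) {y : G} (hy : y ∈ f.Y ⊔ K) :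
    ∃ u ∈ f.Y, ∃ k ∈ K, y = u * k := by
  rw [sup_comm] at hy
  obtain ⟨k, hk, u, hu, rfl⟩ := exists_mul_of_mem_sup (hK.trans f.T_nrm) hy
  exact ⟨_, conj_mem_of_mem_normalizer (f.T_nrm (hK hk)) hu, k, hk, by group⟩

theorem ab2_M {y : G} (hy : y ∈ f.Y ⊔ c.X) : y ∈ f.Y ∨ c.t * y ∈ f.Y := by
  obtain ⟨u, hu, k, hk, rfl⟩ := f.ab2_mem c.XT hy
  obtain ⟨r, hr, v, rfl⟩ := c.mem_X.1 hk
  rcases f.R2 r hr with rfl | rfl
  · exact Or.inl (mul_mem hu (by rw [one_mul]; exact (f.mU v).1))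
  · exact Or.inr (by
      have := mul_mem (f.ab1_t hu).1 (f.mU v).1
      rw [inv_eq_of_mul_eq_one_right c.t2] at this
      convert this using 1; group)

/-- `y` induces the field automorphism of order two -/
def Ab2O (y : G) : Prop := ∃ u ∈ f.Y, ∃ s, c.Ex s ∧ y = u * s

theorem ab2_cases {y : G} (hy : y ∈ f.Y ⊔ c.T) (h2 : y * y = 1) : y ∈ f.Y ⊔ c.X ∨ f.Ab2O y := by
  obtain ⟨u, hu, k, hk, rfl⟩ := f.ab2_mem le_rfl hy
  by_cases hX : k ∈ c.X
  · exact Or.inl (mul_mem (mem_sup_left hu) (mem_sup_right hX))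
  have h1 : k * k ∈ f.Y := by
    have := inv_mem (mul_mem hu (conj_mem_of_mem_normalizer (f.T_nrm hk) hu))
    rwa [show (u * (k * u * k⁻¹))⁻¹ = k * k * (u * k * (u * k))⁻¹ by group, h2, inv_one, mul_one] at this
  obtain ⟨v, s, hs, rfl⟩ := c.outer hk hX
    (mem_sup_right ((f.cent_t h1).1 (c.Tt (mul_mem hk hk))))
  exact Or.inr ⟨_, mul_mem hu (f.mU v).1, s, hs, (mul_assoc _ _ _).symm⟩

theorem ab2_mul {y y' : G} (h : f.Ab2O y) (h' : f.Ab2O y') : y * y' ∈ f.Y ⊔ c.X := by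
  obtain ⟨u, hu, s, hs, rfl⟩ := h
  obtain ⟨u', hu', s', hs', rfl⟩ := h'
  have := mul_mem (mem_sup_left (mul_mem hu (conj_mem_of_mem_normalizer (f.T_nrm hs.1) hu')))
    (mem_sup_right (c.bs_VX (c.ex_mul hs hs')) : s * s' ∈ f.Y ⊔ c.X)
  convert this using 1; group

theorem ab2_d {y p : G} (h : f.Ab2O y) (hp : p ∈ f.Y) : f.d (y * p * y⁻¹) = cj F q (f.d p) := by
  obtain ⟨u, hu, s, hs, rfl⟩ := h
  obtain ⟨h1, h2⟩ := f.act s (c.Tt hs.1) 1 1 (sg F q) (fun v => by rw [hs.2]; simp) p hp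
  rw [show u * s * p * (u * s)⁻¹ = u * (s * p * s⁻¹) * u⁻¹ by group, f.d_mul _ (mul_mem hu h1) _ (inv_mem hu),
    f.d_mul _ hu _ h1, f.d_inv hu, h2, add_comm (f.d u), add_assoc, CharTwo.add_self_eq_zero]
  simp

theorem ab2_not {y : G} (h : f.Ab2O y) : y ∉ f.Y := fun hy => by
  obtain ⟨x, hx⟩ := tr_surj (1 : K0 F q)
  obtain ⟨p, hp, e, -⟩ := f.surj x 0
  have := f.ab2_d h hp
  rw [f.d_mul _ (mul_mem hy hp) _ (inv_mem hy), f.d_mul _ hy _ hp, f.d_inv hy, add_comm (f.d y), add_assoc,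
    CharTwo.add_self_eq_zero, add_zero, e] at this
  rw [← this, CharTwo.add_self_eq_zero] at hx
  simp at hx

theorem ab2_card {D : Subgroup G} {x : F} (hD : D ≤ f.Ln x) (h : ∀ p ∈ D, cj F q (f.d p) = f.d p) :
    Nat.card D ≤ q ^ 3 := by
  let δ : D →* Multiplicative (K0 F q) := MonoidHom.mk' (fun p => Multiplicative.ofAdd ⟨f.d p, h p p.2⟩)
    fun p p' => congrArg Multiplicative.ofAdd (k0_ext (f.d_mul _ (hD p.2).1 _ (hD p'.2).1))
  have h1 : δ.ker ≤ f.W.subgroupOf D := fun p hp =>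
    f.ab1_mem_W (hD p.2) (congrArg (fun z => ((Multiplicative.toAdd z : K0 F q) : F)) hp)
  have h2 : Nat.card δ.ker ≤ q ^ 2 := (Subgroup.card_le_of_le h1).trans (by
    rw [← f.card_W]
    exact Nat.card_le_card_of_injective (fun p => (⟨p.1, p.2⟩ : f.W)) fun a b e =>
      Subtype.ext (Subtype.ext (congrArg (fun z : f.W => (z : G)) e)))
  have h3 : Nat.card δ.range ≤ q := (card_le_card_group _).trans (by
    rw [Nat.card_congr Multiplicative.toAdd, card_k0])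
  rw [← δ.ker.card_mul_index, index_ker, pow_succ]
  exact Nat.mul_le_mul h2 h3

include f in
theorem ab2_elem {s : G} (h : IsConj c.t s) {D : Subgroup G} (h2 : ∀ y ∈ D, y * y = 1)
    (hc : ∀ y ∈ D, y * s = s * y) : Nat.card D ≤ 4 * q := by
  obtain ⟨g, rfl⟩ := isConj_iff.1 h
  obtain ⟨k, -, hk⟩ := c.frame (D := D) (fun y => ⟨1, Subtype.ext (by simpa [pow_two] using h2 y y.2)⟩) hc
  rw [← card_cj (g * k)⁻¹]
  refine c.elem_card (cj_le_iff.2 fun y hy => by simpa using hk y hy) ?_ f.R2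
  rintro _ ⟨y, hy, rfl⟩
  simp only [MulEquiv.coe_toMonoidHom, MulAut.conj_apply]
  rw [conj_mul, h2 y hy]; group

include f in
theorem ab2_big {s : G} (h : IsConj c.t s) {C : Subgroup G} (h2 : ∀ y ∈ C, y * y = 1)
    (hc : ∀ y ∈ C, y * s = s * y) (hs : s ∉ C) (hq : q ^ 2 ≤ Nat.card C) : False := by
  have s2 : s * s = 1 := by
    obtain ⟨g, rfl⟩ := isConj_iff.1 h
    rw [conj_mul, c.t2]; group
  have cz : ∀ y ∈ C, ∀ z ∈ zpowers s, y * z = z * y := by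
    rintro y hy _ ⟨n, rfl⟩
    exact (Commute.zpow_right (hc y hy) n).eq
  have h1 := f.ab2_elem h (D := C ⊔ zpowers s) (fun y hy => by
      obtain ⟨a, ha, _, ⟨n, rfl⟩, rfl⟩ := (base_mem_sup cz).1 hy
      rw [mul_assoc, ← mul_assoc _ a, ← cz a ha _ (zpow_mem_zpowers s n), mul_assoc, ← mul_assoc a, h2 a ha,
        one_mul, ← (Commute.refl s).mul_zpow, s2, one_zpow])
    (fun y hy => by
      obtain ⟨a, ha, _, ⟨n, rfl⟩, rfl⟩ := (base_mem_sup cz).1 hy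
      exact (Commute.mul_left (hc a ha) ((Commute.refl s).zpow_left n)).eq)
  have h3 := ab2_lt (le_sup_left : C ≤ C ⊔ zpowers s) (mem_sup_right (mem_zpowers s)) hs
  have := c.q4
  nlinarith

variable {x : F} (hx : x + cj F q x = 1) (hd : nm q x = f.dl)
include hx hd

theorem ab2_sw {y u : G} (hy : c.t * y ∈ f.Y) (hu : u ∈ f.Ln x) : y * u * y⁻¹ ∈ f.Ln (cj F q x) := by
  have h1 : c.t * y * u * (c.t * y)⁻¹ ∈ f.Ln x := by
    have := mul_mem (f.ab1_W x (f.comm hy hu.1).1) hu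
    rwa [inv_mul_cancel_right] at this
  have := f.ab1_tsw hx hd h1
  rwa [show c.t * (c.t * y * u * (c.t * y)⁻¹) * c.t⁻¹ = c.t * c.t * (y * u * y⁻¹) * (c.t * c.t)⁻¹ by group,
    c.t2, one_mul, inv_one, mul_one] at this

theorem ab2_E0 {E : Subgroup G} (hE : E ≤ f.Y ⊔ c.T) (h2 : ∀ y ∈ E, y * y = 1) (hc : Nat.card E = q ^ 4)
    (h0 : E ⊓ f.Y ≤ f.Ln x) : E ≤ f.Y := by
  have cm : ∀ a ∈ E, ∀ b ∈ E, a * b * a⁻¹ = b := fun a ha b hb => by
    rw [ab1_comm (h2 a ha) (h2 b hb) (h2 _ (mul_mem ha hb)), mul_inv_cancel_right]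
  have q4 := c.q4
  have i1 : Nat.card E ≤ 2 * Nat.card ↥(E ⊓ (f.Y ⊔ c.X)) := ab2_idx fun a ha b hb =>
    (f.ab2_cases (hE ha) (h2 a ha)).elim Or.inl fun h => (f.ab2_cases (hE hb) (h2 b hb)).elim
      (fun k => Or.inr (Or.inl k)) fun k => Or.inr (Or.inr (f.ab2_mul h k))
  by_cases hM : E ⊓ (f.Y ⊔ c.X) ≤ f.Y
  · intro y hy
    refine (f.ab2_cases (hE hy) (h2 y hy)).elim (fun k => hM ⟨hy, k⟩) fun k => ?_
    have h3 := f.ab2_card h0 fun p hp => by rw [← f.ab2_d k hp.2, cm y hy p hp.1]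
    have h4 := Subgroup.card_le_of_le (le_inf inf_le_left hM)
    have h5 : 0 < q ^ 3 := by positivity
    rw [hc, pow_succ] at i1
    nlinarith
  · obtain ⟨y, hy, yY⟩ := SetLike.not_le_iff_exists.1 hM
    have ty := (f.ab2_M hy.2).resolve_left yY
    have i2 : Nat.card ↥(E ⊓ (f.Y ⊔ c.X)) ≤ 2 * Nat.card ↥(E ⊓ (f.Y ⊔ c.X) ⊓ f.Y) := ab2_idx fun a ha b hb =>
      (f.ab2_M ha.2).elim Or.inl fun h => (f.ab2_M hb.2).elim (fun k => Or.inr (Or.inl k)) fun k =>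
        Or.inr (Or.inr (by
          have := mul_mem (f.ab1_t h).1 k
          rwa [← mul_assoc, ← mul_assoc, c.t2, one_mul, inv_mul_cancel_right] at this))
    have h3 : E ⊓ (f.Y ⊔ c.X) ⊓ f.Y ≤ f.W := fun p hp => by
      rw [← f.ab_inf hx hd]
      exact ⟨h0 ⟨hp.1.1, hp.2⟩, cm y hy.1 p hp.1.1 ▸ f.ab2_sw hx hd ty (h0 ⟨hp.1.1, hp.2⟩)⟩
    have h4 := Subgroup.card_le_of_le h3
    rw [f.card_W] at h4
    have h5 : 0 < q ^ 2 := by positivity
    have h6 : q ^ 4 = q ^ 2 * q ^ 2 := by ring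
    have h7 : 16 ≤ q ^ 2 := by nlinarith
    exact absurd hc (by nlinarith)

theorem ab2_E {E : Subgroup G} (hE : E ≤ f.Y ⊔ c.T) (h2 : ∀ y ∈ E, y * y = 1) (hc : Nat.card E = q ^ 4) :
    E ≤ f.Y := by
  rcases f.ab1_or hx hd (one_mem _) (D := E ⊓ f.Y) inf_le_right (fun u hu => h2 u hu.1) with h | h
  · exact f.ab2_E0 hx hd hE h2 hc fun u hu => by simpa using h u hu
  · exact f.ab2_E0 (ab1_sym hx) ((nm_cj x).trans hd) hE h2 hc fun u hu => by simpa using h u hu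

theorem ab2_nrm {g : G} (hg : g ∈ normalizer ((f.Y ⊔ c.T : Subgroup G) : Set G)) {u : G} (hu : u ∈ f.Ln x) :
    g * u * g⁻¹ ∈ f.Y := by
  refine f.ab2_E hx hd (E := H42.cj g (f.Ln x))
    (cj_le_iff.2 fun y hy => conj_mem_of_mem_normalizer hg (mem_sup_left hy.1)) ?_
    (by rw [card_cj, f.card_Ln]) (conj_mem_cj hu)
  rintro _ ⟨y, hy, rfl⟩
  simp only [MulEquiv.coe_toMonoidHom, MulAut.conj_apply]
  rw [conj_mul, f.ab1_sq hx hd hy]; group

theorem ab_syl : SylIn 2 (f.Y ⊔ c.T) ⊤ := by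
  have h0 := f.ab_syl0 hx hd
  refine sylIn_of_maximal le_top h0.isPGroup fun S hS hY _ => ?_
  by_contra hn
  have h1 := lt_inf_normalizer hS (lt_of_le_of_ne hY fun e => hn e.ge)
  refine h1.ne' (h0.eq_of_le (hS.to_le inf_le_left) h1.le fun g hg => ?_)
  refine mem_normalizer_of_conj_mem fun y hy => ?_
  obtain ⟨u, hu, v, hv, rfl⟩ := f.ab_prod hx hd hy
  rw [← conj_mul]
  exact mul_mem (f.ab2_nrm hx hd hg.2 hu) (f.ab2_nrm (ab1_sym hx) ((nm_cj x).trans hd) hg.2 hv)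

theorem ab2_notY {s : G} (h : IsConj c.t s) : s ∉ f.Ln x := fun hs => by
  have h1 := f.ab2_elem h (D := f.Ln x) (fun y hy => f.ab1_sq hx hd hy) fun y hy =>
    ab1_comm (f.ab1_sq hx hd hy) (f.ab1_sq hx hd hs) (f.ab1_sq hx hd (mul_mem hy hs))
  rw [f.card_Ln] at h1
  have q4 := c.q4
  have h2 : 16 ≤ q ^ 2 := by nlinarith
  have h3 : q ^ 4 = q ^ 2 * q * q := by ring
  nlinarith

theorem ab_fus {s : G} (hs : s ∈ f.Y ⊔ c.T) (h : IsConj c.t s) : c.t * s ∈ f.Y := by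
  have s2 : s * s = 1 := by
    obtain ⟨g, rfl⟩ := isConj_iff.1 h
    rw [conj_mul, c.t2]; group
  have si : s⁻¹ = s := inv_eq_of_mul_eq_one_right s2
  rcases f.ab2_cases hs s2 with k | k
  · refine (f.ab2_M k).resolve_left fun hY => ?_
    exact ((f.ab_inv hx hd hY).1 s2).elim (f.ab2_notY hx hd h)
      (f.ab2_notY (ab1_sym hx) ((nm_cj x).trans hd) h)
  exfalso
  have h2 : (2 : F) = 0 := CharTwo.two_eq_zero
  rcases f.ab_nrm hx hd ((f.ab_syl0 hx hd).le hs) with ⟨h1, -⟩ | ⟨h1, h3⟩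
  · have sq : ∀ y ∈ f.Ln x, y * y = 1 := fun y hy => f.ab1_sq hx hd hy
    have cm : ∀ a ∈ f.Ln x, ∀ b ∈ f.Ln x, a * b = b * a := fun a ha b hb =>
      ab1_comm (sq a ha) (sq b hb) (sq _ (mul_mem ha hb))
    have cj := fun a (ha : a ∈ f.Ln x) => conj_mem_of_mem_normalizer h1 ha
    let ψ : f.Ln x →* G := MonoidHom.mk' (fun p => p * (s * p * s⁻¹)) fun p p' => by
      push_cast
      rw [← conj_mul, mul_assoc, ← mul_assoc (p' : G), cm _ p'.2 _ (cj _ p.2)]; group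
    let C := f.Ln x ⊓ centralizer {s}
    have k1 : ψ.ker ≤ C.subgroupOf (f.Ln x) := fun p hp => ⟨p.2, mem_centralizer_singleton_iff.2 (by
      have e : (p : G) * (s * p * s⁻¹) = 1 := hp
      have e' := (inv_eq_of_mul_eq_one_right (sq _ p.2)).symm.trans (inv_eq_of_mul_eq_one_right e)
      exact eq_mul_inv_iff_mul_eq.1 e')⟩
    have k2 : ψ.range ≤ C := by
      rintro _ ⟨p, rfl⟩
      refine ⟨mul_mem p.2 (cj _ p.2), mem_centralizer_singleton_iff.2 ?_⟩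
      change (p : G) * (s * p * s⁻¹) * s = s * (p * (s * p * s⁻¹))
      conv_lhs => rw [cm _ p.2 _ (cj _ p.2)]
      calc s * p * s⁻¹ * p * s = s * p * s * p * s⁻¹ := by rw [si]
        _ = _ := by group
    have k3 := ψ.ker.card_mul_index
    rw [index_ker, f.card_Ln] at k3
    have k4 := (Subgroup.card_le_of_le k1).trans_eq (Nat.card_congr (subgroupOfEquivOfLe inf_le_left).toEquiv)
    have k5 := Subgroup.card_le_of_le k2
    refine f.ab2_big h (C := C) (fun y hy => sq y hy.1) (fun y hy => mem_centralizer_singleton_iff.1 hy.2)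
      (fun e => f.ab2_not k e.1.1) ?_
    by_contra! k6
    have := Nat.mul_lt_mul'' (k4.trans_lt k6) (k5.trans_lt k6)
    rw [k3, ← pow_add] at this
    exact this.false
  · refine f.ab2_big h (C := f.W) (fun y hy => f.W_sq hy) (fun w hw => ?_) (fun e => f.ab2_not k e.1)
      f.card_W.ge
    obtain ⟨u, hu, du⟩ := f.ab1_ln x (f.k w + cj F q x * f.b w)
    obtain ⟨v, hv, dv⟩ := f.ab1_ln (cj F q x) 1
    obtain ⟨a1, a2⟩ := f.ab_comm hx hd hu hv
    have e : w = u * v * u⁻¹ * v⁻¹ := by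
      refine f.W_ext hw (f.comm hu.1 hv.1).1 ?_ ?_
      · rw [a1, du, dv]
        refine k0_ext ?_
        simp only [coe_cm, map_add, map_mul, map_one, cj_k0, H10.cj_cj]
        linear_combination (-(f.b w : F)) * hx - (f.k w : F) * h2
      · rw [a2, du, dv]
        refine k0_ext ?_
        simp only [coe_cm, map_add, map_mul, map_one, cj_k0, H10.cj_cj]
        linear_combination (-(f.k w : F)) * hx - (x * cj F q x * f.b w) * h2
    have e1 := (f.ab1_m hx hd (h3 v hv) (h1 u hu) hu hv).2 (by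
      rw [f.ab2_d k hv.1, f.ab2_d k hu.1, H10.cj_cj, mul_comm])
    rw [← e] at e1
    have e2 : s * w⁻¹ * s⁻¹ = w := by
      conv_lhs => rw [e]
      rw [← e1]; group
    rw [inv_eq_of_mul_eq_one_right (f.W_sq hw), mul_inv_eq_iff_eq_mul] at e2
    exact e2.symm

end Fr2

end Cfsg.Agent.GMS
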