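import Cfsg.Agent.H3.PResidual
import Mathlib.GroupTheory.Transfer

/-! Extremal transfer into an abelian quotient of a subgroup of index prime to `p`. -/

set_option autoImplicit false

namespace Cfsg.Agent.GMS

open Subgroup

variable {p : ℕ} [hp : Fact p.Prime]

theorem xtr_prod {B X A : Type*} [Group B] [Fintype X] [MulAction B X] [CommGroup A]
    (hB : IsPGroup p B) (f : X → A) (hA : ∀ x, f x ^ p = 1) (h1 : ∀ (b : B) x, f (b • x) = f x)
    (h2 : ∀ x, (∀ b : B, b • x = x) → f x = 1) : ∏ x, f x = 1 := by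
  classical
  rw [show ∏ x, f x = ∏ x, id (f x) from rfl, Finset.prod_comp]
  refine Finset.prod_eq_one fun a ha => ?_
  by_cases e : a = 1
  · simp [e]
  obtain ⟨x, -, rfl⟩ := Finset.mem_image.1 ha
  let Y : SubMulAction B X := ⟨{y | f y = f x}, fun b x hx => (h1 b x).trans hx⟩
  obtain ⟨k, hk⟩ : p ∣ Nat.card Y := by_contra fun c => by
    obtain ⟨y, hy⟩ := hB.nonempty_fixed_point_of_prime_not_dvd_card Y c
    exact e (y.2.symm.trans (h2 y fun b => congrArg Subtype.val (hy b)))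
  rw [show (Finset.univ.filter fun y => f y = f x).card = Nat.card Y from
    (Nat.subtype_card _ fun x => by simp [Y]; rfl).symm, hk, pow_mul, id, hA, one_pow]

theorem xtr_hom {G A : Type*} [Group G] [Finite G] [CommGroup A]
    {S B : Subgroup G} (hS : ¬ p ∣ S.index) (φ : S →* A)
    (hB : IsPGroup p B) {c : G} (c0 : MonoidHom.transfer φ c = 1) (c1 : c ^ p = 1) (c2 : c ∈ B)
    (c3 : ∀ b ∈ B, b * c = c * b) {a : A} (ha : a ^ p = 1)
    (h : ∀ g : G, (∀ b ∈ B, g⁻¹ * b * g ∈ S) → ∀ hg : g⁻¹ * c * g ∈ S, φ ⟨_, hg⟩ = a) : a = 1 := by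
  classical
  have : Fintype (Quotient (MulAction.orbitRel (zpowers c) (G ⧸ S))) := Fintype.ofFinite _
  have : Fintype (G ⧸ S) := Fintype.ofFinite _
  have fx : ∀ (b : G) (q : G ⧸ S), b • q = q ↔ q.out⁻¹ * b * q.out ∈ S := fun b q => by
    conv_lhs => rw [← q.out_eq', MulAction.Quotient.smul_mk, eq_comm, QuotientGroup.eq]
    rw [smul_eq_mul, mul_assoc]
  let F : G ⧸ S → A := fun q => if h : q.out⁻¹ * c * q.out ∈ S then φ ⟨_, h⟩ else 1
  have e1 : MonoidHom.transfer φ c = ∏ q, F q := by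
    rw [MonoidHom.transfer_eq_prod_quotient_orbitRel_zpowers_quot]
    have k : ∀ q : G ⧸ S, φ ⟨_, QuotientGroup.out_conj_pow_minimalPeriod_mem S c q⟩ = F q := by
      intro q
      by_cases e : c • q = q
      · have m := Function.minimalPeriod_eq_one_iff_isFixedPt.2 (show Function.IsFixedPt (c • ·) q
          from e)
        simp only [F, dif_pos ((fx c q).1 e), m, pow_one]
      · have m := ((Nat.dvd_prime hp.out).1 (MulAction.pow_smul_eq_iff_minimalPeriod_dvd.1
          (show c ^ p • q = q by rw [c1, one_smul]))).resolve_left fun f =>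
            e (Function.minimalPeriod_eq_one_iff_isFixedPt.1 f)
        simp only [F, dif_neg (mt (fx c q).2 e), m, c1, mul_one, inv_mul_cancel]
        exact map_one φ
    simp only [k]
    refine Finset.prod_bij_ne_one (fun q _ _ => q.out) (fun _ _ _ => Finset.mem_univ _)
      (fun _ _ _ _ _ _ e => Quotient.out_injective e) (fun q _ e => ?_) fun _ _ _ => rfl
    have f : c • q = q := (fx c q).2 (by_contra fun f => e (dif_neg f))
    have o : (Quotient.mk (MulAction.orbitRel (zpowers c) (G ⧸ S)) q).out = q := by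
      obtain ⟨⟨_, n, rfl⟩, hn⟩ := Quotient.exact (Quotient.out_eq
        (Quotient.mk (MulAction.orbitRel (zpowers c) (G ⧸ S)) q))
      exact hn.symm.trans (zpow_mem (MulAction.mem_stabilizer_iff.2 f) n)
    exact ⟨_, Finset.mem_univ _, by rwa [o], o⟩
  have e2 := xtr_prod hB (fun q => F q * a⁻¹) (fun q => ?_) (fun b q => ?_) fun q hq => ?_
  · rw [Finset.prod_mul_distrib, ← e1, c0, one_mul,
      Finset.prod_const, inv_pow, inv_eq_one, Finset.card_univ, ← Nat.card_eq_fintype_card] at e2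
    exact (pow_eq_one_iff_of_coprime ((Nat.Prime.coprime_iff_not_dvd hp.out).2 hS)).1 ⟨ha, e2⟩
  · rw [mul_pow, inv_pow, ha, inv_one, mul_one]
    by_cases f : q.out⁻¹ * c * q.out ∈ S
    · simp only [F, dif_pos f]
      rw [← map_pow, ← map_one φ]
      congr 1
      refine Subtype.ext ?_
      have := conj_pow (a := q.out⁻¹) (b := c) (i := p)
      rw [inv_inv, c1] at this
      simpa using this
    · simp only [F, dif_neg f, one_pow]
  · congr 1
    obtain ⟨s, hs⟩ := QuotientGroup.mk_out_eq_mul S ((b : G) * q.out)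
    have o : (b • q).out = b * q.out * s := by
      rw [← hs]; congr 1
      conv_lhs => rw [← q.out_eq']
      rfl
    have e : (b • q).out⁻¹ * c * (b • q).out = (s : G)⁻¹ * (q.out⁻¹ * c * q.out) * s := by
      rw [o]
      calc _ = (s : G)⁻¹ * q.out⁻¹ * ((b : G)⁻¹ * (c * b)) * q.out * s := by group
        _ = _ := by rw [← c3 b b.2]; group
    by_cases f : q.out⁻¹ * c * q.out ∈ S
    · have f' : (b • q).out⁻¹ * c * (b • q).out ∈ S :=
        e ▸ S.mul_mem (S.mul_mem (S.inv_mem s.2) f) s.2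
      simp only [F, dif_pos f, dif_pos f']
      rw [show (⟨_, f'⟩ : S) = s⁻¹ * ⟨_, f⟩ * s from Subtype.ext e, map_mul, map_mul, map_inv,
        inv_mul_cancel_comm]
    · have f' : (b • q).out⁻¹ * c * (b • q).out ∉ S := fun f' => f (by
        rwa [e, S.mul_mem_cancel_right s.2, S.mul_mem_cancel_left (S.inv_mem s.2)] at f')
      simp only [F, dif_neg f, dif_neg f']
  · have k := fun b hb => (fx b q).1 (hq ⟨b, hb⟩)
    simp only [F, dif_pos (k c c2), h _ k, mul_inv_cancel]

/-- extremal transfer: `S / Y` abelian, `c ∈ O^p(G)` of order `p`, central in the `p`-group `B` -/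
theorem xtr {G : Type*} [Group G] [Finite G] {S Y B : Subgroup G} (hS : ¬ p ∣ S.index)
    (pS : IsPGroup p S) (hY : Y ≤ S) (hab : ∀ a ∈ S, ∀ b ∈ S, a * b * a⁻¹ * b⁻¹ ∈ Y)
    (hB : IsPGroup p B) {c : G} (c0 : c ∈ pResidual p G) (cS : c ∈ S) (c1 : c ^ p = 1) (c2 : c ∈ B)
    (c3 : ∀ b ∈ B, b * c = c * b)
    (h : ∀ g : G, (∀ b ∈ B, g⁻¹ * b * g ∈ S) → g⁻¹ * c * g * c⁻¹ ∈ Y) : c ∈ Y := by
  have hn : (Y.subgroupOf S).Normal := ⟨fun y hy s => by
    have := mul_mem (hab _ s.2 _ y.2) (mem_subgroupOf.1 hy)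
    simpa [mem_subgroupOf] using this⟩
  let _ : CommGroup (S ⧸ Y.subgroupOf S) := { (inferInstance : Group (S ⧸ Y.subgroupOf S)) with
    mul_comm := by
      rintro ⟨a⟩ ⟨b⟩
      refine QuotientGroup.eq_iff_div_mem.2 ?_
      simpa [mem_subgroupOf, div_eq_mul_inv, mul_assoc] using hab _ a.2 _ b.2 }
  refine (QuotientGroup.eq_one_iff (N := Y.subgroupOf S) ⟨c, cS⟩).1 (xtr_hom hS
    (QuotientGroup.mk' (Y.subgroupOf S)) hB
    (H3.pResidual_le_ker _ (pS.to_quotient _) c0) c1 c2 c3 ?_ fun g hg e => ?_)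
  · rw [← QuotientGroup.mk_pow, show (⟨c, cS⟩ : S) ^ p = 1 from Subtype.ext c1, QuotientGroup.mk_one]
  · refine QuotientGroup.eq_iff_div_mem.2 ?_
    simpa [mem_subgroupOf, div_eq_mul_inv] using h g hg

end Cfsg.Agent.GMS
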