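import Cfsg.Agent.GMS.AB2
import Cfsg.Agent.GMS.XTr

/-! Project GMS: the outcome of type `L₃(q²)`. -/

set_option autoImplicit false
set_option linter.unusedSectionVars false

namespace Cfsg.Agent.GMS

open Subgroup H10 H91
open H42 hiding SylIn

variable {G : Type*} [Group G] [Finite G] {F : Type*} [Field F] [Fintype F] [CharP F 2] {q : ℕ}
  [hF : Fact (Fintype.card F = q ^ 2)]

theorem ab3_cyc : IsCyclic (F ≃+* F) := by
  refine ⟨⟨frobeniusEquiv F 2, fun φ => ?_⟩⟩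
  obtain ⟨i, hi⟩ := aut_pow φ
  have : ∀ (n : ℕ) (x : F), (frobeniusEquiv F 2 ^ n) x = x ^ 2 ^ n := fun n => by
    induction n with
    | zero => intro x; simp
    | succ n ih =>
      intro x
      rw [pow_succ', RingAut.mul_apply, ih, coe_frobeniusEquiv, frobenius_def, ← pow_mul, pow_succ]
  exact ⟨i, RingEquiv.ext fun x => by simp only [zpow_natCast]; rw [this, hi]⟩

theorem ab3_half {X : Subgroup G} {y : G} (k : ℕ) (h : y ^ 2 ^ k ∈ X) (hy : y ∉ X) :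
    ∃ n : ℕ, y ^ n ∉ X ∧ y ^ n * y ^ n ∈ X := by
  induction k with
  | zero => exact absurd (by simpa using h) hy
  | succ k ih =>
    by_cases e : y ^ 2 ^ k ∈ X
    · exact ih e
    · exact ⟨_, e, by rwa [← pow_add, ← mul_two, ← pow_succ]⟩

/-- `T / Q` is abelian if `R = ⟨t⟩` -/
theorem ab3_comm (c : Ctx0 G F q) (hR : ∀ r ∈ c.R, r = 1 ∨ r = c.t) {y y' : G} (hy : y ∈ c.T)
    (hy' : y' ∈ c.T) : y * y' * y⁻¹ * y'⁻¹ ∈ c.Q := by
  obtain ⟨ρ, h1, -⟩ := c.exists_rho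
  have := ab3_cyc (F := F)
  have hn : (c.Q.subgroupOf c.T).Normal := ⟨fun x hx s => by
    obtain ⟨u, hu⟩ := c.mem_Q.1 (mem_subgroupOf.1 hx)
    obtain ⟨w, φ, h⟩ := c.actT s s.2
    exact mem_subgroupOf.2 (c.mem_Q.2 ⟨_, by rw [← h u, ← hu]; rfl⟩)⟩
  let ρ' : c.T ⧸ c.Q.subgroupOf c.T →* (F ≃+* F) := QuotientGroup.lift _ ρ fun x hx =>
    (h1 x).2 (le_sup_right (a := c.R) (mem_subgroupOf.1 hx))
  have hk : ρ'.ker ≤ center _ := by
    rintro ⟨x⟩ hx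
    obtain ⟨r, hr, u, hu⟩ := c.mem_X.1 ((h1 x).1 hx)
    have e : (QuotientGroup.mk x : c.T ⧸ c.Q.subgroupOf c.T) = QuotientGroup.mk ⟨r, c.RT hr⟩ :=
      (QuotientGroup.eq.2 (mem_subgroupOf.2 (c.mem_Q.2 ⟨u, by simp [hu]⟩))).symm
    refine mem_center_iff.2 ?_
    rintro ⟨s⟩
    change (QuotientGroup.mk s : c.T ⧸ c.Q.subgroupOf c.T) * QuotientGroup.mk x =
      QuotientGroup.mk x * QuotientGroup.mk s
    rw [e, ← QuotientGroup.mk_mul, ← QuotientGroup.mk_mul]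
    congr 1
    refine Subtype.ext ?_
    rcases hR r hr with rfl | rfl
    · simp
    · exact c.Tt s.2
  have := commutative_of_cyclic_center_quotient ρ' hk (QuotientGroup.mk ⟨y, hy⟩)
    (QuotientGroup.mk ⟨y', hy'⟩)
  rw [← QuotientGroup.mk_mul, ← QuotientGroup.mk_mul, QuotientGroup.eq_iff_div_mem] at this
  simpa [mem_subgroupOf, div_eq_mul_inv, mul_assoc] using this

theorem Fr2.ab {c : Ctx G F q} (f : Fr2 c) {x : F} (hx : x + cj F q x = 1) (hd : nm q x = f.dl) :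
    c.SAB := by
  have hx' : cj F q x + cj F q (cj F q x) = 1 := by rw [H10.cj_cj, add_comm, hx]
  have hd' : nm q (cj F q x) = f.dl := by rw [nm_cj, hd]
  have hS := f.ab_syl hx hd
  have QY : c.Q ≤ f.Y := fun y hy => by
    obtain ⟨u, rfl⟩ := c.mem_Q.1 hy
    exact (f.mU u).1
  have YT : f.Y ⊓ c.T = c.Q :=
    le_antisymm (fun y hy => (f.cent_t hy.1).1 (c.Tt hy.2)) (le_inf QY c.QT)
  have mS : ∀ s ∈ f.Y ⊔ c.T, ∃ y ∈ f.Y, ∃ s₀ ∈ c.T, s = y * s₀ := fun s hs => by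
    rw [← SetLike.mem_coe, coe_mul_of_right_le_normalizer_left _ _ f.T_nrm] at hs
    obtain ⟨a, ha, b, hb, rfl⟩ := hs
    exact ⟨a, ha, b, hb, rfl⟩
  have TY : ∀ s ∈ c.T, ∀ y ∈ f.Y, s * y * s⁻¹ ∈ f.Y := fun s hs y hy =>
    (mem_normalizer_iff.1 (f.T_nrm hs) y).1 hy
  have hab : ∀ a ∈ f.Y ⊔ c.T, ∀ b ∈ f.Y ⊔ c.T, a * b * a⁻¹ * b⁻¹ ∈ f.Y := fun a ha b hb => by
    obtain ⟨p, hp, s, hs, rfl⟩ := mS a ha
    obtain ⟨p', hp', s', hs', rfl⟩ := mS b hb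
    have : p * s * (p' * s') * (p * s)⁻¹ * (p' * s')⁻¹ =
        p * (s * p' * s⁻¹) * (s * s' * s⁻¹ * s'⁻¹) * (s' * p⁻¹ * s'⁻¹) * p'⁻¹ := by group
    rw [this]
    exact mul_mem (mul_mem (mul_mem (mul_mem hp (TY _ hs _ hp'))
      (QY (ab3_comm c.toCtx0 f.R2 hs hs'))) (TY _ hs' _ (inv_mem hp))) (inv_mem hp')
  have hi : ¬ 2 ∣ (f.Y ⊔ c.T).index := relIndex_top_right (f.Y ⊔ c.T) ▸ hS.not_dvd
  have ti : c.t⁻¹ = c.t := inv_eq_of_mul_eq_one_right c.t2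
  have tT : c.t ∈ c.T := c.RT c.tR
  have YN : f.Y ≤ pResidual 2 G := f.le_normal H3.isPGroup_quotient_pResidual
  have nN : (pResidual 2 G).Normal := inferInstance
  have fus : ∀ g : G, g⁻¹ * c.t * g ∈ f.Y ⊔ c.T → c.t * (g⁻¹ * c.t * g) ∈ f.Y := fun g hg =>
    f.ab_fus hx hd hg (isConj_iff.2 ⟨g⁻¹, by rw [inv_inv]⟩)
  have tN : c.t ∉ pResidual 2 G := fun h => by
    refine f.t_not_mem (xtr (B := c.T) hi hS.isPGroup le_sup_left hab c.syl.isPGroup h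
      (le_sup_right (a := f.Y) tT) (by rw [pow_two, c.t2]) tT (fun b hb => c.Tt hb) fun g hg => ?_)
    have := TY _ tT _ (fus g (hg _ tT))
    rwa [← mul_assoc, c.t2, one_mul] at this
  have XN : ∀ y ∈ c.X, y ∈ pResidual 2 G → y ∈ c.Q := fun y hy h => by
    obtain ⟨r, hr, u, rfl⟩ := c.mem_X.1 hy
    rcases f.R2 r hr with rfl | rfl
    · exact c.mem_Q.2 ⟨u, one_mul _⟩
    · exact absurd ((mul_mem_cancel_right (YN (f.mU u).1)).1 h) tN
  have SN : (f.Y ⊔ c.T) ⊓ pResidual 2 G = f.Y := by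
    refine le_antisymm (fun s hs => by_contra fun hsY => ?_) (le_inf le_sup_left YN)
    obtain ⟨y, hy, s₀, h₀, rfl⟩ := mS s hs.1
    have n₀ : s₀ ∈ pResidual 2 G := (mul_mem_cancel_left (YN hy)).1 hs.2
    have x₀ : s₀ ∉ c.X := fun h => hsY (mul_mem hy (QY (XN _ h n₀)))
    obtain ⟨k, hk⟩ := c.syl.isPGroup ⟨s₀, h₀⟩
    obtain ⟨n, n1, n2⟩ := ab3_half (X := c.X) k
      (by rw [show s₀ ^ 2 ^ k = 1 from congrArg Subtype.val hk]; exact one_mem _) x₀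
    obtain ⟨u, e, he, hu⟩ := c.outer (pow_mem h₀ n) n1 n2
    have uX : c.U u ∈ c.X := le_sup_right (a := c.R) (c.mem_Q.2 ⟨u, rfl⟩)
    have eN : e ∈ pResidual 2 G :=
      (mul_mem_cancel_left (YN (f.mU u).1)).1 (hu ▸ pow_mem n₀ n)
    have eX : e ∉ c.X := fun h => n1 (hu ▸ mul_mem uX h)
    have e2 : e * e = 1 := (f.R2 _ (c.ex_sq he)).resolve_right fun h => tN (h ▸ mul_mem eN eN)
    have ei : e⁻¹ = e := inv_eq_of_mul_eq_one_right e2
    have QX : c.Q ≤ c.X := le_sup_right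
    refine eX (QX (YT ▸ (⟨?_, he.1⟩ : e ∈ f.Y ⊓ c.T)))
    refine xtr (B := c.T ⊓ centralizer {e}) hi hS.isPGroup le_sup_left hab
      (c.syl.isPGroup.to_le inf_le_left) eN (le_sup_right (a := f.Y) he.1) (by rw [pow_two, e2])
      ⟨he.1, mem_centralizer_singleton_iff.2 rfl⟩
      (fun b hb => mem_centralizer_singleton_iff.1 hb.2) fun g hg => ?_
    have h1 := hg _ ⟨tT, mem_centralizer_singleton_iff.2 (c.Tt he.1).symm⟩
    have h2 := hg _ ⟨he.1, mem_centralizer_singleton_iff.2 rfl⟩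
    obtain ⟨v, hv, h3⟩ := f.inv_conj (fus g h1) (by
      rw [← mul_assoc c.t, c.t2, one_mul]
      calc g⁻¹ * c.t * g * (g⁻¹ * c.t * g) = g⁻¹ * (c.t * c.t) * g := by group
        _ = 1 := by rw [c.t2]; group)
    rw [← mul_assoc c.t, c.t2, one_mul] at h3
    have h4 : g * v * c.t = c.t * (g * v) := by
      calc g * v * c.t = g * (v * c.t * v⁻¹) * v := by group
        _ = _ := by rw [h3]; group
    have vS : v ∈ f.Y ⊔ c.T := le_sup_left (b := c.T) hv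
    have h5 : (g * v)⁻¹ * e * (g * v) ∈ c.T := by
      have := c.syl.eq_of_le (H := (f.Y ⊔ c.T) ⊓ centralizer {c.t})
        (hS.isPGroup.to_le inf_le_left) (le_inf le_sup_right c.syl.le) inf_le_right
      rw [← this]
      refine mem_inf.2 ⟨?_, mem_centralizer_singleton_iff.2 ?_⟩
      · rw [show (g * v)⁻¹ * e * (g * v) = v⁻¹ * (g⁻¹ * e * g) * v by group]
        exact mul_mem (mul_mem (inv_mem vS) h2) vS
      · calc (g * v)⁻¹ * e * (g * v) * c.t = (g * v)⁻¹ * (e * c.t) * (g * v) := by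
              rw [mul_assoc _ (g * v), h4]; group
          _ = (g * v)⁻¹ * (c.t * (g * v)) * ((g * v)⁻¹ * e * (g * v)) := by rw [c.Tt he.1]; group
          _ = _ := by rw [← h4]; group
    have h6 : (g * v)⁻¹ * e * (g * v) ∈ pResidual 2 G := by
      simpa using nN.conj_mem _ eN (g * v)⁻¹
    have h7 : (g * v)⁻¹ * e * (g * v) ∉ c.X := fun h => by
      obtain ⟨u', hu'⟩ := c.mem_Q.1 (XN _ h h6)
      have := c.An _ h4 _ (c.UA u')
      rw [← hu', show g * v * ((g * v)⁻¹ * e * (g * v)) * (g * v)⁻¹ = e by group] at this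
      exact eX (QX (c.mem_Q.2 (c.TA _ he.1 this)))
    obtain ⟨u', e', he', hu'⟩ := c.outer h5 h7 (by
      rw [show (g * v)⁻¹ * e * (g * v) * ((g * v)⁻¹ * e * (g * v)) =
        (g * v)⁻¹ * (e * e) * (g * v) by group, e2, mul_one, inv_mul_cancel]
      exact one_mem _)
    have h8 : (g * v)⁻¹ * e * (g * v) * e ∈ f.Y := by
      refine QY (XN _ ?_ (mul_mem h6 eN))
      rw [hu', mul_assoc]
      exact mul_mem (QX (c.mem_Q.2 ⟨u', rfl⟩))
        (sup_le_sup_left c.ZQ c.R (c.ex_mul he' he))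
    have h9 := TY _ he.1 _ (inv_mem hv)
    rw [show g⁻¹ * e * g * e⁻¹ = v * ((g * v)⁻¹ * e * (g * v) * e⁻¹) * (e * v⁻¹ * e⁻¹) by group,
      ei]
    rw [ei] at h9
    exact mul_mem (mul_mem hv h8) h9
  have ZL : ∀ x : F, c.Z ≤ f.Ln x := fun x y hy => by
    obtain ⟨h0, h1, h2⟩ := f.ZW hy
    exact ⟨h0, by rw [h1, h2, mul_zero]⟩
  refine ⟨f.Y, f.Ln x, f.Ln (cj F q x), pResidual 2 G, f.R2, hS, f.T_nrm, YT,
    fun s hs h => f.ab_fus hx hd hs h, nN, ?_, f.card_Ln _, f.card_Ln _, f.card_Y,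
    fun y hy => hy.1, fun y hy => hy.1, fun h => ?_, f.ab_elem hx hd, f.ab_elem hx' hd',
    fun y hy h => (f.ab_inv hx hd hy).1 h, fun y hy => f.ab_prod hx hd hy, ZL _, ZL _⟩
  · have := hS.inf_normal (N := pResidual 2 G) fun a _ n hn => nN.conj_mem n hn a
    rwa [SN, top_inf_eq] at this
  · obtain ⟨y, hy, h1, h2⟩ := f.surj 1 x
    have h3 : y ∈ f.Ln (cj F q x) := h ▸ ⟨hy, by rw [h1, h2, mul_one]⟩
    have h4 := h3.2
    rw [h1, h2, mul_one] at h4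
    rw [← h4, CharTwo.add_self_eq_zero] at hx
    exact zero_ne_one hx

end Cfsg.Agent.GMS
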