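import Cfsg.Agent.GMS.FldB
import Cfsg.Agent.H49.Prod

/-! Project GMS: elementary facts on `T`, `X`, `V` and on the outer involutions. -/

set_option autoImplicit false
set_option linter.unusedSectionVars false

namespace Cfsg.Agent.GMS

open Subgroup H10 H91
open H42 hiding SylIn

variable {G : Type*} [Group G] [Finite G] {F : Type*} [Field F] [Fintype F] [CharP F 2] {q : ℕ}
  [hF : Fact (Fintype.card F = q ^ 2)]

theorem base_mem_sup {A B : Subgroup G} (h : ∀ a ∈ A, ∀ b ∈ B, a * b = b * a) {y : G} :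
    y ∈ A ⊔ B ↔ ∃ a ∈ A, ∃ b ∈ B, y = a * b :=
  H49.mem_sup_of_norm_right (H49.norm_of_cent fun a ha b hb => (h a ha b hb).symm)

theorem base_card_sup {A B : Subgroup G} (h : ∀ a ∈ A, ∀ b ∈ B, a * b = b * a) (h1 : A ⊓ B = ⊥) :
    Nat.card ↥(A ⊔ B) = Nat.card A * Nat.card B := by
  have := (H49.isProd_sup_of_norm_right (H49.norm_of_cent fun a ha b hb => (h a ha b hb).symm)).card_mul
  rwa [h1, card_bot, mul_one] at this

theorem base_card_two {α : Type*} {p : α → Prop} (a b : α) (h : ∀ x, p x → x = a ∨ x = b) :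
    Nat.card {x // p x} ≤ 2 := by
  classical
  simpa using Nat.card_le_card_of_injective (β := Bool) (fun x : {x // p x} => decide (x.1 = a))
    fun x y e => by
      simp only [decide_eq_decide] at e
      rcases h _ x.2 with e1 | e1 <;> rcases h _ y.2 with e2 | e2 <;> refine Subtype.ext ?_ <;> grind

theorem bs_sl_one (l : F) (φ : F ≃+* F) : sl l φ (1 : UM F q) = 1 := by ext <;> simp

theorem bs_sl_inv (l : F) (φ : F ≃+* F) (u : UM F q) : sl l φ u⁻¹ = (sl l φ u)⁻¹ :=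
  eq_inv_of_mul_eq_one_left (by rw [← sl_mul, inv_mul_cancel, bs_sl_one])

theorem bs_sl_sg_sg (u : UM F q) : sl 1 (sg F q) (sl 1 (sg F q) u) = u := by
  ext <;> simp [H10.cj_cj]

namespace Ctx0

variable (c : Ctx0 G F q)

theorem bs_RU {r : G} (hr : r ∈ c.R) (u : UM F q) : r * c.U u = c.U u * r := c.RA r hr _ (c.UA u)
theorem QT : c.Q ≤ c.T := by rintro _ ⟨u, rfl⟩; exact c.UT u
theorem bs_QA : c.Q ≤ c.A := by rintro _ ⟨u, rfl⟩; exact c.UA u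
theorem ZQ : c.Z ≤ c.Q := map_le_range _ _
theorem XT : c.X ≤ c.T := sup_le c.RT c.QT
theorem bs_VX : c.V ≤ c.X := sup_le_sup_left c.ZQ _
theorem bs_z_mem (b : K0 F q) : c.z b ∈ c.Z := c.mem_Z.2 ⟨b, rfl⟩
theorem bs_U_mem_X (u : UM F q) : c.U u ∈ c.X := mem_sup_right ⟨u, rfl⟩
theorem z_sq (b : K0 F q) : c.z b * c.z b = 1 := by rw [← z_add, k0_add_self, z_zero]
theorem bs_z_U (b : K0 F q) (u : UM F q) : c.z b * c.U u = c.U u * c.z b := by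
  rw [z, ← map_mul, zz_comm, map_mul]
theorem mem_X {y : G} : y ∈ c.X ↔ ∃ r ∈ c.R, ∃ u, y = r * c.U u := by
  rw [X, base_mem_sup fun r hr x hx => c.RA r hr x (c.bs_QA hx)]
  exact ⟨fun ⟨r, hr, _, ⟨u, e⟩, h⟩ => ⟨r, hr, u, e ▸ h⟩, fun ⟨r, hr, u, h⟩ => ⟨r, hr, _, ⟨u, rfl⟩, h⟩⟩
theorem z_comm (b : K0 F q) {y : G} (hy : y ∈ c.X) : c.z b * y = y * c.z b := by
  obtain ⟨r, hr, u, rfl⟩ := c.mem_X.1 hy
  rw [← mul_assoc, z, ← c.bs_RU hr, mul_assoc, mul_assoc, ← z, bs_z_U]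
theorem mem_V {y : G} : y ∈ c.V ↔ ∃ r ∈ c.R, ∃ b, y = r * c.z b := by
  rw [V, base_mem_sup fun r hr x hx => c.RA r hr x (c.bs_QA (c.ZQ hx))]
  refine ⟨fun ⟨r, hr, x, hx, h⟩ => ?_, fun ⟨r, hr, b, h⟩ => ⟨r, hr, _, c.bs_z_mem b, h⟩⟩
  obtain ⟨b, rfl⟩ := c.mem_Z.1 hx
  exact ⟨r, hr, b, h⟩
theorem card_Q : Nat.card c.Q = q ^ 3 := by
  rw [← UM.card (F := F)]
  exact (Nat.card_congr (MonoidHom.ofInjective c.Uinj).toEquiv).symm
theorem card_Z : Nat.card c.Z = q := by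
  rw [Z, card_map_of_injective c.Uinj, H20.card_center_UM]
theorem bs_RQ : c.R ⊓ c.Q = ⊥ := eq_bot_iff.2 fun r hr => c.RA1 r hr.1 (c.bs_QA hr.2)
theorem card_X : Nat.card c.X = Nat.card c.R * q ^ 3 := by
  rw [X, base_card_sup (fun r hr x hx => c.RA r hr x (c.bs_QA hx)) c.bs_RQ, card_Q]
theorem bs_card_V : Nat.card c.V = Nat.card c.R * q := by
  rw [V, base_card_sup (fun r hr x hx => c.RA r hr x (c.bs_QA (c.ZQ hx)))
    (eq_bot_iff.2 ((inf_le_inf_left _ c.ZQ).trans c.bs_RQ.le)), card_Z]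
theorem Tt {y : G} (hy : y ∈ c.T) : y * c.t = c.t * y := mem_centralizer_singleton_iff.1 (c.syl.1 hy)
theorem TR {y r : G} (hy : y ∈ c.T) (hr : r ∈ c.R) : y * r * y⁻¹ ∈ c.R := by
  refine c.TK _ (mul_mem (mul_mem hy (c.RT hr)) (inv_mem hy)) fun a ha => ?_
  have := c.RA r hr _ (c.An _ (c.Tt (inv_mem hy)) a ha)
  calc _ = y * (r * (y⁻¹ * a * y⁻¹⁻¹)) * y⁻¹ := by group
    _ = _ := by rw [this]; group
theorem Ht {h : G} (hh : h ∈ c.H) : h * c.t = c.t * h := (c.RA _ c.tR h (c.HA hh)).symm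
theorem bs_RU_eq_one {r : G} (hr : r ∈ c.R) {u : UM F q} (h : r * c.U u = 1) : r = 1 ∧ u = 1 := by
  have h1 : r = 1 := c.RA1 r hr (by rw [eq_inv_of_mul_eq_one_left h]; exact inv_mem (c.UA u))
  rw [h1, one_mul, ← map_one c.U] at h
  exact ⟨h1, c.Uinj h⟩
theorem bs_X_sq {r : G} (hr : r ∈ c.R) (u : UM F q) :
    r * c.U u * (r * c.U u) = r * r * c.z (nm q u.x) := by
  rw [z, ← um_sq, map_mul, mul_assoc, ← mul_assoc (c.U u), ← c.bs_RU hr]; group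
/-- involutions of `X` lie in `V` -/
theorem inv_X {y : G} (hy : y ∈ c.X) (h2 : y * y = 1) : y ∈ c.V := by
  obtain ⟨r, hr, u, rfl⟩ := c.mem_X.1 hy
  rw [c.bs_X_sq hr] at h2
  have h3 := (c.bs_RU_eq_one (mul_mem hr hr) h2).2
  rw [← zz_zero] at h3
  obtain ⟨b, rfl⟩ := exists_zz (nm_eq_zero.1 (zz_inj h3))
  exact c.mem_V.2 ⟨r, hr, b, rfl⟩
theorem bs_mem_X_of' {y : G} (hy : y ∈ c.T) (h : ∀ u, ∃ v, y * c.U u * y⁻¹ = c.U v ∧ v.x = u.x) :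
    y ∈ c.X := by
  obtain ⟨w, k, hk, rfl⟩ := c.ker y (c.Tt hy) h
  exact mul_mem (c.bs_U_mem_X w) (mem_sup_left (c.TK k ((mul_mem_cancel_left (c.UT w)).1 hy) hk))
/-- `C_T(Q) = V` -/
theorem cent_Q {y : G} (hy : y ∈ c.T) (h : ∀ u, y * c.U u = c.U u * y) : y ∈ c.V := by
  obtain ⟨r, hr, w, rfl⟩ := c.mem_X.1 (c.bs_mem_X_of' hy fun u => ⟨u, by rw [h, mul_inv_cancel_right], rfl⟩)
  have hw : w ∈ center (UM F q) := mem_center_iff.2 fun u => c.Uinj (by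
    have := h u
    rw [← mul_assoc, ← c.bs_RU hr, mul_assoc, mul_assoc, mul_left_cancel_iff] at this
    rw [map_mul, map_mul, this])
  exact mul_mem (mem_sup_left hr) (mem_sup_right ⟨w, hw, rfl⟩)
/-- `X` is the kernel of the action of `T` on `Q/Z` -/
theorem mem_X_of {y : G} (hy : y ∈ c.T) {w : UM F q}
    (h : ∀ u, y * c.U u * y⁻¹ = c.U (w * sl 1 (RingEquiv.refl F) u * w⁻¹)) : y ∈ c.X :=
  c.bs_mem_X_of' hy fun u => ⟨_, h u, by rw [conj_x, sl_refl]⟩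
/-- the action of `T` on `Q/Z` as a homomorphism with kernel `X` -/
theorem exists_rho : ∃ ρ : c.T →* (F ≃+* F), (∀ y : c.T, ρ y = 1 ↔ (y : G) ∈ c.X) ∧
    ∀ y : c.T, ∃ w, ∀ u, y * c.U u * (y : G)⁻¹ = c.U (w * sl 1 (ρ y) u * w⁻¹) := by
  choose w φ h using fun y : c.T => c.actT y y.2
  have uq : ∀ (y : c.T) w' φ', (∀ u, y * c.U u * (y : G)⁻¹ = c.U (w' * sl 1 φ' u * w'⁻¹)) → φ y = φ' :=
    fun y w' φ' h' => RingEquiv.ext fun x => by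
      obtain ⟨u, rfl⟩ := exists_um (q := q) x
      have := congrArg UM.x (c.Uinj ((h y u).symm.trans (h' u)))
      simpa only [conj_x, sl_x, one_mul] using this
  refine ⟨MonoidHom.mk' φ fun y y' => uq _ (w y * sl 1 (φ y) (w y')) _ fun u => ?_,
    fun y => ⟨fun e => c.mem_X_of y.2 (w := w y) fun u => ?_, fun e => ?_⟩, fun y => ⟨w y, h y⟩⟩
  · rw [coe_mul, show (y : G) * y' * c.U u * ((y : G) * y')⁻¹ = y * (y' * c.U u * (y' : G)⁻¹) * (y : G)⁻¹ by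
      group, h, h, sl_mul, sl_mul, bs_sl_inv, sl_sl, map_one, mul_one]
    congr 1
    simp only [mul_inv_rev, mul_assoc]
    rfl
  · rw [h, show φ y = 1 from e]; rfl
  · obtain ⟨r, hr, w', e1⟩ := c.mem_X.1 e
    refine uq y w' _ fun u => ?_
    rw [e1, show sl 1 (1 : F ≃+* F) u = u from sl_refl u, c.bs_RU hr, mul_assoc (c.U w'), c.bs_RU hr]
    simp [mul_assoc]
theorem comm_X {y y' : G} (hy : y ∈ c.T) (hy' : y' ∈ c.T) : y * y' * y⁻¹ * y'⁻¹ ∈ c.X := by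
  obtain ⟨ρ, h, -⟩ := c.exists_rho
  refine (h (⟨y, hy⟩ * ⟨y', hy'⟩ * ⟨y, hy⟩⁻¹ * ⟨y', hy'⟩⁻¹)).1 ?_
  have e : ρ ⟨y, hy⟩ * ρ ⟨y', hy'⟩ = ρ ⟨y', hy'⟩ * ρ ⟨y, hy⟩ := RingEquiv.ext fun x => aut_comm _ _ x
  rw [map_mul, map_mul, map_mul, map_inv, map_inv, e]
  group
/-- elements of `T \ X` with square in `X` -/
theorem outer {y : G} (hy : y ∈ c.T) (hX : y ∉ c.X) (h2 : y * y ∈ c.X) :
    ∃ u f, c.Ex f ∧ y = c.U u * f := by
  obtain ⟨ρ, h, h'⟩ := c.exists_rho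
  have e := (h (⟨y, hy⟩ * ⟨y, hy⟩)).2 h2
  rw [map_mul] at e
  obtain ⟨w, hw⟩ := h' ⟨y, hy⟩
  rcases aut_sq (q := q) (φ := ρ ⟨y, hy⟩) (fun x => RingEquiv.congr_fun e x) with e1 | e1
  · exact absurd ((h _).1 e1) hX
  · refine ⟨w, (c.U w)⁻¹ * y, ⟨mul_mem (inv_mem (c.UT w)) hy, fun u => ?_⟩, by group⟩
    rw [show (c.U w)⁻¹ * y * c.U u * ((c.U w)⁻¹ * y)⁻¹ = (c.U w)⁻¹ * (y * c.U u * y⁻¹) * c.U w by group,
      hw, e1]
    simp [mul_assoc]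
theorem bs_ex_z {f : G} (hf : c.Ex f) (b : K0 F q) : f * c.z b = c.z b * f := by
  have := hf.2 (zz b)
  rw [sl_zz, nm_one, one_mul, kf_sg] at this
  exact mul_inv_eq_iff_eq_mul.1 this
theorem bs_ex_mul_z {f : G} (hf : c.Ex f) (b : K0 F q) : c.Ex (f * c.z b) :=
  ⟨mul_mem hf.1 (c.UT _), fun u => by rw [mul_assoc f, bs_z_U, ← hf.2]; group⟩
theorem ex_mul {f f' : G} (hf : c.Ex f) (hf' : c.Ex f') : f * f' ∈ c.V :=
  c.cent_Q (mul_mem hf.1 hf'.1) fun u => mul_inv_eq_iff_eq_mul.1 (by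
    rw [show f * f' * c.U u * (f * f')⁻¹ = f * (f' * c.U u * f'⁻¹) * f⁻¹ by group, hf'.2, hf.2, bs_sl_sg_sg])
theorem bs_L_center {y : G} (hy : y ∈ c.L) (h : ∀ x ∈ c.L, y * x = x * y) : y = 1 := by
  have := c.Ls
  rcases (inferInstance : (center c.L).Normal).eq_bot_or_eq_top with e | e
  · have h1 : (⟨y, hy⟩ : c.L) ∈ center c.L := mem_center_iff.2 fun x => Subtype.ext (h x x.2).symm
    rw [e, mem_bot] at h1
    exact congrArg Subtype.val h1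
  · exact absurd ⟨⟨fun x y => mem_center_iff.1 (e ▸ mem_top y) x⟩⟩ c.Lna
theorem ex_sq {f : G} (hf : c.Ex f) : f * f ∈ c.R := by
  obtain ⟨r, hr, k, e⟩ := c.mem_V.1 (c.ex_mul hf hf)
  obtain ⟨b, hb⟩ := c.fL f hf.1 hf.2
  have e1 : f * c.z b * (f * c.z b) = r * c.z k := by
    rw [← e, mul_assoc, ← mul_assoc (c.z b), ← c.bs_ex_z hf, mul_assoc f, z_sq, mul_one]
  have : c.z k = 1 := c.bs_L_center (c.ZL k) fun x hx => by
    have h1 : Commute (f * c.z b) x := hb x hx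
    have h2 : Commute r x := c.RA r hr x (c.LA hx)
    have h3 := h2.inv_left.mul_left (e1 ▸ h1.mul_left h1)
    rwa [inv_mul_cancel_left] at h3
  rw [e, this, mul_one]
  exact hr
theorem bs_ex_U {f : G} (hf : c.Ex f) (u v : UM F q) :
    c.U v * (c.U u * f) * (c.U v)⁻¹ = c.U (v * u * sl 1 (sg F q) v⁻¹) * f := by
  rw [map_mul, map_mul, ← hf.2, map_inv]; group
theorem bs_ex_conj {f : G} (hf : c.Ex f) (b : K0 F q) : ∃ v, c.U v * f * (c.U v)⁻¹ = f * c.z b := by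
  obtain ⟨k, rfl⟩ := sq_surj b
  obtain ⟨v, hv⟩ := exists_um (q := q) (k : F)
  have := c.bs_ex_U hf 1 v
  rw [map_one, one_mul] at this
  refine ⟨v, ?_⟩
  rw [this, c.bs_ex_z hf, z]
  congr 2
  ext
  · simp [hv, cj_k0]
  · simp [hv, cj_k0, H10.cj_cj, CharTwo.add_self_eq_zero, sq, CharTwo.neg_eq]
theorem bs_outer_ex {s : G} (hs : s ∈ c.T) (hX : s ∉ c.X) (h2 : s * s = 1) :
    ∃ u, c.Ex (c.U u * s * (c.U u)⁻¹) := by
  obtain ⟨u, f, hf, rfl⟩ := c.outer hs hX (h2 ▸ one_mem _)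
  have h3 : f * f * c.U (u * sl 1 (sg F q) u) = 1 := by
    rw [c.bs_RU (c.ex_sq hf), map_mul, ← hf.2, ← h2]; group
  have h4 := congrArg UM.x (c.bs_RU_eq_one (c.ex_sq hf) h3).2
  simp only [UM.mul_x, sl_x, one_mul, sg_apply, UM.one_x] at h4
  obtain ⟨x, hx⟩ := tr_surj (⟨u.x, (CharTwo.add_eq_zero.1 h4).symm⟩ : K0 F q)
  obtain ⟨v, rfl⟩ := exists_um (q := q) x
  obtain ⟨b, hb⟩ := exists_zz (u := v * u * sl 1 (sg F q) v⁻¹) (by
    simp only [UM.mul_x, sl_x, one_mul, sg_apply, UM.inv_x, CharTwo.neg_eq]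
    rw [add_right_comm, hx, CharTwo.add_self_eq_zero])
  exact ⟨v, by rw [c.bs_ex_U hf, hb, ← z, ← c.bs_ex_z hf]; exact c.bs_ex_mul_z hf b⟩
/-- outer involutions are conjugate under `Q` to one centralizing `L` -/
theorem outer_inv {s : G} (hs : s ∈ c.T) (hX : s ∉ c.X) (h2 : s * s = 1) :
    ∃ u, c.Ex (c.U u * s * (c.U u)⁻¹) ∧
      ∀ x ∈ c.L, c.U u * s * (c.U u)⁻¹ * x = x * (c.U u * s * (c.U u)⁻¹) := by
  obtain ⟨u, hf⟩ := c.bs_outer_ex hs hX h2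
  obtain ⟨b, hb⟩ := c.fL _ hf.1 hf.2
  obtain ⟨v, hv⟩ := c.bs_ex_conj hf b
  have e : c.U (v * u) * s * (c.U (v * u))⁻¹ = c.U u * s * (c.U u)⁻¹ * c.z b := by
    rw [← hv, map_mul]; group
  exact ⟨v * u, e ▸ c.bs_ex_mul_z hf b, e ▸ hb⟩
theorem outer_conj {s : G} (hs : s ∈ c.T) (hX : s ∉ c.X) (h2 : s * s = 1) (b : K0 F q) :
    ∃ u, c.U u * s * (c.U u)⁻¹ = s * c.z b := by
  obtain ⟨u, hf⟩ := c.bs_outer_ex hs hX h2
  obtain ⟨v, hv⟩ := c.bs_ex_conj hf b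
  refine ⟨u⁻¹ * v * u, ?_⟩
  calc _ = (c.U u)⁻¹ * (c.U v * (c.U u * s * (c.U u)⁻¹) * (c.U v)⁻¹) * c.U u := by
        rw [map_mul, map_mul, map_inv]; group
    _ = _ := by rw [hv, mul_assoc, mul_assoc _ (c.z b), bs_z_U]; group
/-- all non-trivial elements of `Z` are conjugate under `H ∩ L` -/
theorem z_conj {b : K0 F q} (hb : b ≠ 0) : ∃ h ∈ c.H, h ∈ c.L ∧ h * c.z 1 * h⁻¹ = c.z b := by
  obtain ⟨k, rfl⟩ := sq_surj b
  obtain ⟨h, hH, hL, e⟩ := c.HL k fun e => hb (by simp [e])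
  exact ⟨h, hH, hL, by rw [z, e, sl_zz, nm_k0, kf_one, mul_one]; rfl⟩
theorem z1_comm {y : G} (hy : y ∈ c.T) : y * c.z 1 = c.z 1 * y := by
  obtain ⟨w, φ, h⟩ := c.actT y hy
  have := h (zz 1)
  rw [sl_zz, nm_one, kf_one, mul_one, conj_zz] at this
  exact mul_inv_eq_iff_eq_mul.1 this
theorem exists_h0 (k : K0 F q) (hk : k ≠ 0) : ∃ h ∈ c.L, c.Sc h k :=
  let ⟨h, hH, hL, e⟩ := c.HL k hk
  ⟨h, hL, hH, e⟩
theorem exists_h1 : ∃ h η, c.Sc h η ∧ nm q η = 1 ∧ η ≠ 1 :=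
  let ⟨k, hk, h1, h2⟩ := exists_eta (F := F) c.q4
  let ⟨h, hH, e⟩ := c.Hex k hk
  ⟨h, _, ⟨hH, e⟩, h1, h2⟩
theorem elem_card {D : Subgroup G} (hD : D ≤ c.T) (h2 : ∀ y ∈ D, y * y = 1)
    (hR : ∀ r ∈ c.R, r = 1 ∨ r = c.t) : Nat.card D ≤ 4 * q := by
  obtain ⟨ρ, h, -⟩ := c.exists_rho
  have h1 : Nat.card (ρ.comp (inclusion hD)).range ≤ 2 := base_card_two (RingEquiv.refl F) (sg F q) (by
    rintro _ ⟨y, rfl⟩
    refine aut_sq fun x => RingEquiv.congr_fun (?_ : _ * _ = (1 : F ≃+* F)) x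
    rw [← map_mul, show y * y = 1 from Subtype.ext (h2 y y.2), map_one])
  have h3 : Nat.card (ρ.comp (inclusion hD)).ker ≤ Nat.card c.V :=
    Nat.card_le_card_of_injective (fun y => ⟨y.1.1, c.inv_X ((h _).1 y.2) (h2 _ y.1.2)⟩)
      fun x y e => Subtype.ext (Subtype.ext (Subtype.mk.inj e))
  have h4 : Nat.card c.R ≤ 2 := base_card_two 1 c.t hR
  rw [← (ρ.comp (inclusion hD)).ker.card_mul_index, index_ker]
  rw [bs_card_V] at h3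
  calc _ ≤ 2 * q * 2 := Nat.mul_le_mul (h3.trans (Nat.mul_le_mul_right _ h4)) h1
    _ = _ := by ring

end Ctx0

end Cfsg.Agent.GMS
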