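import Cfsg.Agent.GMS.Base
import Cfsg.Agent.H49.SylowOf

/-! Project GMS: uniqueness of `X`, conjugate frames, outer fusion. -/

set_option autoImplicit false
set_option linter.unusedSectionVars false

namespace Cfsg.Agent.GMS

open Subgroup H10 H91
open H42 hiding SylIn

variable {G : Type*} [Group G] [Finite G] {F : Type*} [Field F] [Fintype F] [CharP F 2] {q : ℕ}
  [hF : Fact (Fintype.card F = q ^ 2)]

theorem b2_arith {e m : ℕ} (he : 2 ≤ e) (h16 : 16 ≤ e ^ m) (h : e ^ m ≤ m * e) : m ≤ 1 := by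
  by_contra hm
  obtain ⟨k, rfl⟩ : ∃ k, m = k + 2 := ⟨m - 2, by omega⟩
  have h1 : e ^ (k + 1) ≤ k + 2 := by
    rw [pow_succ] at h
    exact Nat.le_of_mul_le_mul_right h (by omega)
  have h2 : 2 ^ (k + 1) ≤ e ^ (k + 1) := Nat.pow_le_pow_left he _
  have h3 : k < 2 ^ k := Nat.lt_two_pow_self
  obtain rfl : k = 0 := by rw [pow_succ] at h2; omega
  simp only [zero_add, pow_one] at h1
  obtain rfl : e = 2 := by omega
  norm_num at h16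

theorem b2_gal (hq : 4 ≤ q) (Φ : Subgroup (F ≃+* F))
    (h : q ^ 2 ≤ Nat.card Φ * Nat.card {x : F // ∀ φ ∈ Φ, φ x = x}) : Φ = ⊥ := by
  classical
  have : Finite (F ≃+* F) := Finite.of_injective (fun φ : F ≃+* F => (φ : F → F)) DFunLike.coe_injective
  have := Fintype.ofFinite Φ
  have h1 : Nat.card F = Nat.card (FixedPoints.subfield Φ F) ^ Nat.card Φ := by
    rw [Nat.card_eq_fintype_card (α := Φ), ← FixedPoints.finrank_eq_card Φ F]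
    exact Module.natCard_eq_pow_finrank
  have h2 : Nat.card {x : F // ∀ φ ∈ Φ, φ x = x} = Nat.card (FixedPoints.subfield Φ F) :=
    Nat.card_congr (Equiv.subtypeEquivRight fun x => ⟨fun h φ => h φ φ.2, fun h φ hφ => h ⟨φ, hφ⟩⟩)
  rw [Nat.card_eq_fintype_card, hF.out] at h1
  rw [h2, h1] at h
  exact eq_bot_of_card_le _ (b2_arith Finite.one_lt_card (h1 ▸ Nat.pow_le_pow_left hq 2) h)

theorem b2_odd {x : G} {n : ℕ} (hn : Odd n) (h : x ^ n = 1) (h2 : x * x = 1) : x = 1 := by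
  obtain ⟨k, rfl⟩ := hn
  rwa [pow_succ, pow_mul, sq, h2, one_pow, one_mul] at h

namespace Ctx0

variable (c : Ctx0 G F q)

theorem b2_U_comm (u v : UM F q) : c.U u * c.U v * (c.U u)⁻¹ * (c.U v)⁻¹ = c.z (cm q u.x v.x) := by
  rw [← map_mul, um_comm, ← zz_comm, map_mul, map_mul, ← z]; group

theorem b2_X_comm {r r' : G} (hr : r ∈ c.R) (hr' : r' ∈ c.R) (u v : UM F q) :
    r * c.U u * (r' * c.U v) * (r * c.U u)⁻¹ * (r' * c.U v)⁻¹ = c.z (cm q u.x v.x) := by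
  have h1 : Commute r (c.U u) := c.bs_RU hr u
  have h2 : Commute r (r' * c.U v) := (show Commute r r' from c.Rc r hr r' hr').mul_right (c.bs_RU hr v)
  have h3 : Commute r' (c.z (cm q u.x v.x)) := c.bs_RU hr' _
  calc _ = c.U u * (r * (r' * c.U v) * r⁻¹) * (c.U u)⁻¹ * (r' * c.U v)⁻¹ := by
        rw [h1.eq]; group
    _ = r' * (c.U u * c.U v * (c.U u)⁻¹ * (c.U v)⁻¹) * r'⁻¹ := by
        rw [h2.eq, mul_inv_cancel_right, ← mul_assoc, ← c.bs_RU hr']; group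
    _ = _ := by rw [b2_U_comm, h3.eq, mul_inv_cancel_right]

theorem b2_V_x {r : G} (hr : r ∈ c.R) {u : UM F q} (h : r * c.U u ∈ c.V) : u.x = 0 := by
  obtain ⟨r', hr', b, e⟩ := c.mem_V.1 h
  have : r'⁻¹ * r * c.U (u * (zz b)⁻¹) = 1 := by rw [map_mul, map_inv, mul_assoc, ← mul_assoc r, e, z]; group
  rw [mul_inv_eq_one.1 (c.bs_RU_eq_one (mul_mem (inv_mem hr') hr) this).2, zz_x]

theorem b2_fix {y r : G} (hy : y ∈ c.T) {w : UM F q} {φ : F ≃+* F}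
    (hw : ∀ u, y * c.U u * y⁻¹ = c.U (w * sl 1 φ u * w⁻¹)) (hr : r ∈ c.R) {u : UM F q}
    (h : y * (r * c.U u) * y⁻¹ * (r * c.U u)⁻¹ ∈ c.V) : φ u.x = u.x := by
  have e : y * (r * c.U u) * y⁻¹ * (r * c.U u)⁻¹ = y * r * y⁻¹ * r⁻¹ * c.U (w * sl 1 φ u * w⁻¹ * u⁻¹) := by
    rw [mul_assoc _ r⁻¹, c.bs_RU (inv_mem hr), map_mul, map_inv, ← hw]; group
  have := c.b2_V_x (mul_mem (c.TR hy hr) (inv_mem hr)) (e ▸ h)
  rw [UM.mul_x, conj_x, sl_x, one_mul, UM.inv_x, ← sub_eq_add_neg] at this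
  exact sub_eq_zero.1 this

/-- `X` is the only subgroup of `T` of its size whose commutators have order at most two -/
theorem b1_DX {D : Subgroup G} (hD : D ≤ c.T)
    (h : ∀ x ∈ D, ∀ y ∈ D, (x * y * x⁻¹ * y⁻¹) * (x * y * x⁻¹ * y⁻¹) = 1)
    (hc : Nat.card c.X ≤ Nat.card D) : D = c.X := by
  obtain ⟨ρ, h1, h2⟩ := c.exists_rho
  set f := ρ.comp (inclusion hD) with hf
  choose sec hsec using exists_um (F := F) (q := q)
  have hk : ∀ x : f.ker, ∃ r ∈ c.R, ∃ u, (x.1.1 : G) = r * c.U u := fun x => c.mem_X.1 ((h1 _).1 x.2)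
  choose r hr u hu using hk
  have h3 : Nat.card f.ker ≤ Nat.card (c.V × {x : F // ∀ φ ∈ f.range, φ x = x}) := by
    refine Nat.card_le_card_of_injective (fun x => (⟨x.1.1 * (c.U (sec (u x).x))⁻¹, ?_⟩, ⟨(u x).x, ?_⟩))
      fun x y e => ?_
    · obtain ⟨b, hb⟩ := exists_zz (u := u x * (sec (u x).x)⁻¹) (by simp [hsec])
      rw [hu, mul_assoc, ← map_inv, ← map_mul, hb]
      exact c.mem_V.2 ⟨_, hr x, b, rfl⟩
    · rintro _ ⟨y, rfl⟩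
      obtain ⟨w, hw⟩ := h2 (inclusion hD y)
      refine c.b2_fix (hD y.2) hw (hr x) ?_
      rw [← hu]
      exact c.inv_X (c.comm_X (hD y.2) (hD x.1.2)) (h _ y.2 _ x.1.2)
    · have e1 := Subtype.mk.inj (Prod.mk.inj e).1
      rw [Subtype.mk.inj (Prod.mk.inj e).2] at e1
      exact Subtype.ext (Subtype.ext (mul_right_cancel e1))
  have h4 := f.ker.card_mul_index
  rw [index_ker] at h4
  rw [Nat.card_prod, bs_card_V] at h3
  have hq : 0 < Nat.card c.R * q := Nat.mul_pos Nat.card_pos (by have := c.q4; omega)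
  have h5 : f.range = ⊥ := b2_gal c.q4 _ (Nat.le_of_mul_le_mul_left (c := Nat.card c.R * q) (by
    calc _ = Nat.card c.X := by rw [card_X]; ring
      _ ≤ _ := hc
      _ = _ := h4.symm
      _ ≤ _ := Nat.mul_le_mul_right _ h3
      _ = _ := by ring) hq)
  refine eq_of_le_of_card_ge (fun y hy => (h1 ⟨y, hD hy⟩).1 ?_) hc
  exact mem_bot.1 (h5 ▸ (⟨⟨y, hy⟩, rfl⟩ : ρ ⟨y, hD hy⟩ ∈ f.range))

theorem b2_outer_mul {y y' : G} (hy : y ∈ c.T) (hX : y ∉ c.X) (h2 : y * y ∈ c.X) (hy' : y' ∈ c.T)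
    (hX' : y' ∉ c.X) (h2' : y' * y' ∈ c.X) : y * y' ∈ c.X := by
  obtain ⟨u, f, hf, rfl⟩ := c.outer hy hX h2
  obtain ⟨u', f', hf', rfl⟩ := c.outer hy' hX' h2'
  rw [show c.U u * f * (c.U u' * f') = c.U u * (f * c.U u' * f⁻¹) * (f * f') by group, hf.2]
  exact mul_mem (mul_mem (c.bs_U_mem_X _) (c.bs_U_mem_X _)) (c.bs_VX (c.ex_mul hf hf'))

theorem b2_z_comm (b : K0 F q) : ∃ u v, c.U u * c.U v * (c.U u)⁻¹ * (c.U v)⁻¹ = c.z b := by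
  obtain ⟨x, hx⟩ := cm_surj (q := q) (one_ne_zero (α := F)) b
  obtain ⟨u, hu⟩ := exists_um (q := q) (1 : F)
  obtain ⟨v, rfl⟩ := exists_um (q := q) x
  exact ⟨u, v, by rw [b2_U_comm, hu, hx]⟩

/-- a conjugate of `Q` in `T` lies in `X` and has the same centre -/
theorem b1_XX {g : G} (h : ∀ u, g * c.U u * g⁻¹ ∈ c.T) :
    (∀ u, g * c.U u * g⁻¹ ∈ c.X) ∧ ∀ b, ∃ b', g * c.z b * g⁻¹ = c.z b' := by
  have cc : ∀ u v, g * c.U u * g⁻¹ * (g * c.U v * g⁻¹) * (g * c.U u * g⁻¹)⁻¹ * (g * c.U v * g⁻¹)⁻¹ =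
      g * c.z (cm q u.x v.x) * g⁻¹ := fun u v => by rw [← b2_U_comm]; group
  have mu : ∀ u v, g * c.U (u * v) * g⁻¹ = g * c.U u * g⁻¹ * (g * c.U v * g⁻¹) := fun u v => by
    rw [map_mul]; group
  have hz : ∀ b, g * c.z b * g⁻¹ ∈ c.X := fun b => by
    obtain ⟨u, v, e⟩ := c.b2_z_comm b
    rw [b2_U_comm] at e
    rw [← e, ← cc]
    exact c.comm_X (h u) (h v)
  have sq : ∀ u, g * c.U u * g⁻¹ * (g * c.U u * g⁻¹) ∈ c.X := fun u => by rw [← mu, um_sq]; exact hz _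
  let S : AddSubgroup F :=
    { carrier := {x | ∃ u : UM F q, u.x = x ∧ g * c.U u * g⁻¹ ∈ c.X}
      zero_mem' := ⟨1, rfl, by simp⟩
      add_mem' := by
        rintro _ _ ⟨u, rfl, hu⟩ ⟨v, rfl, hv⟩
        exact ⟨u * v, rfl, mu u v ▸ mul_mem hu hv⟩
      neg_mem' := by
        rintro _ ⟨u, rfl, hu⟩
        exact ⟨u⁻¹, rfl, by simpa [mul_assoc] using inv_mem hu⟩ }
  have hS : S.index ≤ 2 := by
    refine Nat.le_of_dvd two_pos (AddSubgroup.index_dvd_two_iff.2 ?_)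
    by_cases h0 : ∀ u, g * c.U u * g⁻¹ ∈ c.X
    · exact ⟨0, fun x => Or.inr ((exists_um x).imp fun u hu => ⟨hu, h0 u⟩)⟩
    · push Not at h0
      obtain ⟨u0, h0⟩ := h0
      refine ⟨u0.x, fun x => ?_⟩
      obtain ⟨u, rfl⟩ := exists_um (q := q) x
      by_cases h1 : g * c.U u * g⁻¹ ∈ c.X
      · exact Or.inr ⟨u, rfl, h1⟩
      · exact Or.inl ⟨u * u0, rfl, mu u u0 ▸ c.b2_outer_mul (h u) h1 (sq u) (h u0) h0 (sq u0)⟩
  have h2 : ∀ b, ∃ b', g * c.z b * g⁻¹ = c.z b' := fun b => by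
    obtain ⟨_, ⟨u, rfl, hu⟩, _, ⟨v, rfl, hv⟩, rfl⟩ := idx2 c.q4 S hS b
    obtain ⟨r, hr, u', e⟩ := c.mem_X.1 hu
    obtain ⟨r', hr', v', e'⟩ := c.mem_X.1 hv
    exact ⟨_, by rw [← cc, e, e', c.b2_X_comm hr hr']⟩
  refine ⟨fun u0 => by_contra fun h0 => ?_, h2⟩
  obtain ⟨w, f, hf, e0⟩ := c.outer (h u0) h0 (sq u0)
  have fx : ∀ u r, r ∈ c.R → ∀ u', g * c.U u * g⁻¹ = r * c.U u' → ∃ k : K0 F q, u'.x = k := by
    intro u r hr u' e
    refine fix_iff.1 (c.b2_fix (h u0) (w := w) (φ := sg F q) (fun v => ?_) hr ?_)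
    · rw [e0, map_mul, map_mul, ← hf.2, map_inv]; group
    · obtain ⟨b', e1⟩ := h2 (cm q u0.x u.x)
      rw [← e, cc, e1]
      exact mem_sup_right (c.bs_z_mem _)
  obtain ⟨_, ⟨u, rfl, hu⟩, _, ⟨v, rfl, hv⟩, e1⟩ := idx2 c.q4 S hS 1
  obtain ⟨r, hr, u', e⟩ := c.mem_X.1 hu
  obtain ⟨r', hr', v', e'⟩ := c.mem_X.1 hv
  obtain ⟨k, hk⟩ := fx u r hr u' e
  obtain ⟨k', hk'⟩ := fx v r' hr' v' e'
  have := cc u v
  rw [e, e', c.b2_X_comm hr hr', hk, hk', cm_k0, z_zero, e1, eq_comm, conj_eq_one_iff, z_eq_one] at this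
  exact one_ne_zero this

/-- a 2-subgroup centralizing a conjugate of `t` lies in a conjugate frame -/
theorem b1_frame {D : Subgroup G} (hD : IsPGroup 2 D) {g : G}
    (h : ∀ y ∈ D, y * (g * c.t * g⁻¹) = g * c.t * g⁻¹ * y) :
    ∃ k, k * c.t = c.t * k ∧ ∀ y ∈ D, (g * k)⁻¹ * y * (g * k) ∈ c.T := by
  have : Fact (Nat.Prime 2) := ⟨Nat.prime_two⟩
  obtain ⟨a, ha, h1⟩ := c.syl.exists_conj_mem (hD.map (MulAut.conj g⁻¹).toMonoidHom) (by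
    rintro _ ⟨y, hy, rfl⟩
    refine mem_centralizer_singleton_iff.2 ?_
    change g⁻¹ * y * g⁻¹⁻¹ * c.t = c.t * (g⁻¹ * y * g⁻¹⁻¹)
    calc _ = g⁻¹ * (y * (g * c.t * g⁻¹)) * g := by group
      _ = _ := by rw [h y hy]; group)
  refine ⟨a⁻¹, mem_centralizer_singleton_iff.1 (inv_mem ha), fun y hy => ?_⟩
  simpa [mul_assoc] using h1 _ ⟨y, hy, rfl⟩

theorem b2_pgQ : IsPGroup 2 c.Q := c.syl.isPGroup.to_le c.QT

theorem b1_t_not_z (b : K0 F q) : ¬ IsConj c.t (c.z b) := fun h => by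
  obtain ⟨g, e⟩ := isConj_iff.1 h
  obtain ⟨k, hk, h1⟩ := c.b1_frame c.b2_pgQ (g := g) (by rintro _ ⟨u, rfl⟩; rw [e, c.bs_z_U])
  obtain ⟨b', e1⟩ := (c.b1_XX (g := (g * k)⁻¹) fun u => by simpa only [inv_inv] using h1 _ ⟨u, rfl⟩).2 b
  have : c.t = c.z b' := by
    rw [← e1, ← e]
    calc _ = k⁻¹ * (k * c.t) := by group
      _ = _ := by rw [hk]; group
  exact c.t1 (c.RA1 _ c.tR (this ▸ c.UA _))

/-- outer fusion forces fusion in `t Z` -/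
theorem b1_outer_fus (hR : ∀ r ∈ c.R, r * r = 1 → r = 1 ∨ r = c.t) {s : G} (hs : s ∈ c.T)
    (hX : s ∉ c.X) (h : IsConj c.t s) : ∃ b, b ≠ 0 ∧ IsConj c.t (c.t * c.z b) := by
  have s2 : s * s = 1 := by
    obtain ⟨g, rfl⟩ := isConj_iff.1 h
    rw [show g * c.t * g⁻¹ * (g * c.t * g⁻¹) = g * (c.t * c.t) * g⁻¹ by group, c.t2]; group
  obtain ⟨u, hf, hL⟩ := c.outer_inv hs hX s2
  have hX' : c.U u * s * (c.U u)⁻¹ ∉ c.X := fun e => hX (by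
    rwa [mul_mem_cancel_right (inv_mem (c.bs_U_mem_X u)), mul_mem_cancel_left (c.bs_U_mem_X u)] at e)
  obtain ⟨g0, e0⟩ := isConj_iff.1 (h.trans (isConj_iff.2 ⟨c.U u, rfl⟩))
  rw [← e0] at hf hL hX'
  obtain ⟨k, hk, h1⟩ := c.b1_frame (D := c.T ⊓ centralizer {g0 * c.t * g0⁻¹})
    (c.syl.isPGroup.to_le inf_le_left) fun y hy => mem_centralizer_singleton_iff.1 hy.2
  have e1 : g0 * c.t * g0⁻¹ = g0 * k * c.t * (g0 * k)⁻¹ := by rw [mul_assoc g0 k, hk]; group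
  rw [e1] at hf hL hX' h1
  generalize g0 * k = g at hf hL hX' h1
  have mu : ∀ x y, g⁻¹ * (x * y) * g = g⁻¹ * x * g * (g⁻¹ * y * g) := fun x y => by group
  have zT : ∀ b, g⁻¹ * c.z b * g ∈ c.T := fun b =>
    h1 _ ⟨c.UT _, mem_centralizer_singleton_iff.2 (c.bs_ex_z hf b).symm⟩
  have z2 : ∀ b, g⁻¹ * c.z b * g * (g⁻¹ * c.z b * g) = 1 := fun b => by rw [← mu, z_sq]; group
  obtain ⟨κ, κ0, κ1⟩ := exists_k0 (F := F) c.q4
  have κ2 : 1 + κ ≠ 0 := fun e => κ1 (CharTwo.add_eq_zero.1 e).symm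
  obtain ⟨b, hb, hbX⟩ : ∃ b, b ≠ 0 ∧ g⁻¹ * c.z b * g ∈ c.X := by
    by_cases a1 : g⁻¹ * c.z 1 * g ∈ c.X
    · exact ⟨1, one_ne_zero, a1⟩
    by_cases a2 : g⁻¹ * c.z κ * g ∈ c.X
    · exact ⟨κ, κ0, a2⟩
    refine ⟨1 + κ, κ2, ?_⟩
    rw [z_add, mu]
    exact c.b2_outer_mul (zT _) a1 (z2 _ ▸ one_mem _) (zT _) a2 (z2 _ ▸ one_mem _)
  have hJ : ∀ {y}, y ∈ c.A ⊔ centralizer (c.A : Set G) ↔ ∃ a ∈ c.A, ∃ k ∈ centralizer (c.A : Set G), y = a * k :=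
    base_mem_sup fun a ha k hk => mem_centralizer_iff.1 hk a ha
  let N : Subgroup c.L := ((c.A ⊔ centralizer (c.A : Set G)).comap (MulAut.conj g⁻¹).toMonoidHom).subgroupOf c.L
  have mN : ∀ x : c.L, x ∈ N ↔ g⁻¹ * x * g ∈ c.A ⊔ centralizer (c.A : Set G) := fun x => by
    simp [N, mem_subgroupOf]
  have nN : N.Normal := ⟨fun x hx y => by
    have yt : g⁻¹ * y * g * c.t = c.t * (g⁻¹ * y * g) := by
      calc _ = g⁻¹ * (y * (g * c.t * g⁻¹)) * g := by group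
        _ = _ := by rw [← hL y y.2]; group
    have yA : g⁻¹ * y * g ∈ normalizer (c.A : Set G) := H49.mem_norm_of_cj_le fun a ha => by
      obtain ⟨a', ha', rfl⟩ := H49.mem_cj'.1 ha
      exact c.An _ yt _ ha'
    have := H49.conj_mem_of_norm (H49.norm_sup le_rfl (H49.norm_cent le_rfl)) yA ((mN x).1 hx)
    rw [mN]
    convert this using 1
    simp only [coe_mul, coe_inv]
    group⟩
  have := c.Ls
  have hN : N = ⊤ := nN.eq_bot_or_eq_top.resolve_left fun e => hb (c.z_eq_one.1 (by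
    have h2 : (⟨c.z b, c.ZL b⟩ : c.L) ∈ N := (mN _).2 (sup_le
      (fun r hr => mem_sup_right (mem_centralizer_iff.2 fun a ha => (c.RA r hr a ha).symm)) (c.bs_QA.trans le_sup_left) hbX)
    rw [e, mem_bot] at h2
    exact congrArg Subtype.val h2))
  have vV : ∀ y ∈ c.X, y * y = 1 → (∃ m, y = c.z m) ∨ ∃ m, y = c.t * c.z m := fun y hy y2 => by
    obtain ⟨r, hr, m, rfl⟩ := c.mem_V.1 (c.inv_X hy y2)
    rw [z, c.bs_X_sq hr, zz_x, nm_zero, z_zero, mul_one] at y2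
    rcases hR r hr y2 with rfl | rfl
    exacts [Or.inl ⟨m, one_mul _⟩, Or.inr ⟨m, rfl⟩]
  have zX : ∀ b, g⁻¹ * c.z b * g ∈ c.X := fun b => by
    obtain ⟨a, ha, k, hk, e⟩ := hJ.1 ((mN ⟨c.z b, c.ZL b⟩).1 (hN ▸ mem_top _))
    have e' : g⁻¹ * c.z b * g = a * k := e
    rw [e']
    exact c.mem_X.2 (c.TX a ha k (fun x hx => (hk x hx).symm) (e' ▸ zT b))
  obtain ⟨b', hb', m, hm⟩ : ∃ b, b ≠ 0 ∧ ∃ m, g⁻¹ * c.z b * g = c.z m := by
    rcases vV _ (zX 1) (z2 1) with a1 | ⟨m, a1⟩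
    · exact ⟨1, one_ne_zero, a1⟩
    rcases vV _ (zX κ) (z2 κ) with a2 | ⟨m', a2⟩
    · exact ⟨κ, κ0, a2⟩
    refine ⟨1 + κ, κ2, m + m', ?_⟩
    rw [z_add, mu, a1, a2, z_add, mul_assoc, ← mul_assoc (c.z m), c.z_comm m (mem_sup_left c.tR),
      ← mul_assoc, ← mul_assoc, c.t2, one_mul]
  have tT : g⁻¹ * c.t * g ∈ c.T := h1 _ ⟨c.RT c.tR, mem_centralizer_singleton_iff.2 (c.Tt hf.1).symm⟩
  have t2 : g⁻¹ * c.t * g * (g⁻¹ * c.t * g) = 1 := by rw [← mu, c.t2]; group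
  have tc : IsConj c.t (g⁻¹ * c.t * g) := isConj_iff.2 ⟨g⁻¹, by rw [inv_inv]⟩
  by_cases ht : g⁻¹ * c.t * g ∈ c.X
  · rcases vV _ ht t2 with ⟨n, e⟩ | ⟨n, e⟩
    · exact absurd (e ▸ tc) (c.b1_t_not_z n)
    · refine ⟨n, fun e0 => hX' ?_, e ▸ tc⟩
      rw [e0, z_zero, mul_one] at e
      nth_rewrite 1 [← e]
      have : c.t ∈ c.X := mem_sup_left c.tR
      simpa [mul_assoc] using this
  · obtain ⟨v, e⟩ := c.outer_conj tT ht t2 m
    rw [← hm, ← mu] at e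
    exact ⟨b', hb', isConj_iff.2 ⟨g * c.U v * g⁻¹, by
      calc _ = g * (c.U v * (g⁻¹ * c.t * g) * (c.U v)⁻¹) * g⁻¹ := by group
        _ = _ := by rw [e]; group⟩⟩

end Ctx0

end Cfsg.Agent.GMS
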