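import Cfsg.Agent.GMS.Base1

/-! Project GMS: `R` is a TI-subgroup, the centralizer of `X`, and a generic splitting lemma. -/

set_option autoImplicit false
set_option linter.unusedSectionVars false

namespace Cfsg.Agent.GMS

open Subgroup H10 H91
open H42 hiding SylIn

variable {G : Type*} [Group G] [Finite G] {F : Type*} [Field F] [Fintype F] [CharP F 2] {q : ℕ}
  [hF : Fact (Fintype.card F = q ^ 2)]

namespace Ctx0

variable (c : Ctx0 G F q)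

/-- `X` is the only subgroup of `T` of its size whose commutators have order at most two -/
theorem DX {D : Subgroup G} (hD : D ≤ c.T)
    (h : ∀ x ∈ D, ∀ y ∈ D, (x * y * x⁻¹ * y⁻¹) * (x * y * x⁻¹ * y⁻¹) = 1)
    (hc : Nat.card c.X ≤ Nat.card D) : D = c.X := c.b1_DX hD h hc
/-- a conjugate of `Q` in `T` lies in `X` and has the same centre -/
theorem XX {g : G} (h : ∀ u, g * c.U u * g⁻¹ ∈ c.T) :
    (∀ u, g * c.U u * g⁻¹ ∈ c.X) ∧ ∀ b, ∃ b', g * c.z b * g⁻¹ = c.z b' := c.b1_XX h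
/-- a 2-subgroup centralizing a conjugate of `t` lies in a conjugate frame -/
theorem frame {D : Subgroup G} (hD : IsPGroup 2 D) {g : G}
    (h : ∀ y ∈ D, y * (g * c.t * g⁻¹) = g * c.t * g⁻¹ * y) :
    ∃ k, k * c.t = c.t * k ∧ ∀ y ∈ D, (g * k)⁻¹ * y * (g * k) ∈ c.T := c.b1_frame hD h
theorem t_not_z (b : K0 F q) : ¬ IsConj c.t (c.z b) := c.b1_t_not_z b
/-- outer fusion forces fusion in `t Z` -/
theorem outer_fus (hR : ∀ r ∈ c.R, r * r = 1 → r = 1 ∨ r = c.t) {s : G} (hs : s ∈ c.T)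
    (hX : s ∉ c.X) (h : IsConj c.t s) : ∃ b, b ≠ 0 ∧ IsConj c.t (c.t * c.z b) :=
  c.b1_outer_fus hR hs hX h

end Ctx0

namespace Ctx

variable (c : Ctx G F q)

theorem b2_R {r y : G} (hr : r ∈ c.R) (hy : y * c.t = c.t * y) : y * r = r * y := by
  by_cases h1 : r = 1
  · simp [h1]
  · exact (c.RC r hr h1 y).2 hy

theorem frame' {D : Subgroup G} (hD : IsPGroup 2 D) {g r : G} (hr : r ∈ c.R) (h1 : r ≠ 1)
    (h : ∀ y ∈ D, y * (g * r * g⁻¹) = g * r * g⁻¹ * y) :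
    ∃ k, k * c.t = c.t * k ∧ ∀ y ∈ D, (g * k)⁻¹ * y * (g * k) ∈ c.T := by
  refine c.frame hD fun y hy => ?_
  have := (c.RC r hr h1 (g⁻¹ * y * g)).1 (by
    calc _ = g⁻¹ * (y * (g * r * g⁻¹)) * g := by group
      _ = _ := by rw [h y hy]; group)
  calc _ = g * (g⁻¹ * y * g * c.t) * g⁻¹ := by group
    _ = _ := by rw [this]; group

theorem z_not_Tc (b : K0 F q) : ¬ c.Tc (c.z b) := by
  rintro ⟨r, hr, h1, h⟩
  obtain ⟨g, e⟩ := isConj_iff.1 h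
  obtain ⟨k, hk, h2⟩ := c.frame' c.b2_pgQ (g := g) hr h1 (by rintro _ ⟨u, rfl⟩; rw [e, c.bs_z_U])
  obtain ⟨b', e1⟩ := (c.XX (g := (g * k)⁻¹) fun u => by simpa only [inv_inv] using h2 _ ⟨u, rfl⟩).2 b
  have : r = c.z b' := by
    rw [← e1, ← e]
    calc _ = k⁻¹ * (k * r) := by group
      _ = _ := by rw [c.b2_R hr hk]; group
  exact h1 (c.RA1 _ hr (this ▸ c.UA _))

theorem b2_mem_R {x : G} : x ∈ c.R ↔ x * x = 1 ∧ x ∈ centralizer {c.t} ∧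
    ∀ y ∈ centralizer {c.t}, y * x = x * y := by
  have : Fact (Nat.Prime 2) := ⟨Nat.prime_two⟩
  refine ⟨fun hx => ⟨c.Re x hx, c.syl.le (c.RT hx), fun y hy =>
    c.b2_R hx (mem_centralizer_singleton_iff.1 hy)⟩, fun ⟨h1, h2, h3⟩ => c.TK x ?_ fun a ha => ?_⟩
  · refine c.syl.le_of_normal (N := zpowers x) (fun y => ⟨1, Subtype.ext ?_⟩) (zpowers_le.2 h2)
      (fun a ha n hn => ?_) (mem_zpowers x)
    · obtain ⟨_, k, rfl⟩ := y
      change (x ^ k) ^ 2 ^ 1 = 1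
      rw [pow_one, ← zpow_natCast, ← zpow_mul, mul_comm, zpow_mul, zpow_natCast, sq, h1, one_zpow]
    · obtain ⟨k, rfl⟩ := hn
      rw [((show Commute a x from h3 a ha).zpow_right k).eq, mul_inv_cancel_right]
      exact ⟨k, rfl⟩
  · exact (h3 a (mem_centralizer_singleton_iff.2 (c.RA _ c.tR a ha).symm)).symm

/-- `R` is a TI-subgroup -/
theorem norm_R {g r : G} (hr : r ∈ c.R) (h1 : r ≠ 1) (h : g * r * g⁻¹ ∈ c.R) :
    g ∈ normalizer (c.R : Set G) ∧ g ∈ normalizer (centralizer {c.t} : Set G) := by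
  have h2 : g ∈ normalizer (centralizer {c.t} : Set G) := mem_normalizer_fintype fun y hy => by
    have h3 := c.b2_R hr (mem_centralizer_singleton_iff.1 hy)
    refine mem_centralizer_singleton_iff.2 ((c.RC _ h (by simpa using h1) _).1 ?_)
    calc _ = g * (y * r) * g⁻¹ := by group
      _ = _ := by rw [h3]; group
  refine ⟨mem_normalizer_fintype fun x hx => ?_, h2⟩
  obtain ⟨a1, a2, a3⟩ := c.b2_mem_R.1 hx
  refine c.b2_mem_R.2 ⟨?_, H49.conj_mem_of_norm le_rfl h2 a2, fun y hy => ?_⟩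
  · rw [show g * x * g⁻¹ * (g * x * g⁻¹) = g * (x * x) * g⁻¹ by group, a1]; group
  · calc _ = g * (g⁻¹ * y * g * x) * g⁻¹ := by group
      _ = _ := by rw [a3 _ (H49.conj_mem_of_norm' le_rfl h2 hy)]; group

theorem two_elt {g r : G} (hr : r ∈ c.R) (h1 : r ≠ 1) (h : g * r * g⁻¹ ∈ c.R) {k : ℕ}
    (hg : g ^ 2 ^ k = 1) : g * c.t = c.t * g := by
  have : Fact (Nat.Prime 2) := ⟨Nat.prime_two⟩
  have hn := zpowers_le.2 (c.norm_R hr h1 h).1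
  have hP : IsPGroup 2 ↥(zpowers g ⊔ c.R) := IsPGroup.to_sup_of_normal_right' (fun y => ⟨k, Subtype.ext (by
    obtain ⟨_, j, rfl⟩ := y
    change (g ^ j) ^ 2 ^ k = 1
    rw [← zpow_natCast, ← zpow_mul, mul_comm, zpow_mul, zpow_natCast, hg, one_zpow])⟩)
    (c.syl.isPGroup.to_le c.RT) hn
  obtain ⟨⟨x, hx, hx'⟩, x1⟩ := ne_bot_iff_exists_ne_one.1 (H49.inf_center_ne_bot_of_nilpotent hP.isNilpotent
    le_sup_right (sup_le hn le_normalizer) fun e => h1 (mem_bot.1 (e ▸ hr)))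
  exact (c.RC x hx (fun e => x1 (Subtype.ext e)) g).1 (hx' g (mem_sup_left (mem_zpowers g)))

/-- an element normalizing `X` and `C(t)` normalizes `Q` -/
theorem norm_Q {g : G} (hX : g ∈ normalizer (c.X : Set G))
    (hC : g ∈ normalizer (centralizer {c.t} : Set G)) : g ∈ normalizer (c.Q : Set G) := by
  obtain ⟨κ, κ0, κ1⟩ := exists_k0 (F := F) c.q4
  obtain ⟨h, -, hH, hs⟩ := c.exists_h0 κ κ0
  have hN : h ∈ normalizer (c.X : Set G) := mem_normalizer_fintype fun x hx => by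
    obtain ⟨r, hr, u, rfl⟩ := c.mem_X.1 hx
    rw [← mul_assoc, c.b2_R hr (c.Ht hH), mul_assoc r, mul_assoc r, hs]
    exact c.mem_X.2 ⟨r, hr, _, rfl⟩
  have hN' : g * h * g⁻¹ ∈ normalizer (c.X : Set G) := mul_mem (mul_mem hX hN) (inv_mem hX)
  have ht : g * h * g⁻¹ * c.t = c.t * (g * h * g⁻¹) := mem_centralizer_singleton_iff.1
    (H49.conj_mem_of_norm le_rfl hC (mem_centralizer_singleton_iff.2 (c.Ht hH)))
  have gX : ∀ u, ∃ r ∈ c.R, ∃ u', g * c.U u * g⁻¹ = r * c.U u' := fun u =>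
    c.mem_X.1 (H49.conj_mem_of_norm le_rfl hX (c.bs_U_mem_X u))
  refine mem_normalizer_fintype ?_
  rintro _ ⟨u, rfl⟩
  have k1 : (κ : F) - 1 ≠ 0 := sub_ne_zero.2 fun e => κ1 (k0_ext e)
  obtain ⟨v, hv⟩ := exists_um (q := q) (u.x / ((κ : F) - 1))
  obtain ⟨b, hb⟩ := exists_zz (u := (sl (κ : F) (RingEquiv.refl F) v * v⁻¹)⁻¹ * u) (by
    simp only [UM.mul_x, UM.inv_x, sl_x, hv, RingEquiv.refl_apply]
    field_simp
    ring)
  obtain ⟨u1, u2, e⟩ := c.b2_z_comm b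
  have e1 : c.U u = h * c.U v * h⁻¹ * (c.U v)⁻¹ * c.z b := by
    rw [hs, Ctx0.z, ← hb, ← map_inv, ← map_mul, ← map_mul, mul_inv_cancel_left]
  obtain ⟨r, hr, v', ev⟩ := gX v
  obtain ⟨r1, hr1, v1, ev1⟩ := gX u1
  obtain ⟨r2, hr2, v2, ev2⟩ := gX u2
  obtain ⟨v'', e2⟩ := c.TA _ (c.XT (H49.conj_mem_of_norm le_rfl hN' (c.bs_U_mem_X v'))) (c.An _ ht _ (c.UA v'))
  have e3 : g * c.z b * g⁻¹ = c.z (cm q v1.x v2.x) := by
    rw [← c.b2_X_comm hr1 hr2, ← ev1, ← ev2, ← e]; group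
  have e4 : g * c.U u * g⁻¹ = c.U v'' * (c.U v')⁻¹ * c.z (cm q v1.x v2.x) := by
    calc _ = g * h * g⁻¹ * (g * c.U v * g⁻¹) * (g * h * g⁻¹)⁻¹ * (g * c.U v * g⁻¹)⁻¹ * (g * c.z b * g⁻¹) := by
          rw [e1]; group
      _ = r * (g * h * g⁻¹ * c.U v' * (g * h * g⁻¹)⁻¹ * (c.U v')⁻¹) * r⁻¹ * c.z (cm q v1.x v2.x) := by
          rw [ev, e3, ← mul_assoc _ r, c.b2_R hr ht]; group
      _ = _ := by rw [e2, ← map_inv, ← map_mul, c.bs_RU hr, mul_inv_cancel_right]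
  rw [e4]
  exact mul_mem (mul_mem ⟨_, rfl⟩ (inv_mem ⟨_, rfl⟩)) ⟨_, rfl⟩

theorem OX {o x : G} (ho : o ∈ c.O) (hx : x ∈ c.X) : o * x = x * o := by
  obtain ⟨r, hr, u, rfl⟩ := c.mem_X.1 hx
  rw [← mul_assoc, c.b2_R hr (c.Ot o ho), mul_assoc, c.OA o ho _ (c.UA u), mul_assoc]

theorem b2_ker {y : G} (hy : y * c.t = c.t * y) (h : ∀ u, ∃ v, y * c.U u * y⁻¹ = c.U v ∧ v.x = u.x) :
    ∃ r ∈ c.R, ∃ w, ∃ o ∈ c.O, y = r * c.U w * o := by
  obtain ⟨w, k, hk, rfl⟩ := c.ker y hy h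
  obtain ⟨r, hr, o, ho, rfl⟩ := c.KO k hk (by
    rwa [← mul_assoc, c.bs_RU c.tR, mul_assoc, mul_assoc, mul_left_cancel_iff] at hy)
  exact ⟨r, hr, w, o, ho, by rw [c.bs_RU hr, mul_assoc]⟩

/-- `C(X) = V × O`, and `O` is normalized by whatever normalizes `X` -/
theorem cent_X {y : G} (h : ∀ x ∈ c.X, y * x = x * y) : ∃ v ∈ c.V, ∃ o ∈ c.O, y = v * o := by
  obtain ⟨r, hr, w, o, ho, rfl⟩ := c.b2_ker (h _ (mem_sup_left c.tR)) fun u =>
    ⟨u, by rw [h _ (c.bs_U_mem_X u), mul_inv_cancel_right], rfl⟩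
  refine ⟨_, c.cent_Q (mul_mem (c.RT hr) (c.UT w)) fun u => ?_, o, ho, rfl⟩
  have := h _ (c.bs_U_mem_X u)
  rwa [mul_assoc, c.OA o ho _ (c.UA u), ← mul_assoc, ← mul_assoc (c.U u), mul_right_cancel_iff] at this

theorem norm_O {g : G} (hg : g ∈ normalizer (c.X : Set G)) : g ∈ normalizer (c.O : Set G) := by
  refine mem_normalizer_fintype fun o ho => ?_
  obtain ⟨v, hv, o', ho', e⟩ := c.cent_X (y := g * o * g⁻¹) fun x hx => by
    calc _ = g * (o * (g⁻¹ * x * g)) * g⁻¹ := by group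
      _ = _ := by rw [c.OX ho (H49.conj_mem_of_norm' le_rfl hg hx)]; group
  have p1 : ∀ o ∈ c.O, o ^ Nat.card c.O = 1 := fun o ho =>
    congrArg Subtype.val (pow_card_eq_one' (x := (⟨o, ho⟩ : c.O)))
  have h1 : (v * o') ^ Nat.card c.O = 1 := by rw [← e, conj_pow, p1 o ho]; group
  rw [(show Commute v o' from (c.OX ho' (c.bs_VX hv)).symm).mul_pow, p1 o' ho', mul_one] at h1
  obtain ⟨r, hr, b, rfl⟩ := c.mem_V.1 hv
  rw [e, b2_odd c.Oodd h1 (by rw [Ctx0.z, c.bs_X_sq hr, c.Re r hr]; simp), one_mul]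
  exact ho'

/-- elements of `C(t)` acting trivially on `X/V` -/
theorem ker_X {y : G} (hy : y * c.t = c.t * y) (h : ∀ u, ∃ v ∈ c.V, y * c.U u * y⁻¹ = c.U u * v) :
    ∃ x ∈ c.X, ∃ o ∈ c.O, y = x * o := by
  obtain ⟨r, hr, w, o, ho, e⟩ := c.b2_ker hy fun u => by
    obtain ⟨v, hv, e⟩ := h u
    obtain ⟨r, hr, b, rfl⟩ := c.mem_V.1 hv
    have h1 := c.An y hy _ (c.UA u)
    rw [e, mul_mem_cancel_left (c.UA u), Ctx0.z, mul_mem_cancel_right (c.UA _)] at h1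
    exact ⟨u * zz b, by rw [e, c.RA1 r hr h1, one_mul, map_mul]; rfl, by simp⟩
  exact ⟨_, c.mem_X.2 ⟨r, hr, w, rfl⟩, o, ho, e⟩

end Ctx

/-- the 2-part of an extension of `X × (odd, central)` by an elementary abelian group -/
theorem gen2 {M : Type*} [AddCommGroup M] (hM : ∀ m : M, m + m = 0) {X Y O : Subgroup G}
    (hXY : X ≤ Y) (hX : IsPGroup 2 X) (hn : ∀ y ∈ Y, ∀ x ∈ X, y * x * y⁻¹ ∈ X)
    (hO : Odd (Nat.card O)) (hc : ∀ y ∈ Y, ∀ o ∈ O, y * o = o * y) (b : G → M)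
    (hb : ∀ y ∈ Y, ∀ y' ∈ Y, b (y * y') = b y + b y') (h0 : ∀ x ∈ X, b x = 0)
    (hk : ∀ y ∈ Y, b y = 0 → ∃ x ∈ X, ∃ o ∈ O, y = x * o) :
    ∃ P : Subgroup G, (∀ y, y ∈ P ↔ y ∈ Y ∧ y * y ∈ X) ∧ IsPGroup 2 P ∧
      (∀ y ∈ Y, ∃ p ∈ P, b p = b y) ∧ ∀ p ∈ P, b p = 0 → p ∈ X := by
  have : (X.subgroupOf Y).Normal := ⟨fun x hx y => hn y y.2 x hx⟩
  let π := QuotientGroup.mk' (X.subgroupOf Y)
  have π1 : ∀ y : Y, π y = 1 ↔ (y : G) ∈ X := fun y => QuotientGroup.eq_one_iff y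
  have k1 : ∀ y : Y, b y = 0 → π y ^ Nat.card O = 1 ∧ ∀ y', Commute (π y') (π y) := fun y hy => by
    obtain ⟨x, hx, o, ho, e⟩ := hk y y.2 hy
    have oY : o ∈ Y := (mul_mem_cancel_left (hXY hx)).1 (e ▸ y.2)
    have e1 : π y = π ⟨o, oY⟩ := by
      rw [show y = ⟨x, hXY hx⟩ * ⟨o, oY⟩ from Subtype.ext e, map_mul, (π1 _).2 hx, one_mul]
    rw [e1, ← map_pow]
    refine ⟨(π1 _).2 ?_, fun y' => (show Commute y' ⟨o, oY⟩ from Subtype.ext (hc _ y'.2 o ho)).map π⟩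
    have : o ^ Nat.card O = 1 := congrArg Subtype.val (pow_card_eq_one' (x := (⟨o, ho⟩ : O)))
    rw [coe_pow, this]
    exact one_mem _
  have bi : ∀ y ∈ Y, b y⁻¹ = b y := fun y hy => by
    have := hb _ hy _ (inv_mem hy)
    rw [mul_inv_cancel, h0 1 (one_mem _)] at this
    exact add_left_cancel (this.symm.trans (hM _).symm)
  have k2 : ∀ y : Y, b ↑(y * y) = 0 := fun y => by rw [coe_mul, hb _ y.2 _ y.2, hM]
  have k3 : ∀ y y' : Y, Commute (π y) (π y') := fun y y' => by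
    obtain ⟨a1, a2⟩ := k1 (y * y' * y⁻¹ * y'⁻¹) (by
      simp only [coe_mul, coe_inv]
      rw [hb _ (mul_mem (mul_mem y.2 y'.2) (inv_mem y.2)) _ (inv_mem y'.2), hb _ (mul_mem y.2 y'.2) _
        (inv_mem y.2), hb _ y.2 _ y'.2, bi _ y.2, bi _ y'.2, add_right_comm (b y), hM, zero_add, hM])
    have a3 := ((k1 _ (k2 y)).2 y').eq
    have a4 := (a2 y).eq
    simp only [map_mul, map_inv] at a1 a3 a4
    generalize π y = s at a1 a3 a4 ⊢
    generalize π y' = s' at a1 a3 a4 ⊢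
    have a5 := b2_odd hO a1 (by
      calc _ = s * s' * s⁻¹ * s'⁻¹ * s * (s' * s⁻¹ * s'⁻¹) := by group
        _ = s * s * s' * s⁻¹ * s⁻¹ * s'⁻¹ := by rw [← a4]; group
        _ = 1 := by rw [← a3]; group)
    exact commutatorElement_eq_one_iff_commute.1 a5
  let P0 : Subgroup Y :=
    { carrier := {y | π y * π y = 1}
      one_mem' := by simp
      mul_mem' := fun {x y} hx hy => by
        change π (x * y) * π (x * y) = 1
        rw [map_mul, mul_assoc, ← mul_assoc (π y), (k3 y x).eq, mul_assoc, hy, mul_one, hx]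
      inv_mem' := fun {x} hx => by
        change π x⁻¹ * π x⁻¹ = 1
        rw [map_inv, ← mul_inv_rev, hx, inv_one] }
  have mP : ∀ y, y ∈ P0.map Y.subtype ↔ y ∈ Y ∧ y * y ∈ X := fun y =>
    ⟨by rintro ⟨x, hx, rfl⟩; exact ⟨x.2, (π1 (x * x)).1 ((map_mul π x x).trans hx)⟩, fun ⟨h1, h2⟩ =>
      ⟨⟨y, h1⟩, (map_mul π _ _).symm.trans ((π1 (⟨y, h1⟩ * ⟨y, h1⟩)).2 h2), rfl⟩⟩
  refine ⟨P0.map Y.subtype, mP, fun y => ?_, fun y hy => ⟨y ^ Nat.card O, ⟨⟨y, hy⟩ ^ Nat.card O, ?_, rfl⟩, ?_⟩, ?_⟩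
  · obtain ⟨k, e⟩ := hX ⟨_, ((mP y).1 y.2).2⟩
    refine ⟨k + 1, Subtype.ext ?_⟩
    have e' : ((y : G) * y) ^ 2 ^ k = 1 := congrArg Subtype.val e
    change (y : G) ^ 2 ^ (k + 1) = 1
    rw [pow_succ', pow_mul, sq]
    exact e'
  · change π _ * π _ = 1
    rw [map_pow, ← (Commute.refl _).mul_pow, ← map_mul]
    exact (k1 _ (k2 _)).1
  · obtain ⟨k, e⟩ := hO
    rw [e]
    clear e
    induction k with
    | zero => simp
    | succ k ih =>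
      rw [show 2 * (k + 1) + 1 = 2 * k + 1 + 1 + 1 by ring, pow_succ, pow_succ, hb _ (mul_mem (pow_mem hy _) hy) _ hy,
        hb _ (pow_mem hy _) _ hy, ih, hM, zero_add]
  · rintro _ ⟨y, hy, rfl⟩ e
    exact (π1 y).1 (b2_odd hO (k1 y e).1 hy)

end Cfsg.Agent.GMS
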