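import Cfsg.Agent.GMS.Base2

/-! Project GMS: coordinate calculus in `P` and `P T`. -/

set_option autoImplicit false
set_option linter.unusedSectionVars false

namespace Cfsg.Agent.GMS

open Subgroup H10 H91
open H42 hiding SylIn

variable {G : Type*} [Group G] [Finite G] {F : Type*} [Field F] [Fintype F] [CharP F 2] {q : ℕ}
  [hF : Fact (Fintype.card F = q ^ 2)]

theorem calc_nrm {P : Subgroup G} {g : G} (h : ∀ x ∈ P, g * x * g⁻¹ ∈ P) :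
    g ∈ normalizer (P : Set G) :=
  mem_normalizer_fintype (S := (P : Set G)) h

namespace Fr1

variable {c : Ctx G F q} (f : Fr1 c)

theorem e_one : f.e 1 = 0 := by simpa using (f.mU 1).2.1
theorem a_one : f.a 1 = 0 := by simpa using (f.mU 1).2.2.1
theorem b_one : f.b 1 = 0 := by simpa using (f.mU 1).2.2.2
theorem e_inv {y : G} (hy : y ∈ f.P) : f.e y⁻¹ = f.e y := by
  have := f.e_mul _ hy _ (inv_mem hy)
  rw [mul_inv_cancel, e_one, eq_comm, CharTwo.add_eq_zero] at this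
  exact this.symm
theorem a_inv {y : G} (hy : y ∈ f.P) : f.a y⁻¹ = f.a y := by
  have := f.a_mul _ hy _ (inv_mem hy)
  rw [mul_inv_cancel, a_one, eq_comm, CharTwo.add_eq_zero] at this
  exact this.symm
theorem b_inv {y : G} (hy : y ∈ f.P) : f.b y⁻¹ = f.b y := by
  have := f.b_mul _ hy _ (inv_mem hy)
  rw [mul_inv_cancel, b_one, eq_comm, CharTwo.add_eq_zero] at this
  exact this.symm
theorem mZ (k : K0 F q) : c.z k ∈ f.P ∧ f.e (c.z k) = 0 ∧ f.a (c.z k) = 0 ∧ f.b (c.z k) = 0 :=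
  f.mU (zz k)
theorem z_comm (k : K0 F q) {y : G} (hy : y ∈ f.P) : c.z k * y = y * c.z k := by
  obtain ⟨h0, h1, h2, h3⟩ := f.mZ k
  simpa [h1, h2, h3] using f.comm _ h0 _ hy
/-- all coordinates occur -/
theorem exists_p {r : G} (hr : r ∈ c.R) (x : F) (k : K0 F q) :
    ∃ p ∈ f.P, f.e p = f.e r ∧ f.a p = x ∧ f.b p = k := by
  obtain ⟨u, hu⟩ := exists_um (q := q) x
  obtain ⟨w, hw, w1, w2, w3⟩ := f.surj k
  obtain ⟨r0, r1, r2⟩ := f.mR r hr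
  obtain ⟨u0, u1, u2, u3⟩ := f.mU u
  refine ⟨r * c.U u * w, mul_mem (mul_mem r0 u0) hw, ?_, ?_, ?_⟩
  · rw [f.e_mul _ (mul_mem r0 u0) _ hw, f.e_mul _ r0 _ u0, u1, w1, add_zero, add_zero]
  · rw [f.a_mul _ (mul_mem r0 u0) _ hw, f.a_mul _ r0 _ u0, u2, w2, r1, hu, add_zero, zero_add]
  · rw [f.b_mul _ (mul_mem r0 u0) _ hw, f.b_mul _ r0 _ u0, u3, w3, r2, add_zero, zero_add]
theorem eq_mul_z {y y' : G} (hy : y ∈ f.P) (hy' : y' ∈ f.P) (h1 : f.e y = f.e y')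
    (h2 : f.a y = f.a y') (h3 : f.b y = f.b y') : ∃ k, y = y' * c.z k := by
  have hi := inv_mem hy'
  obtain ⟨k, hk⟩ := f.ker _ (mul_mem hi hy)
    (by rw [f.e_mul _ hi _ hy, f.e_inv hy', h1, k0_add_self])
    (by rw [f.a_mul _ hi _ hy, f.a_inv hy', h2, CharTwo.add_self_eq_zero])
    (by rw [f.b_mul _ hi _ hy, f.b_inv hy', h3, k0_add_self])
  exact ⟨k, by rw [← hk, mul_inv_cancel_left]⟩
theorem calc_rU {r : G} (hr : r ∈ c.R) (u : UM F q) : r * c.U u ∈ f.P ∧ f.e (r * c.U u) = f.e r ∧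
    f.a (r * c.U u) = u.x ∧ f.b (r * c.U u) = 0 := by
  obtain ⟨r0, r1, r2⟩ := f.mR r hr
  obtain ⟨u0, u1, u2, u3⟩ := f.mU u
  exact ⟨mul_mem r0 u0, by rw [f.e_mul _ r0 _ u0, u1, add_zero],
    by rw [f.a_mul _ r0 _ u0, u2, r1, zero_add], by rw [f.b_mul _ r0 _ u0, u3, r2, zero_add]⟩
theorem mem_X {y : G} : y ∈ c.X ↔ y ∈ f.P ∧ f.b y = 0 := by
  rw [c.mem_X]
  constructor
  · rintro ⟨r, hr, u, rfl⟩
    exact ⟨(f.calc_rU hr u).1, (f.calc_rU hr u).2.2.2⟩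
  · rintro ⟨hy, hb⟩
    obtain ⟨r, hr, he⟩ := f.eP y hy
    obtain ⟨u, hu⟩ := exists_um (q := q) (f.a y)
    obtain ⟨p0, p1, p2, p3⟩ := f.calc_rU hr u
    obtain ⟨k, hk⟩ := f.eq_mul_z hy p0 (he.trans p1.symm) (by rw [p2, hu]) (hb.trans p3.symm)
    exact ⟨r, hr, u * zz k, by rw [hk, map_mul, mul_assoc]; rfl⟩
theorem mem_Q {y : G} : y ∈ c.Q ↔ y ∈ f.P ∧ f.e y = 0 ∧ f.b y = 0 := by
  rw [c.mem_Q]
  constructor
  · rintro ⟨u, rfl⟩
    exact ⟨(f.mU u).1, (f.mU u).2.1, (f.mU u).2.2.2⟩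
  · rintro ⟨hy, he, hb⟩
    obtain ⟨u, hu⟩ := exists_um (q := q) (f.a y)
    obtain ⟨p0, p1, p2, p3⟩ := f.mU u
    obtain ⟨k, hk⟩ := f.eq_mul_z hy p0 (he.trans p1.symm) (by rw [p2, hu]) (hb.trans p3.symm)
    exact ⟨u * zz k, by rw [hk, map_mul]; rfl⟩
theorem mem_V {y : G} : y ∈ c.V ↔ y ∈ f.P ∧ f.a y = 0 ∧ f.b y = 0 := by
  rw [c.mem_V]
  constructor
  · rintro ⟨r, hr, k, rfl⟩
    exact ⟨(f.calc_rU hr (zz k)).1, (f.calc_rU hr (zz k)).2.2.1, (f.calc_rU hr (zz k)).2.2.2⟩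
  · rintro ⟨hy, ha, hb⟩
    obtain ⟨r, hr, he⟩ := f.eP y hy
    obtain ⟨r0, r1, r2⟩ := f.mR r hr
    obtain ⟨k, hk⟩ := f.eq_mul_z hy r0 he (ha.trans r1.symm) (hb.trans r2.symm)
    exact ⟨r, hr, k, hk⟩
theorem card_P : Nat.card f.P = Nat.card c.R * q ^ 4 := by
  let φ : f.P →* Multiplicative (K0 F q) := MonoidHom.mk' (fun y => Multiplicative.ofAdd (f.b y))
    fun y y' => by rw [← ofAdd_add, coe_mul, f.b_mul _ y.2 _ y'.2]
  have hs : Function.Surjective φ := fun m => by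
    obtain ⟨w, hw, -, -, h⟩ := f.surj m.toAdd
    exact ⟨⟨w, hw⟩, by simp [φ, h]⟩
  have hk : φ.ker = c.X.subgroupOf f.P := by
    ext y
    simp [φ, mem_subgroupOf, f.mem_X, MonoidHom.mem_ker]
  have h1 := φ.ker.card_mul_index
  rw [index_ker, MonoidHom.range_eq_top.2 hs, card_top, Nat.card_congr Multiplicative.toAdd,
    card_k0, hk, Nat.card_congr (subgroupOfEquivOfLe fun y hy => (f.mem_X.1 hy).1).toEquiv,
    c.card_X] at h1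
  rw [← h1]; ring
theorem comm_iff {y y' : G} (hy : y ∈ f.P) (hy' : y' ∈ f.P) : y * y' = y' * y ↔
    cm q (f.a y) (f.a y') + f.e y * f.b y' + f.e y' * f.b y = 0 := by
  rw [f.comm _ hy _ hy', mul_eq_left, c.z_eq_one]
theorem TP {y p : G} (hy : y ∈ c.T) (hp : p ∈ f.P) : y * p * y⁻¹ ∈ f.P := by
  obtain ⟨w, φ, h⟩ := c.actT y hy
  exact (f.act y (c.Tt hy) w 1 φ h p hp).1
theorem calc_T_nrm : c.T ≤ normalizer (f.P : Set G) := fun _ hy =>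
  calc_nrm fun _ hp => f.TP hy hp
theorem mem_Ph {y : G} : y ∈ f.Ph ↔ ∃ p ∈ f.P, ∃ y₀ ∈ c.T, y = p * y₀ := by
  rw [Ph, ← SetLike.mem_coe, coe_mul_of_right_le_normalizer_left _ _ f.calc_T_nrm]
  constructor
  · rintro ⟨a, ha, b, hb, rfl⟩; exact ⟨a, ha, b, hb, rfl⟩
  · rintro ⟨a, ha, b, hb, rfl⟩; exact ⟨a, ha, b, hb, rfl⟩
theorem pg_Ph : IsPGroup 2 f.Ph :=
  IsPGroup.to_sup_of_normal_left' f.pg c.syl.2 f.calc_T_nrm
theorem Ph_nrm : f.Ph ≤ normalizer (f.P : Set G) := sup_le le_normalizer f.calc_T_nrm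
theorem comm_P {y y' : G} (hy : y ∈ f.Ph) (hy' : y' ∈ f.Ph) : y * y' * y⁻¹ * y'⁻¹ ∈ f.P := by
  obtain ⟨p, hp, s, hs, rfl⟩ := f.mem_Ph.1 hy
  obtain ⟨p', hp', s', hs', rfl⟩ := f.mem_Ph.1 hy'
  have h1 := (f.mem_X.1 (c.comm_X hs hs')).1
  have : p * s * (p' * s') * (p * s)⁻¹ * (p' * s')⁻¹ =
      p * (s * p' * s⁻¹) * (s * s' * s⁻¹ * s'⁻¹) * (s' * p⁻¹ * s'⁻¹) * p'⁻¹ := by group
  rw [this]
  exact mul_mem (mul_mem (mul_mem (mul_mem hp (f.TP hs hp')) h1) (f.TP hs' (inv_mem hp)))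
    (inv_mem hp')
theorem cent_t {y : G} (hy : y ∈ f.Ph) (h : y * c.t = c.t * y) : y ∈ c.T := by
  have := c.syl.eq_of_le (H := f.Ph ⊓ centralizer {c.t}) (f.pg_Ph.to_le inf_le_left)
    (le_inf le_sup_right c.syl.1) inf_le_right
  rw [← this]
  exact ⟨hy, mem_centralizer_singleton_iff.2 h⟩
/-- `N(P)` normalizes `Z` -/
theorem nrm_Z {g : G} (hg : g ∈ normalizer (f.P : Set G)) (k : K0 F q) :
    ∃ k', g * c.z k * g⁻¹ = c.z k' := by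
  obtain ⟨w, hw, w1, w2, w3⟩ := f.surj k
  obtain ⟨r0, r1, r2⟩ := f.mR _ c.tR
  have h := f.comm _ r0 _ hw
  simp only [w1, w2, w3, f.et, cm_zero_right, zero_add, one_mul, zero_mul, add_zero] at h
  have h' := f.comm _ ((mem_normalizer_iff.1 hg _).1 r0) _ ((mem_normalizer_iff.1 hg _).1 hw)
  rw [conj_mul, h, ← conj_mul, ← conj_mul] at h'
  exact ⟨_, mul_left_cancel h'⟩
/-- `r Z` is a `W`-class -/
theorem conj_W {r : G} (hr : r ∈ c.R) (h1 : r ≠ 1) (k : K0 F q) :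
    ∃ w ∈ f.W, w * r * w⁻¹ = r * c.z k := by
  have he : f.e r ≠ 0 := fun h => h1 (f.eR r hr h)
  obtain ⟨w, hw, w1, w2, w3⟩ := f.surj (k / f.e r)
  obtain ⟨r0, r1, r2⟩ := f.mR _ hr
  have h := f.comm _ hw _ r0
  simp only [w1, w2, w3, cm_zero_left, zero_add, zero_mul, mul_div_cancel₀ _ he] at h
  exact ⟨w, ⟨hw, w1, w2⟩, by rw [h, mul_assoc r, ← f.z_comm k hw]; group⟩
theorem calc_PT {y : G} (hy : y ∈ f.P) (hT : y ∈ c.T) : y ∈ c.X := by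
  obtain ⟨r0, r1, r2⟩ := f.mR _ c.tR
  have := (f.comm_iff hy r0).1 (c.Tt hT)
  simp only [r1, r2, f.et, cm_zero_right, zero_add, one_mul, mul_zero] at this
  exact f.mem_X.2 ⟨hy, this⟩
theorem outer {y : G} (hy : y ∈ f.Ph) (hP : y ∉ f.P) (h2 : y * y ∈ f.P) :
    ∃ p ∈ f.P, ∃ s, c.Ex s ∧ y = p * s := by
  obtain ⟨p, hp, s, hs, rfl⟩ := f.mem_Ph.1 hy
  have hX : s ∉ c.X := fun h => hP (mul_mem hp (f.mem_X.1 h).1)
  have h3 : s * s ∈ f.P := by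
    have : s * s = (s * p * s⁻¹)⁻¹ * p⁻¹ * (p * s * (p * s)) := by group
    rw [this]
    exact mul_mem (mul_mem (inv_mem (f.TP hs hp)) (inv_mem hp)) h2
  obtain ⟨u, s', hs', rfl⟩ := c.outer hs hX (f.calc_PT h3 (mul_mem hs hs))
  exact ⟨p * c.U u, mul_mem hp (f.mU u).1, s', hs', by rw [mul_assoc]⟩
theorem calc_ex {s : G} (hs : c.Ex s) {p : G} (hp : p ∈ f.P) : s * p * s⁻¹ ∈ f.P ∧
    f.e (s * p * s⁻¹) = f.e p ∧ f.a (s * p * s⁻¹) = H10.cj F q (f.a p) ∧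
      f.b (s * p * s⁻¹) = f.b p := by
  simpa using f.act s (c.Tt hs.1) 1 1 (sg F q) (by simpa using hs.2) p hp
theorem calc_ex_z {s : G} (hs : c.Ex s) (k : K0 F q) : s * c.z k * s⁻¹ = c.z k := by
  rw [Ctx0.z, hs.2, sl_zz]; simp
theorem calc_ef_W {s : G} (hs : c.Ex s) : ∃ ε : K0 F q, ∀ w ∈ f.W,
    s * w * s⁻¹ = w * c.z (ε * f.b w) := by
  obtain ⟨w1, hw1, e1, a1, b1⟩ := f.surj 1
  obtain ⟨x0, x1, x2, x3⟩ := f.calc_ex hs hw1
  obtain ⟨ε, hε⟩ := f.eq_mul_z x0 hw1 x1 (by rw [x2, a1, map_zero]) x3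
  obtain ⟨b0, hb0⟩ := c.fL s hs.1 hs.2
  refine ⟨ε, fun w hw => ?_⟩
  by_cases hb : f.b w = 0
  · obtain ⟨k, rfl⟩ := f.ker w hw.1 hw.2.1 hw.2.2 hb
    rw [hb, calc_ex_z hs]; simp
  obtain ⟨k, hk⟩ := sq_surj (f.b w)
  have hk0 : k ≠ 0 := fun h => hb (by rw [← hk, h]; simp)
  obtain ⟨h, hL, hH, hh⟩ := c.exists_h0 k hk0
  obtain ⟨y0, y1, y2, y3⟩ := f.act h (c.Ht hH) 1 k (RingEquiv.refl F) (by simpa using hh) w1 hw1
  obtain ⟨m, hm⟩ := f.eq_mul_z hw.1 y0 (by rw [hw.2.1, y1, e1]) (by rw [hw.2.2, y2, a1]; simp)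
    (by rw [y3, b1, nm_k0, hk]; simp)
  have hz : h * c.z ε * h⁻¹ = c.z (ε * f.b w) := by
    rw [Ctx0.z, hh, sl_zz, nm_k0, hk, kf_refl, mul_comm]; rfl
  have hc : s * c.z b0 * h = h * (s * c.z b0) := hb0 h hL
  have h1 : ∀ p ∈ f.P, s * p * s⁻¹ = s * c.z b0 * p * (s * c.z b0)⁻¹ := fun p hp => by
    rw [mul_assoc s (c.z b0) p, f.z_comm b0 hp]; group
  have h2 : s * (h * w1 * h⁻¹) * s⁻¹ = h * w1 * h⁻¹ * c.z (ε * f.b w) := by
    rw [h1 _ y0, ← hz, conj_mul, ← hε, h1 _ hw1]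
    calc s * c.z b0 * (h * w1 * h⁻¹) * (s * c.z b0)⁻¹
        = s * c.z b0 * h * w1 * (s * c.z b0 * h)⁻¹ := by group
      _ = _ := by rw [hc]; group
  generalize ε * f.b w = n at h2 ⊢
  rw [hm, ← conj_mul, h2, calc_ex_z hs, mul_assoc _ (c.z n), mul_assoc _ (c.z m), ← c.z_add,
    ← c.z_add, add_comm]
/-- the action of an exact element -/
theorem exists_ef {s : G} (hs : c.Ex s) : s * s = 1 ∧ ∃ ε : K0 F q, ∀ p ∈ f.P,
    H10.cj F q (f.a p) = f.a p → s * p * s⁻¹ = p * c.z (nm q (f.a p) + ε * f.b p) := by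
  obtain ⟨ε, hε⟩ := f.calc_ef_W hs
  refine ⟨?_, ε, fun p hp ha => ?_⟩
  · obtain ⟨w, hw, e1, a1, b1⟩ := f.surj 1
    have h1 := hε w ⟨hw, e1, a1⟩
    have hr := c.ex_sq hs
    have h2 : s * s * w = w * (s * s) := by
      have : s * s * w * (s * s)⁻¹ = s * (s * w * s⁻¹) * s⁻¹ := by group
      rw [h1, ← conj_mul, h1, calc_ex_z hs, mul_assoc w, c.z_sq, mul_one] at this
      exact mul_inv_eq_iff_eq_mul.1 this
    have h3 := (f.comm_iff (f.mR _ hr).1 hw).1 h2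
    simp only [e1, a1, b1, cm_zero_right, zero_add, mul_one, zero_mul, add_zero] at h3
    exact f.eR _ hr h3
  · obtain ⟨r, hr, he⟩ := f.eP p hp
    obtain ⟨u, hu⟩ := exists_um (q := q) (f.a p)
    obtain ⟨p0, p1, p2, p3⟩ := f.calc_rU hr u
    have hi := inv_mem p0
    have hw : (r * c.U u)⁻¹ * p ∈ f.W := ⟨mul_mem hi hp,
      by rw [f.e_mul _ hi _ hp, f.e_inv p0, p1, he, k0_add_self],
      by rw [f.a_mul _ hi _ hp, f.a_inv p0, p2, hu, CharTwo.add_self_eq_zero]⟩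
    have h1 := hε _ hw
    rw [f.b_mul _ hi _ hp, f.b_inv p0, p3, zero_add] at h1
    have h2 : s * r * s⁻¹ = r := by
      by_cases r1 : r = 1
      · simp [r1]
      · rw [(c.RC r hr r1 s).2 (c.Tt hs.1), mul_inv_cancel_right]
    have h3 : s * c.U u * s⁻¹ = c.U u * c.z (nm q (f.a p)) := by
      rw [hs.2, Ctx0.z, ← map_mul, sl_sg]
      congr 1
      have h4 := u.h
      have h5 : (2 : F) = 0 := CharTwo.two_eq_zero
      ext
      · simp [hu, ha]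
      · simp only [UM.mul_y, zz_y, zz_x, coe_nm, mul_zero, add_zero, ← hu]
        linear_combination h4 - u.y * h5
    calc s * p * s⁻¹ = s * r * s⁻¹ * (s * c.U u * s⁻¹) * (s * ((r * c.U u)⁻¹ * p) * s⁻¹) := by group
      _ = r * c.U u * (c.z (nm q (f.a p)) * ((r * c.U u)⁻¹ * p)) * c.z (ε * f.b p) := by
        rw [h1, h2, h3]; group
      _ = _ := by rw [f.z_comm _ hw.1, c.z_add]; group
/-- normal form of the outer involutions -/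
theorem outer_nf {y : G} (hy : y ∈ f.Ph) (hP : y ∉ f.P) (h2 : y * y = 1) :
    ∃ p ∈ f.P, ∃ w ∈ f.W, ∃ s, c.Ex s ∧ p * y * p⁻¹ = s * w := by
  obtain ⟨p, hp, s, hs, rfl⟩ := f.outer hy hP (by rw [h2]; exact one_mem _)
  have ss := (f.exists_ef hs).1
  have si : s⁻¹ = s := inv_eq_of_mul_eq_one_right ss
  obtain ⟨x0, -, x2, -⟩ := f.calc_ex hs hp
  have h3 : p * (s * p * s⁻¹) = 1 := by rw [si, ← h2]; group
  have h4 := f.a_mul _ hp _ x0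
  rw [h3, f.a_one, x2, eq_comm, CharTwo.add_eq_zero] at h4
  obtain ⟨x, hx⟩ := tr_surj (F := F) (q := q) ⟨f.a p, h4.symm⟩
  obtain ⟨v, hv⟩ := exists_um (q := q) x
  obtain ⟨v0, -, v2, -⟩ := f.mU v
  obtain ⟨y0, -, y2, -⟩ := f.calc_ex hs (inv_mem v0)
  have hp' : c.U v * p * (s * (c.U v)⁻¹ * s⁻¹) ∈ f.P := mul_mem (mul_mem v0 hp) y0
  have ha : f.a (c.U v * p * (s * (c.U v)⁻¹ * s⁻¹)) = 0 := by
    rw [f.a_mul _ (mul_mem v0 hp) _ y0, f.a_mul _ v0 _ hp, y2, f.a_inv v0, v2, hv, add_right_comm,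
      hx, CharTwo.add_self_eq_zero]
  obtain ⟨r, hr, he⟩ := f.eP _ hp'
  obtain ⟨r0, r1, -⟩ := f.mR r hr
  have hi := inv_mem r0
  obtain ⟨z0, z1, z2, -⟩ := f.calc_ex hs (mul_mem hi hp')
  refine ⟨c.U v, v0, _, ⟨z0, ?_, ?_⟩, r * s, ⟨mul_mem (c.RT hr) hs.1, fun u => ?_⟩, ?_⟩
  · rw [z1, f.e_mul _ hi _ hp', f.e_inv r0, he, k0_add_self]
  · rw [z2, f.a_mul _ hi _ hp', f.a_inv r0, r1, ha, add_zero, map_zero]
  · calc r * s * c.U u * (r * s)⁻¹ = r * (s * c.U u * s⁻¹) * r⁻¹ := by group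
      _ = _ := by rw [hs.2, c.RA r hr _ (c.UA _), mul_inv_cancel_right]
  · calc c.U v * (p * s) * (c.U v)⁻¹
        = r * (r⁻¹ * (c.U v * p * (s * (c.U v)⁻¹ * s⁻¹))) * s := by group
      _ = r * (s * s) * (r⁻¹ * (c.U v * p * (s * (c.U v)⁻¹ * s⁻¹))) * s⁻¹ := by
        rw [ss, mul_one, si]
      _ = _ := by group
/-- squares in `P T` that lie in `P` and have order at most two are in `Z` -/
theorem sq_Z {y : G} (hy : y ∈ f.Ph) (h : y * y ∈ f.P) (h4 : y * y * (y * y) = 1) :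
    y * y ∈ c.Z := by
  by_cases hP : y ∈ f.P
  · exact c.mem_Z.2 ⟨_, f.sq y hP⟩
  obtain ⟨p, hp, s, hs, rfl⟩ := f.outer hy hP h
  have si : s⁻¹ = s := inv_eq_of_mul_eq_one_right (f.exists_ef hs).1
  obtain ⟨x0, x1, -, x3⟩ := f.calc_ex hs hp
  have h3 : p * s * (p * s) = p * (s * p * s⁻¹) := by rw [si]; group
  have he : f.e (p * s * (p * s)) = 0 := by rw [h3, f.e_mul _ hp _ x0, x1, k0_add_self]
  have hb : f.b (p * s * (p * s)) = 0 := by rw [h3, f.b_mul _ hp _ x0, x3, k0_add_self]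
  have := f.sq _ h
  rw [h4, hb, mul_zero, add_zero, eq_comm, c.z_eq_one, nm_eq_zero] at this
  exact c.mem_Z.2 (f.ker _ h he this hb)

end Fr1

end Cfsg.Agent.GMS
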