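import Cfsg.Agent.GMS.Calc
import Cfsg.Agent.H49.SylowOf

set_option autoImplicit false
set_option linter.unusedSectionVars false

namespace Cfsg.Agent.GMS

open Subgroup H10 H91
open H42 hiding SylIn

variable {G : Type*} [Group G] [Finite G] {F : Type*} [Field F] [Fintype F] [CharP F 2] {q : ℕ}
  [hF : Fact (Fintype.card F = q ^ 2)]

theorem ci_idx {D E : Subgroup G} (h : D ≤ E) (hc : Nat.card E ≤ 2 * Nat.card D) {x y : G} (hx : x ∈ E)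
    (hy : y ∈ E) (xD : x ∉ D) (yD : y ∉ D) : x * y ∈ D := by
  have h1 := H91.card_mul_relIndex h
  have h2 : D.relIndex E ≠ 1 := fun e => xD (relIndex_eq_one.1 e hx)
  have h3 : 0 < Nat.card D := Nat.card_pos
  have h4 : 0 < Nat.card E := Nat.card_pos
  have h5 : D.relIndex E = 2 := by
    rcases Nat.lt_trichotomy (D.relIndex E) 2 with k | k | k
    · have : D.relIndex E = 0 := by omega
      rw [this] at h1; omega
    · exact k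
    · have := Nat.mul_le_mul_left (Nat.card D) (show 3 ≤ D.relIndex E from k)
      omega
  exact (mul_mem_iff_of_index_two (H := D.subgroupOf E) h5 (a := ⟨x, hx⟩) (b := ⟨y, hy⟩)).2
    (iff_of_false xD yD)

theorem ci_two {E A : Subgroup G} (h : ∀ a ∈ E, ∀ b ∈ E, a ∉ A → b ∉ A → a * b ∈ A) :
    Nat.card E ≤ 2 * Nat.card ↥(A ⊓ E) := by
  by_cases h0 : E ≤ A
  · rw [inf_eq_right.2 h0]; omega
  obtain ⟨e, he, eA⟩ := SetLike.not_le_iff_exists.1 h0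
  have : A.relIndex E = 2 := relIndex_eq_two_iff.2 ⟨e, he, fun b hb => by
    by_cases hA : b ∈ A
    · exact Or.inr ⟨hA, fun h' => eA ((mul_mem_cancel_left hA).1 h')⟩
    · exact Or.inl ⟨h b hb e he hA eA, hA⟩⟩
  have h2 := H49.card_inf_mul_relIndex A E
  rw [this] at h2
  omega

namespace Fr1

variable {c : Ctx G F q} (f : Fr1 c)

theorem ci_p0 (x : F) (k : K0 F q) : ∃ p ∈ f.P, f.e p = 0 ∧ f.a p = x ∧ f.b p = k :=
  f.e_one ▸ f.exists_p (one_mem _) x k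

theorem ci_p1 (x : F) (k : K0 F q) : ∃ p ∈ f.P, f.e p = 1 ∧ f.a p = x ∧ f.b p = k :=
  f.et ▸ f.exists_p c.tR x k

theorem ci_conj {y y' : G} (hy : y ∈ f.P) (hy' : y' ∈ f.P) : y * y' * y⁻¹ =
    y' * c.z (cm q (f.a y) (f.a y') + f.e y * f.b y' + f.e y' * f.b y) := by
  rw [f.comm y hy y' hy', mul_assoc y', ← f.z_comm _ hy]; group

theorem ci_comm {y y' : G} (hy : y ∈ f.P) (hy' : y' ∈ f.P) : y * y' * y⁻¹ * y'⁻¹ =
    c.z (cm q (f.a y) (f.a y') + f.e y * f.b y' + f.e y' * f.b y) := by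
  rw [f.ci_conj hy hy', ← f.z_comm _ hy', mul_inv_cancel_right]

theorem ci_a_z {y : G} (hy : y ∈ f.P) (k : K0 F q) : f.a (y * c.z k) = f.a y := by
  rw [f.a_mul _ hy _ (f.mZ k).1, (f.mZ k).2.2.1, add_zero]

/-- a conjugate of `z k` that is a square and a commutator in `P T` lies in `Z` -/
theorem ci_Z {g y y' y'' : G} {k : K0 F q} (h : g * y * g⁻¹ ∈ f.Ph) (h' : g * y' * g⁻¹ ∈ f.Ph)
    (h'' : g * y'' * g⁻¹ ∈ f.Ph) (e : y * y = c.z k) (e' : y' * y'' * y'⁻¹ * y''⁻¹ = c.z k) :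
    g * c.z k * g⁻¹ ∈ c.Z := by
  have e1 : g * y * g⁻¹ * (g * y * g⁻¹) = g * c.z k * g⁻¹ := by rw [← e]; group
  have h1 := f.comm_P h' h''
  rw [show g * y' * g⁻¹ * (g * y'' * g⁻¹) * (g * y' * g⁻¹)⁻¹ * (g * y'' * g⁻¹)⁻¹ =
    g * (y' * y'' * y'⁻¹ * y''⁻¹) * g⁻¹ by group, e'] at h1
  refine e1 ▸ f.sq_Z h (e1 ▸ h1) ?_
  rw [e1, show g * c.z k * g⁻¹ * (g * c.z k * g⁻¹) = g * (c.z k * c.z k) * g⁻¹ by group, c.z_sq]
  group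

theorem ci_sq0 (k : K0 F q) : ∃ y ∈ f.P, f.e y = 0 ∧ f.b y = 0 ∧ y * y = c.z k := by
  obtain ⟨x, hx⟩ := nm_surj k
  obtain ⟨y, hy, h1, h2, h3⟩ := f.ci_p0 x 0
  exact ⟨y, hy, h1, h3, by rw [f.sq y hy, h2, h3, hx, mul_zero, add_zero]⟩

/-- `P` is weakly closed in `P T` -/
theorem PP {g : G} (h : ∀ p ∈ f.P, g * p * g⁻¹ ∈ f.Ph) : g ∈ normalizer (f.P : Set G) := by
  have hZ : ∀ k, ∃ k', g * c.z k * g⁻¹ = c.z k' := fun k => by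
    obtain ⟨y, hy, -, -, e⟩ := f.ci_sq0 k
    obtain ⟨x, hx⟩ := cm_surj (q := q) (one_ne_zero (α := F)) k
    obtain ⟨y', hy', a1, a2, a3⟩ := f.ci_p0 1 0
    obtain ⟨y'', hy'', b1, b2, b3⟩ := f.ci_p0 x 0
    exact c.mem_Z.1 (f.ci_Z (h _ hy) (h _ hy') (h _ hy'') e (by
      rw [f.ci_comm hy' hy'', a1, a2, b1, b2, hx, zero_mul, zero_mul, add_zero, add_zero]))
  refine mem_normalizer_fintype fun p hp => by_contra fun hP => ?_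
  have out : ∀ p ∈ f.P, g * p * g⁻¹ ∉ f.P → ∃ p' ∈ f.P, ∃ s, c.Ex s ∧ g * p * g⁻¹ = p' * s :=
    fun p hp hP => f.outer (h p hp) hP (by
      rw [show g * p * g⁻¹ * (g * p * g⁻¹) = g * (p * p) * g⁻¹ by group, f.sq p hp]
      obtain ⟨k', e⟩ := hZ _
      rw [e]; exact (f.mZ k').1)
  obtain ⟨p', hp', s, hs, e⟩ := out p hp hP
  have fx : ∀ x ∈ f.P ⊓ H49.cj g f.P, H10.cj F q (f.a x) = f.a x := fun x hx => by
    obtain ⟨x0, h0, rfl⟩ := H49.mem_cj'.1 hx.2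
    obtain ⟨k', e'⟩ := hZ (cm q (f.a p) (f.a x0) + f.e p * f.b x0 + f.e x0 * f.b p)
    have e1 : g * p * g⁻¹ * (g * x0 * g⁻¹) * (g * p * g⁻¹)⁻¹ = g * x0 * g⁻¹ * c.z k' := by
      rw [← e', show g * p * g⁻¹ * (g * x0 * g⁻¹) * (g * p * g⁻¹)⁻¹ = g * (p * x0 * p⁻¹) * g⁻¹ by group,
        f.ci_conj hp h0]
      group
    have a1 := f.act s (c.Tt hs.1) 1 1 (sg F q) (fun u => by rw [hs.2, one_mul, inv_one, mul_one]) _ hx.1
    have e2 := congrArg f.a e1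
    rw [e, show p' * s * (g * x0 * g⁻¹) * (p' * s)⁻¹ = p' * (s * (g * x0 * g⁻¹) * s⁻¹) * p'⁻¹ by group,
      f.ci_conj hp' a1.1, f.ci_a_z a1.1, f.ci_a_z hx.1, a1.2.2.1, one_mul] at e2
    exact e2
  have hc := ci_two (E := H49.cj g f.P) (A := f.P) fun a ha b hb aP bP => by
    obtain ⟨a0, h0, rfl⟩ := H49.mem_cj'.1 ha
    obtain ⟨b0, h1, rfl⟩ := H49.mem_cj'.1 hb
    obtain ⟨p1, hp1, s1, hs1, e1⟩ := out a0 h0 aP
    obtain ⟨p2, hp2, s2, hs2, e2⟩ := out b0 h1 bP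
    rw [e1, e2, show p1 * s1 * (p2 * s2) = p1 * (s1 * p2 * s1⁻¹) * (s1 * s2) by group]
    exact mul_mem (mul_mem hp1 (f.TP hs1.1 hp2)) (f.mem_V.1 (c.ex_mul hs1 hs2)).1
  rw [H49.card_cj] at hc
  obtain ⟨x, hx⟩ := tr_surj (1 : K0 F q)
  obtain ⟨κ, k0, k1⟩ := exists_k0 (F := F) c.q4
  have nf : ∀ m : K0 F q, H10.cj F q (m * x) = m * x → m = 0 := fun m hm => by
    rw [map_mul, cj_k0] at hm
    by_contra m0
    rw [mul_left_cancel₀ (fun e => m0 (k0_ext e)) hm, CharTwo.add_self_eq_zero] at hx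
    exact zero_ne_one hx
  obtain ⟨y, hy, -, a2, -⟩ := f.ci_p0 ((1 : K0 F q) * x) 0
  obtain ⟨y', hy', -, b2, -⟩ := f.ci_p0 (κ * x) 0
  have := fx _ (ci_idx inf_le_left hc hy hy' (fun k => one_ne_zero (nf 1 (a2 ▸ fx y k)))
    fun k => k0 (nf κ (b2 ▸ fx y' k)))
  rw [f.a_mul _ hy _ hy', a2, b2, ← add_mul, ← Subfield.coe_add] at this
  exact k1 (CharTwo.add_eq_zero.1 (nf _ this)).symm

theorem ci_in {s : G} (hs : s ∈ f.P) (h2 : s * s = 1) (k : K0 F q) :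
    (∃ y ∈ f.P, y * s = s * y ∧ y * y = c.z k) ∧
      ∃ y ∈ f.P, ∃ y' ∈ f.P, y * s = s * y ∧ y' * s = s * y' ∧ y * y' * y⁻¹ * y'⁻¹ = c.z k := by
  rw [f.sq s hs, c.z_eq_one] at h2
  obtain ⟨x, hx⟩ := cm_surj (q := q) (one_ne_zero (α := F)) k
  by_cases he : f.e s = 0
  · by_cases ha : f.a s = 0
    · obtain ⟨y, hy, a1, -, e⟩ := f.ci_sq0 k
      obtain ⟨y', hy', b1, b2, b3⟩ := f.ci_p0 1 0
      obtain ⟨y'', hy'', c1, c2, c3⟩ := f.ci_p0 x 0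
      exact ⟨⟨y, hy, (f.comm_iff hy hs).2 (by simp [a1, he, ha]), e⟩, y', hy', y'', hy'',
        (f.comm_iff hy' hs).2 (by simp [b1, he, ha]), (f.comm_iff hy'' hs).2 (by simp [c1, he, ha]),
        by rw [f.ci_comm hy' hy'']; simp [b1, b2, c1, c2, hx]⟩
    · have c0 : f.cc ≠ 0 := fun e => ha (nm_eq_zero.1 (by simpa [e, he] using h2))
      obtain ⟨y, hy, a1, a2, a3⟩ := f.ci_p0 0 (k / f.cc)
      obtain ⟨x', hx'⟩ := cm_surj (q := q) ha (f.b s)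
      obtain ⟨y', hy', b1, b2, b3⟩ := f.ci_p1 x' 0
      obtain ⟨y'', hy'', c1, c2, c3⟩ := f.ci_p0 0 k
      exact ⟨⟨y, hy, (f.comm_iff hy hs).2 (by simp [a1, a2, he]), by
          rw [f.sq y hy]; simp [a1, a2, a3, mul_div_cancel₀ _ c0]⟩, y', hy', y'', hy'',
        (f.comm_iff hy' hs).2 (by simp [b1, b2, he, cm_comm x', hx', k0_add_self]),
        (f.comm_iff hy'' hs).2 (by simp [c1, c2, he]),
        by rw [f.ci_comm hy' hy'']; simp [b1, c1, c2, c3]⟩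
  have mk : ∀ x : F, ∃ y ∈ f.P, f.e y = 0 ∧ f.a y = x ∧ f.b y = cm q x (f.a s) / f.e s ∧ y * s = s * y :=
    fun x => by
    obtain ⟨y, hy, a1, a2, a3⟩ := f.ci_p0 x (cm q x (f.a s) / f.e s)
    exact ⟨y, hy, a1, a2, a3, (f.comm_iff hy hs).2 (by
      simp [a1, a2, a3, mul_div_cancel₀ _ he, k0_add_self])⟩
  obtain ⟨y', hy', b1, b2, -, b4⟩ := mk 1
  obtain ⟨y'', hy'', c1, c2, -, c4⟩ := mk x
  refine ⟨?_, y', hy', y'', hy'', b4, c4, by rw [f.ci_comm hy' hy'']; simp [b1, b2, c1, c2, hx]⟩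
  obtain ⟨x', e1, e2⟩ : ∃ x', cm q x' (f.a s) = 0 ∧ nm q x' = k := by
    by_cases ha : f.a s = 0
    · exact (nm_surj k).imp fun x' e => ⟨by simp [ha], e⟩
    · obtain ⟨m, hm⟩ := sq_surj (k / nm q (f.a s))
      exact ⟨m * f.a s, by simp [cm_smul_left], by
        rw [nm_mul, nm_k0, hm, div_mul_cancel₀ _ (mt nm_eq_zero.1 ha)]⟩
  obtain ⟨y, hy, a1, a2, a3, a4⟩ := mk x'
  exact ⟨y, hy, a4, by rw [f.sq y hy]; simp [a2, a3, e1, e2]⟩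

theorem ci_out {s w : G} (hs : c.Ex s) (hw : w ∈ f.W) (k : K0 F q) :
    (∃ y ∈ f.P, y * (s * w) = s * w * y ∧ y * y = c.z k) ∧ ∃ y ∈ f.P, ∃ y' ∈ f.P,
      y * (s * w) = s * w * y ∧ y' * (s * w) = s * w * y' ∧ y * y' * y⁻¹ * y'⁻¹ = c.z k := by
  obtain ⟨-, ε, hε⟩ := f.exists_ef hs
  have cm1 : ∀ y ∈ f.P, ∀ m : K0 F q, f.a y = m → m ^ 2 + ε * f.b y + f.e y * f.b w = 0 →
      y * (s * w) = s * w * y := fun y hy m e h => by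
    have e1 : ∀ m, s * c.z m * s⁻¹ = c.z m := fun m => by
      rw [Ctx0.z, hs.2, sl_zz, nm_one, one_mul, kf_sg]
    rw [eq_comm, ← mul_inv_eq_iff_eq_mul,
      show s * w * y * (s * w)⁻¹ = s * (w * y * w⁻¹) * s⁻¹ by group, f.ci_conj hw.1 hy,
      show ∀ u v : G, s * (u * v) * s⁻¹ = s * u * s⁻¹ * (s * v * s⁻¹) from fun u v => by group, e1,
      hε y hy (by rw [e, cj_k0]), mul_assoc, ← c.z_add, hw.2.1, hw.2.2, e, nm_k0, cm_zero_left, zero_mul,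
      zero_add, zero_add, h, c.z_zero, mul_one]
  have mk : ∀ β, ∃ y ∈ f.P, ∃ m : K0 F q, f.e y = 0 ∧ f.a y = m ∧ f.b y = β ∧ m ^ 2 = ε * β ∧
      y * (s * w) = s * w * y := fun β => by
    obtain ⟨m, hm⟩ := sq_surj (ε * β)
    obtain ⟨y, hy, a1, a2, a3⟩ := f.ci_p0 m β
    exact ⟨y, hy, m, a1, a2, a3, hm, cm1 y hy m a2 (by simp [a1, a3, hm, k0_add_self])⟩
  obtain ⟨n, hn⟩ := sq_surj (f.b w)
  obtain ⟨y1, hy1, b1, b2, b3⟩ := f.ci_p1 n 0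
  have b4 := cm1 y1 hy1 n b2 (by simp [b1, b3, hn, k0_add_self])
  constructor
  · by_cases h0 : ε + f.cc = 0
    · obtain ⟨y, hy, m, a1, a2, a3, a4, a5⟩ := mk (k + f.b w)
      refine ⟨y1 * y, mul_mem hy1 hy, by rw [mul_assoc, a5, ← mul_assoc, b4, mul_assoc, mul_assoc], ?_⟩
      rw [f.sq _ (mul_mem hy1 hy), f.a_mul _ hy1 _ hy, f.e_mul _ hy1 _ hy, f.b_mul _ hy1 _ hy, a1, a2, a3,
        b1, b2, b3, nm_add, nm_k0, nm_k0, cm_k0, a4, hn]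
      congr 1
      linear_combination (k + f.b w) * h0 + k0_add_self (f.b w)
    · obtain ⟨y, hy, m, a1, a2, a3, a4, a5⟩ := mk (k / (ε + f.cc))
      refine ⟨y, hy, a5, ?_⟩
      rw [f.sq y hy, a1, a2, a3, nm_k0, a4, add_zero, ← add_mul, mul_div_cancel₀ _ h0]
  · obtain ⟨y, hy, m, a1, a2, a3, -, a5⟩ := mk k
    exact ⟨y1, hy1, y, hy, b4, a5, by rw [f.ci_comm hy1 hy]; simp [a1, a2, a3, b1, b2, cm_k0]⟩

/-- every element of `Z` is a square and a commutator in `C_P(s)` -/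
theorem sq_comm {s : G} (hs : s ∈ f.Ph) (h2 : s * s = 1) (k : K0 F q) :
    (∃ y ∈ f.P, y * s = s * y ∧ y * y = c.z k) ∧
      ∃ y ∈ f.P, ∃ y' ∈ f.P, y * s = s * y ∧ y' * s = s * y' ∧ y * y' * y⁻¹ * y'⁻¹ = c.z k := by
  by_cases hP : s ∈ f.P
  · exact f.ci_in hP h2 k
  obtain ⟨p, hp, w, hw, s0, h0, e⟩ := f.outer_nf hs hP h2
  obtain ⟨⟨y, hy, a1, a2⟩, y', hy', y'', hy'', b1, b2, b3⟩ := f.ci_out h0 hw k
  have m : ∀ y ∈ f.P, p⁻¹ * y * p ∈ f.P := fun y hy => mul_mem (mul_mem (inv_mem hp) hy) hp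
  have cs : ∀ y, y * (s0 * w) = s0 * w * y → p⁻¹ * y * p * s = s * (p⁻¹ * y * p) := fun y h => by
    rw [← e] at h
    calc _ = p⁻¹ * (y * (p * s * p⁻¹)) * p := by group
      _ = _ := by rw [h]; group
  have zp : p⁻¹ * c.z k * p = c.z k := by rw [mul_assoc, f.z_comm k hp, inv_mul_cancel_left]
  exact ⟨⟨_, m y hy, cs y a1, by rw [← zp, ← a2]; group⟩, _, m y' hy', _, m y'' hy'', cs y' b1, cs y'' b2,
    by rw [← zp, ← b3]; group⟩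

theorem scb_of_syl (h : SylIn 2 f.Ph ⊤) : c.SCB := by
  obtain ⟨S, hS⟩ := h.exists_sylow_top
  refine ⟨S, c.Z, le_rfl, ⟨⟨⟨fun x y => Subtype.ext ?_⟩⟩, fun x hx => ?_⟩, ?_⟩
  · obtain ⟨k, e⟩ := c.mem_Z.1 x.2
    obtain ⟨k', e'⟩ := c.mem_Z.1 y.2
    rw [coe_mul, coe_mul, e, e', ← c.z_add, ← c.z_add, add_comm]
  · obtain ⟨k, rfl⟩ := c.mem_Z.1 hx
    rw [pow_two, c.z_sq]
  rw [hS]
  have PPh : f.P ≤ f.Ph := le_sup_left
  refine ⟨fun x hx => ?_, fun x hx g hg => ?_⟩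
  · obtain ⟨k, rfl⟩ := c.mem_Z.1 hx
    exact PPh (f.mZ k).1
  obtain ⟨b, rfl⟩ := c.mem_Z.1 hx
  by_cases b0 : b = 0
  · rw [b0, c.z_zero, mul_one, mul_inv_cancel]; exact one_mem _
  obtain ⟨u, -, -, hu⟩ := c.z_conj b0
  rw [← hu, show g * (u * c.z 1 * u⁻¹) * g⁻¹ = g * u * c.z 1 * (g * u)⁻¹ by group] at hg ⊢
  generalize g * u = v at hg ⊢
  have hC : f.Ph ≤ centralizer {c.z 1} := fun y hy => by
    obtain ⟨p, hp, y0, h0, rfl⟩ := f.mem_Ph.1 hy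
    rw [mem_centralizer_singleton_iff, mul_assoc, c.z1_comm h0, ← mul_assoc, ← f.z_comm 1 hp, mul_assoc]
  obtain ⟨a, ha, e⟩ := (h.of_le hC le_top).exists_conj_mem
    (H := H49.cj v⁻¹ f.Ph ⊓ centralizer {c.z 1}) (H49.isPGroup_cj.2 f.pg_Ph).to_inf_left inf_le_right
  rw [mem_centralizer_singleton_iff] at ha
  have mv : ∀ y ∈ f.P, y * (v * c.z 1 * v⁻¹) = v * c.z 1 * v⁻¹ * y → a * v⁻¹ * y * (a * v⁻¹)⁻¹ ∈ f.Ph :=
    fun y hy hc => by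
    have := e (v⁻¹ * y * v⁻¹⁻¹) ⟨H49.conj_mem_cj.2 (PPh hy), mem_centralizer_singleton_iff.2 (by
      calc _ = v⁻¹ * (y * (v * c.z 1 * v⁻¹)) * v := by group
        _ = _ := by rw [hc]; group)⟩
    rwa [show a * (v⁻¹ * y * v⁻¹⁻¹) * a⁻¹ = a * v⁻¹ * y * (a * v⁻¹)⁻¹ by group] at this
  have hn : a * v⁻¹ ∈ normalizer (c.Z : Set G) := mem_normalizer_fintype fun x hx => by
    obtain ⟨k, rfl⟩ := c.mem_Z.1 hx
    obtain ⟨⟨y, hy, a1, a2⟩, y', hy', y'', hy'', b1, b2, b3⟩ := f.sq_comm hg (by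
      rw [show v * c.z 1 * v⁻¹ * (v * c.z 1 * v⁻¹) = v * (c.z 1 * c.z 1) * v⁻¹ by group, c.z_sq]; group) k
    exact f.ci_Z (mv y hy a1) (mv y' hy' b1) (mv y'' hy'' b2) a2 b3
  rw [mem_normalizer_iff.1 hn, show a * v⁻¹ * (v * c.z 1 * v⁻¹) * (a * v⁻¹)⁻¹ = a * c.z 1 * a⁻¹ by group, ha,
    mul_inv_cancel_right]
  exact c.mem_Z.2 ⟨1, rfl⟩

theorem case0 (h : f.Lam0) : c.SCB := by
  refine f.scb_of_syl (sylIn_of_maximal le_top f.pg_Ph fun H hH h1 _ => by_contra fun h2 => ?_)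
  obtain ⟨g, hg, gP⟩ := SetLike.exists_of_lt (H42.lt_inf_normalizer hH (lt_of_le_not_ge h1 h2))
  have PPh : f.P ≤ f.Ph := le_sup_left
  have gn := f.PP fun p hp => (mem_normalizer_iff.1 hg.2 p).1 (PPh hp)
  have t1 : g * c.t * g⁻¹ ∈ f.P := (mem_normalizer_iff.1 gn _).1 (f.mR _ c.tR).1
  have t2 := h _ t1 ⟨c.t, c.tR, c.t1, isConj_iff.2 ⟨g, rfl⟩⟩
  have t3 := f.sq _ t1
  rw [show g * c.t * g⁻¹ * (g * c.t * g⁻¹) = g * (c.t * c.t) * g⁻¹ by group, c.t2, mul_one, mul_inv_cancel,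
    eq_comm, c.z_eq_one, t2, mul_zero, add_zero, nm_eq_zero] at t3
  obtain ⟨r, hr, k, e⟩ := c.mem_V.1 (f.mem_V.2 ⟨t1, t3, t2⟩)
  have r1 : r ≠ 1 := by
    rintro rfl
    exact c.t_not_z k (isConj_iff.2 ⟨g, by rw [e, one_mul]⟩)
  obtain ⟨w, hw, e'⟩ := f.conj_W hr r1 k
  have m : w⁻¹ * g ∈ H := mul_mem (inv_mem (h1 (PPh hw.1))) hg.1
  obtain ⟨n, hn⟩ := hH ⟨_, m⟩
  have t4 := c.two_elt (g := w⁻¹ * g) c.tR c.t1 (by
    rw [show w⁻¹ * g * c.t * (w⁻¹ * g)⁻¹ = w⁻¹ * (g * c.t * g⁻¹) * w by group, e, ← e']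
    simpa [mul_assoc] using hr) (congrArg Subtype.val hn)
  have t5 := c.syl.eq_of_le (H := H ⊓ centralizer {c.t}) hH.to_inf_left
    (le_inf (le_sup_right.trans h1) c.syl.1) inf_le_right
  have t6 : w⁻¹ * g ∈ c.T := t5 ▸ mem_inf.2 ⟨m, mem_centralizer_singleton_iff.2 t4⟩
  exact gP (f.mem_Ph.2 ⟨w, hw.1, _, t6, by group⟩)

end Fr1

end Cfsg.Agent.GMS
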