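import Cfsg.Agent.GMS.FldA
import Cfsg.Agent.H8.InvAbProd

/-! Project GMS: changes of the model frame; central extensions with odd kernel. -/

set_option autoImplicit false
set_option linter.unusedSectionVars false

namespace Cfsg.Agent.GMS

open Subgroup H10 H91
open H42 hiding SylIn
open scoped commutatorElement

variable {F : Type*} [Field F] [Fintype F] [CharP F 2] {q : ℕ}
  [hF : Fact (Fintype.card F = q ^ 2)] {M : Type*} [Group M]

local notation "σ" => H10.cj F q
local notation "ι" => RingEquiv.refl F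

/-- scalar automorphisms of `UM` -/
noncomputable def slE {x : F} (hx : x ≠ 0) : UM F q ≃* UM F q where
  toFun := sl x ι
  invFun := sl x⁻¹ ι
  left_inv u := by rw [sl_sl, show x⁻¹ * ι x = 1 from inv_mul_cancel₀ hx]; exact sl_refl u
  right_inv u := by rw [sl_sl, show x * ι x⁻¹ = 1 from mul_inv_cancel₀ hx]; exact sl_refl u
  map_mul' := sl_mul x ι

theorem slE_apply {x : F} (hx : x ≠ 0) (u : UM F q) : slE hx u = sl x ι u := rfl

theorem slE_sl {x : F} (hx : x ≠ 0) (l : F) (φ : F ≃+* F) (u : UM F q) :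
    slE hx (sl (l * φ x / x) φ u) = sl l φ (slE hx u) := by
  rw [slE_apply, slE_apply, sl_sl, sl_sl]
  congr 1
  simp [mul_div_cancel₀, hx]

theorem slE_sl' {x : F} (hx : x ≠ 0) (l : F) (φ : F ≃+* F) (u : UM F q) :
    slE hx (sl l φ u) = sl (l * x / φ x) φ (slE hx u) := by
  have : φ x ≠ 0 := (map_ne_zero φ).2 hx
  rw [← slE_sl]; congr 2; field_simp

theorem slE_comm {x : F} (hx : x ≠ 0) (l : F) (u : UM F q) :
    slE hx (sl l ι u) = sl l ι (slE hx u) := by
  rw [slE_sl']; simp [hx]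

theorem slE_zz {x : F} (hx : x ≠ 0) (b : K0 F q) : slE hx (zz b) = zz (nm q x * b) := sl_zz _ _ _

namespace PFr

variable (m : PFr M F q)

/-- conjugation -/
def cj (g : M) : PFr M F q where
  U := (MulAut.conj g).toMonoidHom.comp m.U
  H := m.H.comap (MulAut.conj g).symm.toMonoidHom
  L := m.L.comap (MulAut.conj g).symm.toMonoidHom
  Uinj := (MulAut.conj g).injective.comp m.Uinj
  syl := by
    rw [MonoidHom.range_comp]; exact m.syl.conj (mem_top g)
  act β h := by
    obtain ⟨w, l, φ, h0, h⟩ := m.act ((MulAut.conj g)⁻¹ * β * MulAut.conj g) fun u =>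
      (h u).imp fun v h => (MulAut.conj g).symm_apply_eq.2 h
    exact ⟨w, l, φ, h0, fun u => (MulAut.conj g).symm_apply_eq.1 (h u)⟩
  ker β h := by
    obtain ⟨w, h⟩ := m.ker ((MulAut.conj g)⁻¹ * β * MulAut.conj g) fun u =>
      (h u).imp fun v h => ⟨(MulAut.conj g).symm_apply_eq.2 h.1, h.2⟩
    refine ⟨w, fun x => ?_⟩
    have := (MulAut.conj g).symm_apply_eq.1 (h ((MulAut.conj g).symm x))
    simpa [mul_assoc] using this
  ti β u v hu h u' := (m.ti ((MulAut.conj g)⁻¹ * β * MulAut.conj g) u v hu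
    ((MulAut.conj g).symm_apply_eq.2 h) u').imp fun v h => (MulAut.conj g).symm_apply_eq.1 h
  Hc := by
    rw [← map_equiv_eq_comap_symm']
    have := m.Hc
    exact isCyclic_of_surjective _ ((MulAut.conj g).subgroupMap m.H).surjective
  Hodd := by
    rw [← map_equiv_eq_comap_symm', card_map_of_injective (MulAut.conj g).injective]; exact m.Hodd
  Hact h hh := (m.Hact _ hh).imp fun l hl => ⟨hl.1, fun u => (MulAut.conj g).symm.injective (by
    simpa [mul_assoc] using hl.2 u)⟩
  Hex k hk := by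
    obtain ⟨h, hh, h1⟩ := m.Hex k hk
    exact ⟨MulAut.conj g h, by simpa [mul_assoc] using hh, fun u => by simp [← h1 u, mul_assoc]⟩
  Le := by
    rw [← map_equiv_eq_comap_symm']
    exact m.Le.map ((MulAut.conj g).subgroupMap m.L).symm.trans
  ZL b := by simpa [mul_assoc] using m.ZL b
  HL l hl := by
    obtain ⟨h, hh, hL, h1⟩ := m.HL l hl
    exact ⟨MulAut.conj g h, by simpa [mul_assoc] using hh, by simpa [mul_assoc] using hL,
      fun u => by simp [← h1 u, mul_assoc]⟩
  H1L h hh h1 x hx := (MulAut.conj g).symm.injective (by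
    rw [map_mul, map_mul]
    exact m.H1L _ hh (fun b => by
      simpa only [map_mul, MonoidHom.comp_apply, MulEquiv.coe_toMonoidHom,
        MulEquiv.symm_apply_apply] using congrArg (MulAut.conj g).symm (h1 b)) _ hx)
  fL β l hl h := (m.fL ((MulAut.conj g)⁻¹ * β * MulAut.conj g) l hl fun u =>
    (MulAut.conj g).symm_apply_eq.2 (h u)).imp fun b hb x hx => by
      have := (MulAut.conj g).symm_apply_eq.1 (hb _ hx)
      simpa [mul_assoc] using this
  Lmax β l hl h h1 x hx := m.Lmax ((MulAut.conj g)⁻¹ * β * MulAut.conj g) l hl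
    (fun u => (MulAut.conj g).symm_apply_eq.2 (h u))
    (fun y hy => (MulAut.conj g).symm_apply_eq.2 (h1 _ (by simpa [mul_assoc] using hy))) _
    ((MulAut.conj g).symm_apply_eq.2 (by simpa [mul_assoc] using hx))

/-- rescaling the coordinate -/
noncomputable def scale {x : F} (hx : x ≠ 0) : PFr M F q where
  U := m.U.comp (slE hx).toMonoidHom
  H := m.H
  L := m.L
  Uinj := m.Uinj.comp (slE hx).injective
  syl := by
    rw [MonoidHom.range_comp, MonoidHom.range_eq_top.2 (slE hx).surjective,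
      ← MonoidHom.range_eq_map]; exact m.syl
  act β h := by
    obtain ⟨w, l, φ, h0, h⟩ := m.act β fun u => by
      obtain ⟨u, rfl⟩ := (slE hx).surjective u
      exact (h u).elim fun v h => ⟨_, h⟩
    obtain ⟨w, rfl⟩ := (slE hx).surjective w
    refine ⟨w, l * φ x / x, φ, div_ne_zero (mul_ne_zero h0 ((map_ne_zero φ).2 hx)) hx, fun u => ?_⟩
    simpa [slE_sl] using h (slE hx u)
  ker β h := by
    obtain ⟨w, h⟩ := m.ker β fun u => by
      obtain ⟨u, rfl⟩ := (slE hx).surjective u
      exact (h u).elim fun v h => ⟨_, h.1, by simp [slE_apply, h.2]⟩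
    obtain ⟨w, rfl⟩ := (slE hx).surjective w
    exact ⟨w, h⟩
  ti β u v hu h u' := by
    obtain ⟨v', h⟩ := m.ti β _ _ ((map_ne_one_iff _ (slE hx).injective).2 hu) h (slE hx u')
    obtain ⟨v', rfl⟩ := (slE hx).surjective v'
    exact ⟨v', h⟩
  Hc := m.Hc
  Hodd := m.Hodd
  Hact h hh := (m.Hact h hh).imp fun l hl => ⟨hl.1, fun u => by simp [slE_comm, hl.2]⟩
  Hex k hk := (m.Hex k hk).imp fun h hh => ⟨hh.1, fun u => by simp [slE_comm, hh.2]⟩
  Le := m.Le
  ZL b := by simpa [slE_zz] using m.ZL _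
  HL l hl := (m.HL l hl).imp fun h hh => ⟨hh.1, hh.2.1, fun u => by simp [slE_comm, hh.2.2]⟩
  H1L h hh h1 := m.H1L h hh fun b => by
    simpa [slE_zz, mul_div_cancel₀ _ (nm_eq_zero.not.2 hx)] using h1 (b / nm q x)
  fL β l hl h := by
    have := (map_ne_zero (σ)).2 hx
    obtain ⟨b, hb⟩ := m.fL β (l * x / σ x) (by
      rw [map_div₀, map_mul, H10.cj_cj]; field_simp; exact hl) fun u => by
        obtain ⟨u, rfl⟩ := (slE hx).surjective u
        simpa [slE_sl'] using h u
    exact ⟨b / nm q x, by simpa [slE_zz, mul_div_cancel₀ _ (nm_eq_zero.not.2 hx)] using hb⟩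
  Lmax β l hl h := by
    have := (map_ne_zero (σ)).2 hx
    exact m.Lmax β (l * x / σ x) (by
      rw [map_div₀, map_mul, H10.cj_cj]; field_simp; exact hl) fun u => by
        obtain ⟨u, rfl⟩ := (slE hx).surjective u
        simpa [slE_sl'] using h u

end PFr

variable {A : Type*} [Group A] [Finite A] {π : A →* M}

theorem two_uniq (hk : π.ker = center A) (hodd : Odd (Nat.card (center A))) {a b : A} {k k' : ℕ}
    (ha : a ^ 2 ^ k = 1) (hb : b ^ 2 ^ k' = 1) (h : π a = π b) : a = b := by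
  have hz : a⁻¹ * b ∈ center A := by rw [← hk, MonoidHom.mem_ker, map_mul, map_inv, h, inv_mul_cancel]
  have hc : Commute a⁻¹ b := by
    simpa using (Commute.refl a).inv_left.mul_right (mem_center_iff.1 hz a⁻¹)
  have h1 : (a⁻¹ * b) ^ 2 ^ (k + k') = 1 := by
    rw [hc.mul_pow, inv_pow, pow_add, pow_mul, ha, mul_comm (2 ^ k), pow_mul, hb]; simp
  have h2 := (hodd.of_dvd_nat ((center A).orderOf_dvd_natCard hz)).coprime_two_right.pow_right (k + k')
  exact inv_mul_eq_one.1 (orderOf_eq_one_iff.1 (h2.eq_one_of_dvd (orderOf_dvd_of_pow_eq_one h1)))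

theorem fix_comm (hk : π.ker = center A) (α : A →* A) {S : Subgroup A}
    (h : ∀ a ∈ S, π (α a) = π a) : ∀ a ∈ ⁅S, S⁆, α a = a := by
  refine fun a ha => commutator_le (H₃ := α.eqLocus (.id A)).2 (fun x hx y hy => ?_) ha
  have e : ∀ x ∈ S, ∃ z ∈ center A, α x = x * z := fun x hx => ⟨x⁻¹ * α x, by
    rw [← hk, MonoidHom.mem_ker, map_mul, map_inv, h x hx, inv_mul_cancel], by group⟩
  obtain ⟨z, hz, e1⟩ := e x hx
  obtain ⟨z', hz', e2⟩ := e y hy
  change α ⁅x, y⁆ = ⁅x, y⁆
  rw [map_commutatorElement, e1, e2, commutatorElement_def, commutatorElement_def]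
  have c1 := mem_center_iff.1 hz
  have c2 := mem_center_iff.1 hz'
  calc x * z * (y * z') * (x * z)⁻¹ * (y * z')⁻¹
      = x * (z * (y * z') * z⁻¹) * x⁻¹ * z'⁻¹ * y⁻¹ := by group
    _ = x * y * (z' * x⁻¹ * z'⁻¹) * y⁻¹ := by rw [← c1, mul_inv_cancel_right]; group
    _ = _ := by rw [← c2, mul_inv_cancel_right]

theorem comm_inj {K : Type*} [Field K] [Finite K] (h2 : (2 : K) = 0) (h4 : 4 ≤ Nat.card K)
    (φ : A →* Matrix.SpecialLinearGroup (Fin 2) K) (hs : Function.Surjective φ)
    (hk : φ.ker ≤ center A) (ho : Odd (Nat.card φ.ker)) {z : A} (hz : z ∈ commutator A)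
    (h : φ z = 1) : z = 1 := by
  obtain ⟨e⟩ := H8.prod_of_central_sl2 h2 h4 φ hs hk ho
  have hs := H8.sl2e_simple h2 h4
  have h1 : (e z).2 = 1 := by
    refine commutator_le (H₃ := ((MonoidHom.snd _ _).comp e.toMonoidHom).ker).2
      (fun x _ y _ => ?_) hz
    rw [MonoidHom.mem_ker, map_commutatorElement, commutatorElement_eq_one_iff_mul_comm]
    exact Subtype.ext (mem_center_iff.1 (hk (Subtype.prop _)) _)
  have h3 : (e z).1 ∈ center (Matrix.SpecialLinearGroup (Fin 2) K) := mem_center_iff.2 fun s => by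
    simpa using congrArg (fun x => (e x).1) (mem_center_iff.1 (hk h) (e.symm (s, 1)))
  rcases hs.eq_bot_or_eq_top_of_normal (center _) inferInstance with h4' | h4'
  · exact e.injective (by rw [map_one]; exact Prod.ext (mem_bot.1 (h4' ▸ h3)) h1)
  · refine absurd (H8.sl2e_perfect h4) fun hp => bot_ne_top (Eq.trans ?_ hp)
    rw [eq_comm, commutator_def, commutator_eq_bot_iff_le_centralizer]
    exact fun x _ y _ => mem_center_iff.1 (h4'.ge (mem_top x)) y

theorem exists_beta (hπ : Function.Surjective π) (hk : π.ker = center A) (α : A ≃* A) :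
    ∃ β : MulAut M, ∀ a, β (π a) = π (α a) := by
  let e := (QuotientGroup.quotientMulEquivOfEq hk.symm).trans
    (QuotientGroup.quotientKerEquivOfSurjective π hπ)
  refine ⟨(e.symm.trans (QuotientGroup.congr _ _ α
    (characteristic_iff_map_eq.1 inferInstance α))).trans e, fun a => ?_⟩
  exact congrArg (fun x => e (QuotientGroup.congr _ _ α
    (characteristic_iff_map_eq.1 inferInstance α) x)) (e.symm_apply_apply a)

end Cfsg.Agent.GMS
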