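import Cfsg.Agent.GMS.FldB
import Cfsg.Agent.GMS.ModG0
import Cfsg.Agent.STD.Top

/-! Project GMS: the context from a central extension of the model. -/

set_option autoImplicit false
set_option linter.unusedSectionVars false

namespace Cfsg.Agent.GMS

open Subgroup H10 H91
open H42 hiding SylIn
open scoped commutatorElement

variable {G : Type*} [Group G] [Finite G] {F : Type*} [Field F] [Fintype F] [CharP F 2] {q : ℕ}
  [hF : Fact (Fintype.card F = q ^ 2)]

section

variable {M : Type*} [Group M] [Finite M]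

section

variable {A : Type*} [Group A] [Finite A] {π : A →* M} (hπ : Function.Surjective π)
  (hk : π.ker = center A) (hodd : Odd (Nat.card (center A)))
include hk

theorem ker_comap (H : Subgroup M) : (π.subgroupComap H).ker ≤ center _ := fun _ hx =>
  mem_center_iff.2 fun y => Subtype.ext (mem_center_iff.1 (hk.le (congrArg Subtype.val hx)) y)

include hodd

theorem odd_ker (H : Subgroup M) : Odd (Nat.card (π.subgroupComap H).ker) := by
  rw [← card_map_of_injective (subtype_injective _)]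
  exact hodd.of_dvd_nat (card_dvd_of_le fun _ ⟨x, hx, e⟩ => e ▸ hk.le (congrArg Subtype.val hx))

include hπ

theorem exists_sec (hq : 4 ≤ q) {L : Subgroup M}
    (e : L ≃* Matrix.SpecialLinearGroup (Fin 2) (K0 F q)) : ∃ s : L →* A, (∀ x, π (s x) = x) ∧
      ∀ α : A →* A, (∀ x, π (α (s x)) = x) → ∀ x, α (s x) = s x := by
  have h4 : 4 ≤ Nat.card (K0 F q) := hq.trans_eq card_k0.symm
  have hs := π.subgroupComap_surjective_of_surjective L hπ
  have hp : commutator L = ⊤ := by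
    rw [eq_top_iff, ← map_le_map_iff_of_injective (f := e.toMonoidHom) e.injective, map_commutator_eq,
      MonoidHom.range_eq_top.2 e.surjective, ← commutator_def, H8.sl2e_perfect h4]
    exact le_top
  have hke : (e.toMonoidHom.comp (π.subgroupComap L)).ker = (π.subgroupComap L).ker := by
    ext; simp [MonoidHom.mem_ker]
  let ψ := (π.subgroupComap L).comp (commutator (L.comap π)).subtype
  have hb : Function.Bijective ψ := by
    refine ⟨(injective_iff_map_eq_one _).2 fun z hz => Subtype.ext (comm_inj CharTwo.two_eq_zero h4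
      (e.toMonoidHom.comp (π.subgroupComap L)) (e.surjective.comp hs) (hke ▸ ker_comap hk L)
      (hke ▸ odd_ker hk hodd L) z.2 ((map_eq_one_iff _ e.injective).2 hz)), fun x => ?_⟩
    have : x ∈ (commutator (L.comap π)).map (π.subgroupComap L) := by
      rw [map_commutator_eq, MonoidHom.range_eq_top.2 hs]; exact hp.ge (mem_top x)
    obtain ⟨g, hg, rfl⟩ := this
    exact ⟨⟨g, hg⟩, rfl⟩
  let s : L →* A := (L.comap π).subtype.comp
    ((commutator _).subtype.comp (MulEquiv.ofBijective ψ hb).symm.toMonoidHom)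
  have h1 : ∀ x, π (s x) = x := fun x =>
    congrArg Subtype.val ((MulEquiv.ofBijective ψ hb).apply_symm_apply x)
  refine ⟨s, h1, fun α h x => fix_comm hk α (S := s.range) ?_ _ ?_⟩
  · rintro _ ⟨y, rfl⟩; rw [h, h1]
  · rw [← map_commutator_eq, hp]; exact ⟨x, mem_top _, rfl⟩

end

variable {t : G} {A : Subgroup G} {π : A →* M} (hπ : Function.Surjective π)
  (hk : π.ker = center A) (hodd : Odd (Nat.card (center A)))
  (An : ∀ y, y * t = t * y → ∀ a ∈ A, y * a * y⁻¹ ∈ A)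

include An in
theorem exists_alpha {y : G} (hy : y * t = t * y) : ∃ α : A ≃* A, ∀ a, (α a : G) = y * a * y⁻¹ :=
  ⟨A.normalizerMonoidHom ⟨y, mem_normalizer_fintype (An y hy)⟩, fun _ => rfl⟩

include hπ hk hodd An in
theorem exists_ab {T : Subgroup G} (hT : IsPGroup 2 T) {y : G} (hy : y * t = t * y) :
    ∃ (α : A ≃* A) (β : MulAut M), (∀ a, (α a : G) = y * a * y⁻¹) ∧ (∀ a, β (π a) = π (α a)) ∧
      ∀ a b : A, (a : G) ∈ T → (b : G) ∈ T → (y * a * y⁻¹ = b ↔ β (π a) = π b) := by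
  obtain ⟨α, h⟩ := exists_alpha An hy
  obtain ⟨β, h'⟩ := exists_beta hπ hk α
  refine ⟨α, β, h, h', fun a b ha hb => ⟨fun e => by rw [h', Subtype.ext ((h a).trans e)], fun e => ?_⟩⟩
  obtain ⟨k, h1⟩ := hT ⟨a, ha⟩
  obtain ⟨k', h2⟩ := hT ⟨b, hb⟩
  rw [← h, two_uniq hk hodd (k := k) (k' := k') (by
    rw [← map_pow, show a ^ 2 ^ k = 1 from Subtype.ext (congrArg Subtype.val h1 :), map_one])
    (Subtype.ext (congrArg Subtype.val h2 :)) ((h' a).symm.trans e)]

include hπ hk hodd An in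
theorem PFr.core (m : PFr M F q) (hq : 4 ≤ q) (t1 : t ≠ 1) (t2 : t * t = 1)
    (hA : Group.IsPerfect A) (tA : ∀ a ∈ A, t * a = a * t) {T : Subgroup G}
    (syl : SylIn 2 T (centralizer {t}))
    (hc : ∀ r ∈ T ⊓ centralizer (A : Set G), ∀ s ∈ T ⊓ centralizer (A : Set G), r * s = s * r)
    (j : UM F q →* A) (jU : ∀ u, π (j u) = m.U u) (jT : ∀ u, (j u : G) ∈ T)
    (hT : ∀ a : A, (a : G) ∈ T → ∃ u, a = j u)
    (hn : ∀ y ∈ T, ∃ w φ, ∀ u, y * j u * y⁻¹ = j (w * sl 1 φ u * w⁻¹)) :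
    ∃ c : Ctx0 G F q, c.t = t ∧ c.A = A ∧ c.R = c.T ⊓ centralizer (A : Set G) := by
  obtain ⟨e⟩ := m.Le
  have h4 : 4 ≤ Nat.card (K0 F q) := hq.trans_eq card_k0.symm
  obtain ⟨s, s1, s2⟩ := exists_sec hπ hk hodd hq e
  have ab : ∀ {y}, y * t = t * y → ∃ (α : A ≃* A) (β : MulAut M), (∀ a, (α a : G) = y * a * y⁻¹) ∧
      (∀ a, β (π a) = π (α a)) ∧ ∀ u v, y * j u * y⁻¹ = j v ↔ β (m.U u) = m.U v := fun hy => by
    obtain ⟨α, β, h1, h2, h3⟩ := exists_ab hπ hk hodd An syl.isPGroup hy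
    exact ⟨α, β, h1, h2, fun u v => by rw [h3 _ _ (jT u) (jT v), jU, jU]⟩
  have Tt : ∀ y ∈ T, y * t = t * y := fun y hy => mem_centralizer_singleton_iff.1 (syl.le hy)
  have zc : ∀ a b : A, π a = π b → ∃ z : A, (∀ x ∈ A, x * z = z * x) ∧ (a : G) = b * z :=
    fun a b h => ⟨b⁻¹ * a, fun x hx => congrArg Subtype.val (mem_center_iff.1 (hk.le (by
      rw [MonoidHom.mem_ker, map_mul, map_inv, h, inv_mul_cancel])) ⟨x, hx⟩), by simp⟩
  have cA : ∀ (a : A) u v, (a : G) * j u * (a : G)⁻¹ = j v ↔ π a * m.U u * (π a)⁻¹ = m.U v := by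
    intro a u v
    obtain ⟨α, β, h1, h2, h3⟩ := ab (tA a a.2).symm
    rw [h3, ← jU u, h2, show α (j u) = a * j u * a⁻¹ from Subtype.ext (h1 _), map_mul,
      map_mul, map_inv, jU]
  have si : Function.Injective (A.subtype.comp s) := (subtype_injective _).comp fun x y h =>
    Subtype.ext (by rw [← s1, h, s1])
  let eL := (MonoidHom.ofInjective si).symm.trans e
  have hs := H8.sl2e_simple CharTwo.two_eq_zero h4
  refine ⟨{ t := t, R := T ⊓ centralizer (A : Set G), A := A, T := T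
            H := (m.H.comap π).map A.subtype, L := (A.subtype.comp s).range
            U := A.subtype.comp j, q4 := hq, t1 := t1, t2 := t2, Rc := hc, RT := inf_le_left
            tR := ⟨?_, fun a ha => (tA a ha).symm⟩, RA := fun r hr a ha => (hr.2 a ha).symm
            RA1 := fun r hr ha => ?_, UA := fun u => (j u).2, UT := jT, An := An, syl := syl
            Uinj := fun u v h => m.Uinj (by rw [← jU, ← jU]; exact congrArg π (Subtype.ext h))
            TA := fun y hy ha => (hT ⟨y, ha⟩ hy).imp fun u h => congrArg Subtype.val h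
            TK := fun y hy h => ⟨hy, fun a ha => (h a ha).symm⟩
            TX := fun a ha k hk' h => ?_, act := fun y hy h => ?_, actT := hn
            ker := fun y hy h => ?_, ti := fun y hy u v hu h u' => ?_
            HA := map_subtype_le _, Hc := ?_, Hodd := ?_, Hact := ?_, Hex := fun k hk => ?_
            LA := fun _ ⟨x, e⟩ => e ▸ (s x).2, Ls := eL.isSimpleGroup, Lna := fun h => ?_
            ZL := fun b => ?_, HL := fun l hl => ?_, H1L := ?_, fL := fun y hy h => ?_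
            Lmax := fun y hy h h1 a ha h2 => ?_ }, rfl, rfl, rfl⟩
  · refine syl.le_of_normal (N := zpowers t) (IsPGroup.of_card (n := 1) ?_)
      (zpowers_le.2 (mem_centralizer_singleton_iff.2 rfl)) (fun a ha n hn => ?_) (mem_zpowers t)
    · rw [Nat.card_zpowers, orderOf_eq_prime (by rw [sq, t2]) t1, pow_one]
    · obtain ⟨i, rfl⟩ := hn
      rw [((show Commute a t from mem_centralizer_singleton_iff.1 ha).zpow_right i).eq,
        mul_inv_cancel_right]
      exact ⟨i, rfl⟩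
  · obtain ⟨k, h1⟩ := syl.isPGroup ⟨r, hr.1⟩
    exact congrArg Subtype.val (two_uniq hk hodd (a := ⟨r, ha⟩) (b := 1) (k := k) (k' := 0)
      (Subtype.ext (congrArg Subtype.val h1 :)) (by simp) (by
        rw [map_one, ← MonoidHom.mem_ker, hk, mem_center_iff]
        exact fun x => Subtype.ext (hr.2 x x.2)))
  · obtain ⟨n, h1⟩ := syl.isPGroup ⟨_, h⟩
    have h2 : a ^ 2 ^ n * k ^ 2 ^ n = 1 :=
      ((show Commute a k from (hk' a ha).symm).mul_pow _).symm.trans (congrArg Subtype.val h1 :)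
    have h3 : π ⟨a, ha⟩ ^ 2 ^ n = 1 := by
      rw [← map_pow, ← MonoidHom.mem_ker, hk, mem_center_iff]
      refine fun x => Subtype.ext ?_
      change (x : G) * a ^ 2 ^ n = a ^ 2 ^ n * x
      rw [eq_inv_of_mul_eq_one_left h2]
      exact (((show Commute k x from hk' x x.2).pow_left _).inv_left).symm
    have h4 : π ⟨a, ha⟩ ∈ normalizer (m.U.range : Set M) := mem_normalizer_fintype (by
      rintro _ ⟨u, rfl⟩
      obtain ⟨v, hv⟩ := hT (⟨a, ha⟩ * j u * ⟨a, ha⟩⁻¹) (by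
        have := mul_mem (mul_mem h (jT u)) (inv_mem h)
        rwa [mul_assoc a k, hk' _ (j u).2, mul_inv_rev, ← mul_assoc, ← mul_assoc,
          mul_inv_cancel_right] at this)
      exact ⟨v, ((cA _ _ _).1 (congrArg Subtype.val hv)).symm⟩)
    obtain ⟨u, hu⟩ := (m.syl.eq_of_le (IsPGroup.to_sup_of_normal_left' m.syl.isPGroup
      (STD.isPGroup_zpowers h3) (zpowers_le.2 h4)) le_sup_left le_top).le (mem_sup_right (mem_zpowers _))
    obtain ⟨z, hz, e⟩ := zc _ _ (hu.symm.trans (jU u).symm)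
    refine ⟨a * k * (j u : G)⁻¹, ⟨T.mul_mem h (T.inv_mem (jT u)), fun x hx => ?_⟩, u, by simp⟩
    rw [show a = _ from e, hz _ (j u).2, mul_assoc (z : G), ← hk' _ (j u).2, ← mul_assoc (z : G),
      mul_inv_cancel_right, ← mul_assoc, hz x hx, mul_assoc, mul_assoc, hk' x hx]
  · obtain ⟨α, β, -, -, h3⟩ := ab hy
    obtain ⟨w, l, φ, h0, h⟩ := m.act β fun u => (h u).imp fun v h => (h3 _ _).1 h
    exact ⟨w, l, φ, h0, fun u => (h3 _ _).2 (h u)⟩
  · obtain ⟨α, β, h1, h2, h3⟩ := ab hy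
    obtain ⟨w, h⟩ := m.ker β fun u => (h u).imp fun v h => ⟨(h3 _ _).1 h.1, h.2⟩
    refine ⟨w, (j w : G)⁻¹ * y, fun x hx => ?_, by simp⟩
    have := congrArg Subtype.val (fix_comm hk (((MulAut.conj (j w)⁻¹).toMonoidHom).comp α.toMonoidHom)
      (S := ⊤) (fun a _ => by simp [← h2, h, jU, mul_assoc]) ⟨x, hx⟩
      (hA.commutator_eq_top.ge (mem_top _)))
    simp only [MonoidHom.comp_apply, MulEquiv.coe_toMonoidHom, MulAut.conj_apply, coe_mul, coe_inv,
      h1] at this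
    exact mul_inv_eq_iff_eq_mul.1 (Eq.trans (by group) this)
  · obtain ⟨α, β, -, -, h3⟩ := ab hy
    exact (m.ti β u v hu ((h3 _ _).1 h) u').imp fun v' h => (h3 _ _).2 h
  · rintro _ ⟨a, ha, rfl⟩ _ ⟨b, hb, rfl⟩
    have := m.Hc
    exact congrArg (fun x : m.H.comap π => ((x : A) : G)) (((π.subgroupComap m.H
      ).isMulCommutative_of_isCyclic_of_ker_le_center (ker_comap hk _)).1.1 ⟨a, ha⟩ ⟨b, hb⟩)
  · rw [card_map_of_injective (subtype_injective _), ← (π.subgroupComap m.H).ker.card_mul_index,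
      index_ker, MonoidHom.range_eq_top.2 (π.subgroupComap_surjective_of_surjective _ hπ), card_top]
    exact (odd_ker hk hodd _).mul m.Hodd
  · rintro _ ⟨a, ha, rfl⟩
    exact (m.Hact _ ha).imp fun l hl => ⟨hl.1, fun u => (cA _ _ _).2 (hl.2 u)⟩
  · obtain ⟨h, hh, h1⟩ := m.Hex k hk
    obtain ⟨a, rfl⟩ := hπ h
    exact ⟨a, ⟨a, hh, rfl⟩, fun u => (cA _ _ _).2 (h1 u)⟩
  · refine bot_ne_top (Eq.trans ?_ (H8.sl2e_perfect h4))
    rw [eq_comm, _root_.commutator_def, commutator_eq_bot_iff_le_centralizer]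
    exact fun x _ y _ => eL.symm.injective (by rw [map_mul, map_mul, h.1.1])
  · refine ⟨⟨_, m.ZL b⟩, congrArg Subtype.val (two_uniq hk hodd (k := 1) (k' := 1) ?_ ?_ (by rw [s1, jU]))⟩
    · rw [← map_pow, ← map_one s]; congr 1; ext
      simp [sq, ← map_mul, ← zz_add, k0_add_self, zz_zero]
    · simp [sq, ← map_mul, ← zz_add, k0_add_self, zz_zero]
  · obtain ⟨h, hh, hL, h1⟩ := m.HL l hl
    exact ⟨s ⟨h, hL⟩, ⟨_, by simpa [s1] using hh, rfl⟩, ⟨_, rfl⟩,
      fun u => (cA _ _ _).2 (by simpa only [s1] using h1 u)⟩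
  · rintro _ ⟨a, ha, rfl⟩ h _ ⟨x, rfl⟩
    have := m.H1L _ ha fun b => mul_inv_eq_iff_eq_mul.1 ((cA _ _ _).1 (mul_inv_eq_iff_eq_mul.2 (h b)))
    exact mul_inv_eq_iff_eq_mul.1 (congrArg Subtype.val (s2 (MulAut.conj a).toMonoidHom
      (fun x => by simp [s1, this _ x.2]) x))
  · obtain ⟨α, β, h1, h2, h3⟩ := ab (Tt y hy)
    obtain ⟨b, hb⟩ := m.fL β 1 (by simp) fun u => (h3 _ _).1 (h u)
    refine ⟨b, ?_⟩
    rintro _ ⟨x, rfl⟩
    have := congrArg Subtype.val (s2 (α.toMonoidHom.comp (MulAut.conj (j (zz b))).toMonoidHom)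
      (fun x => by simpa [← h2, s1, jU] using hb x x.2) x)
    simp only [MonoidHom.comp_apply, MulEquiv.coe_toMonoidHom, MulAut.conj_apply, coe_mul, coe_inv,
      h1] at this
    rw [← mul_inv_eq_iff_eq_mul]
    exact Eq.trans (by simp [mul_assoc]) this
  · obtain ⟨α, β, e1, e2, h3⟩ := ab (Tt y hy)
    have := m.Lmax β 1 (by simp) (fun u => (h3 _ _).1 (h u))
      (fun x hx => by
        rw [show x = π (s ⟨x, hx⟩) from (s1 ⟨x, hx⟩).symm, e2, Subtype.ext ((e1 _).trans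
          (mul_inv_eq_iff_eq_mul.2 (h1 _ ⟨_, rfl⟩)))]) (π ⟨a, ha⟩)
      (by rw [e2, show α ⟨a, ha⟩ = ⟨a, ha⟩ from
        Subtype.ext ((e1 ⟨a, ha⟩).trans (mul_inv_eq_iff_eq_mul.2 h2))])
    obtain ⟨z, hz, e⟩ := zc _ _ (s1 ⟨_, this⟩).symm
    refine ⟨_, ⟨⟨_, this⟩, rfl⟩, fun a' ha' => ?_⟩
    refine (congrArg (fun x => x * a' * x⁻¹) e).trans ?_
    beta_reduce
    rw [mul_assoc _ (z : G), ← hz a' ha']
    simp [mul_assoc]

end

theorem PFr.exists_ctx0 {M : Type*} [Group M] [Finite M] (m : PFr M F q) (hq : 4 ≤ q) {t : G}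
    (t1 : t ≠ 1) (t2 : t * t = 1) {A : Subgroup G} (hA : Group.IsPerfect A) (π : A →* M)
    (hπ : Function.Surjective π) (hk : π.ker = center A) (hodd : Odd (Nat.card (center A)))
    (tA : ∀ a ∈ A, t * a = a * t) (An : ∀ y, y * t = t * y → ∀ a ∈ A, y * a * y⁻¹ ∈ A)
    (hc : ∀ R : Subgroup G, IsPGroup 2 R → R ≤ centralizer (A : Set G) ⊓ centralizer {t} →
      ∀ r ∈ R, ∀ s ∈ R, r * s = s * r) :
    ∃ c : Ctx0 G F q, c.t = t ∧ c.A = A ∧ c.R = c.T ⊓ centralizer (A : Set G) := by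
  obtain ⟨T, syl⟩ := exists_sylIn (p := 2) (centralizer ({t} : Set G))
  have Tt : ∀ y ∈ T, y * t = t * y := fun y hy => mem_centralizer_singleton_iff.1 (syl.le hy)
  have p2 : ∀ a : A, (a : G) ∈ T → ∃ k, a ^ 2 ^ k = 1 := fun a ha =>
    (syl.isPGroup ⟨a, ha⟩).elim fun k h => ⟨k, Subtype.ext (congrArg Subtype.val h :)⟩
  have h1 := syl.inf_normal (N := A) fun y hy => An y (mem_centralizer_singleton_iff.1 hy)
  rw [show centralizer {t} ⊓ A = A from inf_eq_right.2 fun a ha =>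
    mem_centralizer_singleton_iff.2 (tA a ha).symm] at h1
  have h2 := (H91.sylIn_top h1.sylow).map π
  rw [← MonoidHom.range_eq_map, MonoidHom.range_eq_top.2 hπ] at h2
  obtain ⟨g, -, hg⟩ := h2.exists_conj_mem m.syl.isPGroup le_top
  have h3 : ((h1.sylow : Subgroup A).map π) = (m.cj g).U.range :=
    (m.cj g).syl.eq_of_le h2.isPGroup (by rintro _ ⟨u, rfl⟩; exact hg _ ⟨u, rfl⟩) le_top
  generalize m.cj g = m at h3
  choose j0 jT jU using fun u => h3.ge (⟨u, rfl⟩ : m.U u ∈ m.U.range)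
  replace jT : ∀ u, (j0 u : G) ∈ T := fun u => (jT u).1
  have uq : ∀ a b : A, (a : G) ∈ T → (b : G) ∈ T → π a = π b → a = b := fun a b ha hb h =>
    (p2 a ha).elim fun _ e1 => (p2 b hb).elim fun _ e2 => two_uniq hk hodd e1 e2 h
  let j : UM F q →* A := .mk' j0 fun u v => uq _ _ (jT _) (mul_mem (jT u) (jT v)) (by simp [jU])
  have hT : ∀ a : A, (a : G) ∈ T → ∃ u, a = j u := fun a ha =>
    (h3.le ⟨a, ⟨ha, a.2⟩, rfl⟩).imp fun u hu => uq _ _ ha (jT u) (hu.symm.trans (jU u).symm)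
  have ac : ∀ y : T, ∃ w l φ, l ≠ 0 ∧ ∀ u, (y : G) * j u * (y : G)⁻¹ = j (w * sl l φ u * w⁻¹) := by
    intro y
    obtain ⟨α, β, e1, -, e3⟩ := exists_ab hπ hk hodd An syl.isPGroup (Tt y y.2)
    obtain ⟨w, l, φ, h0, h⟩ := m.act β fun u => (hT (α (j u)) (by
      rw [e1]; exact mul_mem (mul_mem y.2 (jT u)) (inv_mem y.2))).imp fun v hv => by
        rw [← jU, ← jU]; exact (e3 _ _ (jT u) (jT v)).1 ((e1 _).symm.trans (congrArg _ hv))
    exact ⟨w, l, φ, h0, fun u => (e3 _ _ (jT u) (jT _)).2 (by rw [jU, jU]; exact h u)⟩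
  choose w l φ l0 ac using ac
  have ji : ∀ u v, (j u : G) = j v → u.x = v.x := fun u v h =>
    congrArg UM.x (m.Uinj (by rw [← jU, ← jU]; exact congrArg π (Subtype.ext h)))
  let _ : MulAction T F :=
    { smul := fun y x => l y * φ y x
      one_smul := fun x => by
        obtain ⟨u, rfl⟩ := exists_um (q := q) x
        have := ac 1 u
        rw [coe_one, one_mul, inv_one, mul_one] at this
        exact (conj_x _ _).symm.trans (ji _ _ this).symm
      mul_smul := fun y y' x => by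
        obtain ⟨u, rfl⟩ := exists_um (q := q) x
        have := ac (y * y') u
        rw [show ((y * y' : T) : G) * j u * ((y * y' : T) : G)⁻¹ = y * (y' * j u * (y' : G)⁻¹) *
          (y : G)⁻¹ by simp [mul_assoc], ac, ac] at this
        have := (ji _ _ this).symm
        simp only [conj_x, sl_x] at this
        exact this }
  obtain ⟨x, hx, hx0⟩ := syl.isPGroup.exists_fixed_point_of_prime_dvd_card_of_fixed_point F
    (a := 0) (by
      rw [Nat.card_eq_fintype_card]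
      exact Nat.dvd_of_mod_eq_zero (FiniteField.even_card_of_char_two (ringChar.eq F 2)))
    fun y => show l y * φ y 0 = 0 by simp
  refine (m.scale hx0.symm).core hπ hk hodd An hq t1 t2 hA tA syl
    (hc _ syl.isPGroup.to_inf_left (le_inf inf_le_right (inf_le_left.trans syl.le)))
    (j.comp (slE hx0.symm).toMonoidHom) (fun u => jU _) (fun u => jT _) (fun a ha => ?_) fun y hy => ?_
  · obtain ⟨u, rfl⟩ := hT a ha
    obtain ⟨u, rfl⟩ := (slE hx0.symm).surjective u
    exact ⟨u, rfl⟩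
  · obtain ⟨w', hw⟩ := (slE hx0.symm).surjective (w ⟨y, hy⟩)
    refine ⟨w', φ ⟨y, hy⟩, fun u => (ac ⟨y, hy⟩ _).trans ?_⟩
    have : l ⟨y, hy⟩ * φ ⟨y, hy⟩ x / x = 1 := (div_eq_one_iff_eq hx0.symm).2 (hx ⟨y, hy⟩)
    simp [← hw, ← this, slE_sl]

end Cfsg.Agent.GMS
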