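import Cfsg.Agent.GMS.ModP
import Cfsg.Agent.GMS.ModG
import Cfsg.Agent.S2089
import Cfsg.Agent.GMS.Base
import Cfsg.Agent.H81.Central

set_option autoImplicit false
set_option linter.unusedSectionVars false

namespace Cfsg.Agent.GMS

open Subgroup H10 H91
open H42 hiding SylIn

variable {G : Type*} [Group G] [Finite G] {F : Type*} [Field F] [Fintype F] [CharP F 2] {q : ℕ}
  [hF : Fact (Fintype.card F = q ^ 2)]

theorem ce_ker {A M : Type*} [Group A] [Group M] (e : A ⧸ center A ≃* M) :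
    (e.toMonoidHom.comp (QuotientGroup.mk' (center A))).ker = center A := by
  ext x; simp [MonoidHom.mem_ker]

theorem ce_surj {A M : Type*} [Group A] [Group M] (e : A ⧸ center A ≃* M) :
    Function.Surjective (e.toMonoidHom.comp (QuotientGroup.mk' (center A))) :=
  e.surjective.comp (QuotientGroup.mk'_surjective _)

theorem odd_center {A : Type*} [Group A] [Finite A] (hq : 4 ≤ q) (hA : IsQuasisimple A)
    (h : Nonempty (A ⧸ center A ≃* PSU 3 F q)) : Odd (Nat.card (center A)) := by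
  obtain ⟨e⟩ := h
  obtain ⟨π, hπ⟩ := H81.mult_surj (S2089.result 3 q hF.out le_rfl (by omega) (by simp)) _
    ⟨ce_surj e, (ce_ker e).le, by rw [Group.isPerfect_def.mp hA.1]; exact le_top⟩
  have := card_dvd_of_surjective π hπ
  rw [ce_ker, Nat.card_congr Multiplicative.toAdd, Nat.card_zmod] at this
  exact Odd.of_dvd_nat (by decide : Odd 3) (this.trans (Nat.gcd_dvd_left _ _))

theorem exists_ctx0 (hq : 4 ≤ q) {t : G} (ht : orderOf t = 2) {A : Subgroup G}
    (hA : IsQuasisimple A) (h : Nonempty (A ⧸ center A ≃* PSU 3 F q))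
    (tA : ∀ a ∈ A, t * a = a * t) (An : ∀ y, y * t = t * y → ∀ a ∈ A, y * a * y⁻¹ ∈ A)
    (hc : ∀ R : Subgroup G, IsPGroup 2 R → R ≤ centralizer (A : Set G) ⊓ centralizer {t} →
      ∀ r ∈ R, ∀ s ∈ R, r * s = s * r) :
    ∃ c : Ctx0 G F q, c.t = t ∧ c.A = A ∧ c.R = c.T ⊓ centralizer (A : Set G) := by
  obtain ⟨m⟩ := exists_pfr (F := F) hq
  have hodd := odd_center hq hA h
  obtain ⟨e⟩ := h
  exact m.exists_ctx0 hq (fun e => by simp [e] at ht) (by rw [← sq, ← ht, pow_orderOf_eq_one]) hA.1 _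
    (ce_surj e) (ce_ker e) hodd tA An hc

/-- the context of S3151 and S3314 -/
theorem exists_ctxE (hq : 4 ≤ q) {t : G} (ht : orderOf t = 2) {E U U₀ : Subgroup G}
    (hEU : IsInternalDirectProduct E U (centralizer ({t} : Set G)))
    (hE : IsElementaryAbelian 2 E) (hE1 : E ≠ ⊥) (hU₀ : U₀ ≤ U) (hU₀n : (U₀.subgroupOf U).Normal)
    (hA : IsQuasisimple U₀) (hUX : Nonempty (U₀ ⧸ center U₀ ≃* PSU 3 F q))
    (hCU : U ⊓ centralizer (U₀ : Set G) = (center U₀).map U₀.subtype)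
    (hC : ∀ e ∈ E, orderOf e = 2 → centralizer ({e} : Set G) = centralizer ({t} : Set G)) :
    ∃ c : Ctx G F q, c.t = t ∧ c.A = U₀ ∧ c.R = E ∧ c.O = (center U₀).map U₀.subtype := by
  have _ := hE1
  obtain ⟨hEC, hUC, hcm, -, hsup⟩ := hEU
  have dec : ∀ y, y * t = t * y → ∃ e ∈ E, ∃ u ∈ U, y = e * u := fun y hy =>
    (base_mem_sup hcm).mp (hsup ▸ mem_centralizer_singleton_iff.mpr hy)
  have EE : ∀ e ∈ E, ∀ e' ∈ E, e * e' = e' * e := fun e he e' he' =>
    congrArg Subtype.val (hE.1.1.1 ⟨e, he⟩ ⟨e', he'⟩)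
  have E2 : ∀ e ∈ E, e * e = 1 := fun e he => by rw [← sq, hE.2 e he]
  have EA : E ≤ centralizer (U₀ : Set G) := fun e he a ha => (hcm e he a (hU₀ ha)).symm
  have ZU : (center U₀).map U₀.subtype ≤ U₀ := map_subtype_le _
  have ZC : (center U₀).map U₀.subtype ≤ centralizer (U₀ : Set G) := hCU.ge.trans inf_le_right
  have hK : ∀ k ∈ centralizer (U₀ : Set G), k * t = t * k →
      ∃ e ∈ E, ∃ o ∈ (center U₀).map U₀.subtype, k = e * o := fun k hk hk' => by
    obtain ⟨e, he, u, hu, rfl⟩ := dec k hk'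
    exact ⟨e, he, u, hCU.le ⟨hu, by simpa using mul_mem (inv_mem (EA he)) hk⟩, rfl⟩
  have hodd : Odd (Nat.card ((center U₀).map U₀.subtype)) := by
    rw [card_map_of_injective U₀.subtype_injective]; exact odd_center hq hA hUX
  obtain ⟨c, h1, h2, h3⟩ := exists_ctx0 hq ht hA hUX
    (fun a ha => (mem_centralizer_singleton_iff.mp (hUC (hU₀ ha))).symm) (fun y hy a ha => by
      obtain ⟨e, he, u, hu, rfl⟩ := dec y hy
      have h1 : u * a * u⁻¹ ∈ U₀ := hU₀n.conj_mem ⟨a, hU₀ ha⟩ ha ⟨u, hu⟩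
      rw [show e * u * a * (e * u)⁻¹ = e * (u * a * u⁻¹) * e⁻¹ by group, hcm e he _ (hU₀ h1),
        mul_inv_cancel_right]
      exact h1) fun R _ hR r hr s hs => by
      obtain ⟨e, he, o, ho, rfl⟩ := hK r (hR hr).1 (mem_centralizer_singleton_iff.mp (hR hr).2)
      obtain ⟨e', he', o', ho', rfl⟩ := hK s (hR hs).1 (mem_centralizer_singleton_iff.mp (hR hs).2)
      exact (Commute.mul_left (Commute.mul_right (EE e he e' he') (hcm e he o' (hU₀ (ZU ho'))))
        (Commute.mul_right (hcm e' he' o (hU₀ (ZU ho))).symm (ZC ho' o (ZU ho)))).eq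
  subst h1 h2
  have ET : E ≤ c.T := c.syl.le_of_normal (fun g => ⟨1, Subtype.ext (hE.2 g g.2)⟩) hEC fun y hy n hn => by
    obtain ⟨e, he, u, hu, rfl⟩ := dec y (mem_centralizer_singleton_iff.mp hy)
    rwa [mul_assoc e, ← hcm n hn u hu, ← mul_assoc, EE e he n hn, mul_assoc n, mul_inv_cancel_right]
  have hR : c.R = E := by
    refine le_antisymm (fun r hr => ?_) (h3 ▸ le_inf ET EA)
    obtain ⟨e, he, o, ho, rfl⟩ := hK r (h3.le hr).2 (c.Tt (c.RT hr))
    obtain ⟨k, hk⟩ := c.syl.isPGroup ⟨o, by simpa using mul_mem (inv_mem (ET he)) (c.RT hr)⟩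
    have : o = 1 := orderOf_eq_one_iff.mp (Nat.eq_one_of_dvd_coprimes
      ((Nat.coprime_two_left.mpr hodd).pow_left k) (orderOf_dvd_of_pow_eq_one (congrArg Subtype.val hk))
      (orderOf_dvd_natCard _ ho))
    rwa [this, mul_one]
  refine ⟨⟨c, _, hR ▸ E2, fun r hr r1 y => ?_, hodd, fun o ho a ha => (ZC ho a ha).symm,
    fun o ho => mem_centralizer_singleton_iff.mp (hUC (hU₀ (ZU ho))),
    fun k hk hk' => hR ▸ hK k (fun a ha => (hk a ha).symm) hk'⟩, rfl, rfl, hR, rfl⟩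
  rw [← mem_centralizer_singleton_iff, ← mem_centralizer_singleton_iff,
    hC r (hR ▸ hr) (orderOf_eq_prime (hE.2 r (hR ▸ hr)) r1)]

/-- the context of S1771 once `R = ⟨t⟩` -/
theorem Ctx0.exists_ctx (c : Ctx0 G F q) (hR : ∀ r ∈ c.R, r = 1 ∨ r = c.t)
    (h : c.R = c.T ⊓ centralizer (c.A : Set G)) : ∃ c' : Ctx G F q, c'.toCtx0 = c := by
  have hs := c.syl.inf_normal (N := centralizer (c.A : Set G)) fun y hy k hk a ha => by
    have := hk _ (c.An y⁻¹ (mem_centralizer_singleton_iff.mp (inv_mem hy)) a ha)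
    calc _ = y * (y⁻¹ * a * y⁻¹⁻¹ * k) * y⁻¹ := by group
      _ = _ := by rw [this]; group
  rw [← h] at hs
  generalize hK : centralizer {c.t} ⊓ centralizer (c.A : Set G) = K at hs
  have hN : (c.R.subgroupOf K).Normal := ⟨fun n hn g => by
    rw [mem_subgroupOf] at hn ⊢
    rcases hR n hn with e | e
    · simp [e]
    · rw [coe_mul, coe_mul, e, mem_centralizer_singleton_iff.mp (hK.ge g.2).1, coe_inv, mul_inv_cancel_right]
      exact c.tR⟩
  obtain ⟨O, hO⟩ := exists_right_complement'_of_coprime (N := c.R.subgroupOf K) hs.sylow.card_coprime_index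
  refine ⟨⟨c, O.map K.subtype, fun r hr => ?_, fun r hr r1 y => by rw [(hR r hr).resolve_left r1], ?_,
    fun o ho a ha => ((hK.ge (map_subtype_le _ ho)).2 a ha).symm,
    fun o ho => mem_centralizer_singleton_iff.mp (hK.ge (map_subtype_le _ ho)).1, fun k hk hk' => ?_⟩, rfl⟩
  · rcases hR r hr with rfl | rfl
    exacts [mul_one 1, c.t2]
  · rw [card_map_of_injective K.subtype_injective, ← hO.symm.index_eq_card, ← Nat.not_even_iff_odd,
      even_iff_two_dvd]
    exact hs.not_dvd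
  · obtain ⟨⟨r, o⟩, e⟩ := hO.2 ⟨k, hK.le ⟨mem_centralizer_singleton_iff.mpr hk', fun a ha => (hk a ha).symm⟩⟩
    exact ⟨r.1, r.2, o.1, mem_map_of_mem _ o.2, (congrArg Subtype.val e).symm⟩

end Cfsg.Agent.GMS
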