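import Cfsg.Agent.GMS.Defs

/-! Project GMS (notes/GMS.md): the model frame of `U₃(q)`, the second frame, the product frame,
and the outcome of type `L₃(q²)`. -/

set_option autoImplicit false

namespace Cfsg.Agent.GMS

open Subgroup H10 H91
open H42 hiding SylIn

/-- What is used about `M = PSU₃(q)` and its automorphisms. -/
structure PFr (M : Type*) [Group M] (F : Type*) [Field F] [Fintype F] [CharP F 2] (q : ℕ)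
    [Fact (Fintype.card F = q ^ 2)] where
  U : UM F q →* M
  H : Subgroup M
  L : Subgroup M
  Uinj : Function.Injective U
  syl : SylIn 2 U.range ⊤
  act : ∀ β : MulAut M, (∀ u, ∃ v, β (U u) = U v) →
    ∃ w l φ, l ≠ 0 ∧ ∀ u, β (U u) = U (w * sl l φ u * w⁻¹)
  ker : ∀ β : MulAut M, (∀ u, ∃ v, β (U u) = U v ∧ v.x = u.x) →
    ∃ w, ∀ m, β m = U w * m * (U w)⁻¹
  ti : ∀ β : MulAut M, ∀ u v, u ≠ 1 → β (U u) = U v → ∀ u', ∃ v', β (U u') = U v'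
  Hc : IsCyclic H
  Hodd : Odd (Nat.card H)
  Hact : ∀ h ∈ H, ∃ l, l ≠ 0 ∧ ∀ u, h * U u * h⁻¹ = U (sl l (RingEquiv.refl F) u)
  Hex : ∀ k : F, k ≠ 0 → ∃ h ∈ H,
    ∀ u, h * U u * h⁻¹ = U (sl (k * k / cj F q k) (RingEquiv.refl F) u)
  Le : Nonempty (L ≃* Matrix.SpecialLinearGroup (Fin 2) (K0 F q))
  ZL : ∀ b, U (zz b) ∈ L
  HL : ∀ l : K0 F q, l ≠ 0 → ∃ h ∈ H, h ∈ L ∧
    ∀ u, h * U u * h⁻¹ = U (sl (l : F) (RingEquiv.refl F) u)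
  H1L : ∀ h ∈ H, (∀ b, h * U (zz b) = U (zz b) * h) → ∀ x ∈ L, h * x = x * h
  fL : ∀ (β : MulAut M) (l : F), cj F q l * l = 1 → (∀ u, β (U u) = U (sl l (sg F q) u)) →
    ∃ b, ∀ x ∈ L, β (U (zz b) * x * (U (zz b))⁻¹) = x
  Lmax : ∀ (β : MulAut M) (l : F), cj F q l * l = 1 → (∀ u, β (U u) = U (sl l (sg F q) u)) →
    (∀ x ∈ L, β x = x) → ∀ m, β m = m → m ∈ L

variable {G : Type*} [Group G] {F : Type*} [Field F] [Fintype F] [CharP F 2] {q : ℕ}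
  [hF : Fact (Fintype.card F = q ^ 2)]

/-- outcome: `Y = A₁ B₁` is a Sylow 2-subgroup of a normal subgroup, `Y T` one of `G` -/
def Ctx0.SAB (c : Ctx0 G F q) : Prop := ∃ Y A₁ B₁ N : Subgroup G,
  (∀ r ∈ c.R, r = 1 ∨ r = c.t) ∧ SylIn 2 (Y ⊔ c.T) ⊤ ∧ c.T ≤ normalizer (Y : Set G) ∧
  Y ⊓ c.T = c.Q ∧ (∀ s ∈ Y ⊔ c.T, IsConj c.t s → c.t * s ∈ Y) ∧ N.Normal ∧ SylIn 2 Y N ∧
  Nat.card A₁ = q ^ 4 ∧ Nat.card B₁ = q ^ 4 ∧ Nat.card Y = q ^ 6 ∧ A₁ ≤ Y ∧ B₁ ≤ Y ∧ A₁ ≠ B₁ ∧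
  IsElementaryAbelian 2 A₁ ∧ IsElementaryAbelian 2 B₁ ∧
  (∀ y ∈ Y, y * y = 1 → y ∈ A₁ ∨ y ∈ B₁) ∧ (∀ y ∈ Y, ∃ x ∈ A₁, ∃ x' ∈ B₁, y = x * x') ∧
  c.Z ≤ A₁ ∧ c.Z ≤ B₁

/-- The raw second step: `Y = C(W)` in `O₂` of the translation group of `t P₀ / W`. -/
structure Raw2 {c : Ctx G F q} (f : Fr1 c) where
  Y : Subgroup G
  d : G → F
  pg : IsPGroup 2 Y
  d_mul : ∀ y ∈ Y, ∀ y' ∈ Y, d (y * y') = d y + d y'
  surj : ∀ x, ∃ y ∈ Y, d y = x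
  ker : ∀ y, (y ∈ Y ∧ d y = 0) ↔ y ∈ f.P ∧ f.e y = 0
  cen : ∀ y ∈ Y, ∀ w ∈ f.W, y * w = w * y
  triv : ∀ y ∈ Y, ∀ p ∈ f.P, y * p * y⁻¹ ∈ f.P ∧ f.e (y * p * y⁻¹) = f.e p ∧
    (f.e p = 0 → f.a (y * p * y⁻¹) = f.a p)
  dt : ∀ y ∈ Y, f.a (y * c.t * y⁻¹) = d y
  act : ∀ g, g * c.t = c.t * g → ∀ w l φ, (∀ u, g * c.U u * g⁻¹ = c.U (w * sl l φ u * w⁻¹)) →
    ∀ y ∈ Y, g * y * g⁻¹ ∈ Y ∧ d (g * y * g⁻¹) = l * φ (d y)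

/-- The second frame: `Y/W = F × F` with coordinates `d, a`; `W = K₀ × K₀` with coordinates
`b, k`. -/
structure Fr2 (c : Ctx G F q) where
  Y : Subgroup G
  d : G → F
  a : G → F
  b : G → K0 F q
  k : G → K0 F q
  dl : K0 F q
  R2 : ∀ r ∈ c.R, r = 1 ∨ r = c.t
  pg : IsPGroup 2 Y
  d_mul : ∀ y ∈ Y, ∀ y' ∈ Y, d (y * y') = d y + d y'
  a_mul : ∀ y ∈ Y, ∀ y' ∈ Y, a (y * y') = a y + a y'
  b_mul : ∀ y ∈ Y, d y = 0 → a y = 0 → ∀ y' ∈ Y, d y' = 0 → a y' = 0 → b (y * y') = b y + b y'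
  k_mul : ∀ y ∈ Y, d y = 0 → a y = 0 → ∀ y' ∈ Y, d y' = 0 → a y' = 0 → k (y * y') = k y + k y'
  ker : ∀ y ∈ Y, d y = 0 → a y = 0 → b y = 0 → k y = 0 → y = 1
  surj : ∀ x x', ∃ y ∈ Y, d y = x ∧ a y = x'
  surjW : ∀ m m', ∃ w ∈ Y, d w = 0 ∧ a w = 0 ∧ b w = m ∧ k w = m'
  mU : ∀ u, c.U u ∈ Y ∧ d (c.U u) = 0 ∧ a (c.U u) = u.x
  mZ : ∀ m, b (c.z m) = 0 ∧ k (c.z m) = m
  cen : ∀ w ∈ Y, d w = 0 → a w = 0 → ∀ y ∈ Y, w * y = y * w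
  sq : ∀ y ∈ Y, b (y * y) = nm q (d y) + cm q (d y) (a y) ∧
    k (y * y) = nm q (a y) + dl * nm q (d y)
  ta : ∀ y ∈ Y, a (c.t * y * c.t⁻¹) = a y + d y
  tW : ∀ w ∈ Y, d w = 0 → a w = 0 → b (c.t * w * c.t⁻¹) = b w ∧ k (c.t * w * c.t⁻¹) = k w + b w
  act : ∀ g, g * c.t = c.t * g → ∀ w l φ, (∀ u, g * c.U u * g⁻¹ = c.U (w * sl l φ u * w⁻¹)) →
    ∀ y ∈ Y, g * y * g⁻¹ ∈ Y ∧ d (g * y * g⁻¹) = l * φ (d y)
  Hact : ∀ h l, c.Sc h l → ∀ y ∈ Y, a (h * y * h⁻¹) = l * a y ∧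
    (d y = 0 → a y = 0 → b (h * y * h⁻¹) = nm q l * b y ∧ k (h * y * h⁻¹) = nm q l * k y)

namespace Fr2

variable {c : Ctx G F q} (f : Fr2 c)

theorem d_one : f.d 1 = 0 := by simpa using (f.mU 1).2.1
theorem a_one : f.a 1 = 0 := by simpa using (f.mU 1).2.2
theorem d_inv {y : G} (hy : y ∈ f.Y) : f.d y⁻¹ = f.d y := by
  have := f.d_mul _ hy _ (inv_mem hy)
  rw [mul_inv_cancel, d_one, eq_comm, CharTwo.add_eq_zero] at this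
  exact this.symm
theorem a_inv {y : G} (hy : y ∈ f.Y) : f.a y⁻¹ = f.a y := by
  have := f.a_mul _ hy _ (inv_mem hy)
  rw [mul_inv_cancel, a_one, eq_comm, CharTwo.add_eq_zero] at this
  exact this.symm

/-- the preimage of the line `a = x d` -/
def Ln (x : F) : Subgroup G where
  carrier := {y | y ∈ f.Y ∧ f.a y = x * f.d y}
  one_mem' := ⟨one_mem _, by rw [a_one, d_one, mul_zero]⟩
  mul_mem' hx hy := ⟨mul_mem hx.1 hy.1, by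
    rw [f.a_mul _ hx.1 _ hy.1, f.d_mul _ hx.1 _ hy.1, hx.2, hy.2, mul_add]⟩
  inv_mem' hx := ⟨inv_mem hx.1, by rw [f.a_inv hx.1, f.d_inv hx.1, hx.2]⟩

/-- `W` -/
def W : Subgroup G where
  carrier := {y | y ∈ f.Y ∧ f.d y = 0 ∧ f.a y = 0}
  one_mem' := ⟨one_mem _, f.d_one, f.a_one⟩
  mul_mem' hx hy := ⟨mul_mem hx.1 hy.1, by rw [f.d_mul _ hx.1 _ hy.1, hx.2.1, hy.2.1, add_zero],
    by rw [f.a_mul _ hx.1 _ hy.1, hx.2.2, hy.2.2, add_zero]⟩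
  inv_mem' hx := ⟨inv_mem hx.1, by rw [f.d_inv hx.1, hx.2.1], by rw [f.a_inv hx.1, hx.2.2]⟩

end Fr2

/-- The product frame: `Y` is like `Q × Q`, and a Sylow 2-subgroup `S` of `N(Y)` acts faithfully
on `Y/W` modulo `Y`. -/
structure PQ (G : Type*) [Group G] (F : Type*) [Field F] [Fintype F] [CharP F 2] (q : ℕ)
    [Fact (Fintype.card F = q ^ 2)] where
  Y : Subgroup G
  S : Subgroup G
  x : Bool → G → F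
  k : Bool → G → K0 F q
  q4 : 4 ≤ q
  x_mul : ∀ i, ∀ y ∈ Y, ∀ y' ∈ Y, x i (y * y') = x i y + x i y'
  k_mul : ∀ i, ∀ y ∈ Y, (∀ j, x j y = 0) → ∀ y' ∈ Y, (∀ j, x j y' = 0) →
    k i (y * y') = k i y + k i y'
  ker : ∀ y ∈ Y, (∀ j, x j y = 0) → (∀ j, k j y = 0) → y = 1
  surj : ∀ v : Bool → F, ∃ y ∈ Y, ∀ j, x j y = v j
  surjW : ∀ m : Bool → K0 F q, ∃ w ∈ Y, (∀ j, x j w = 0) ∧ ∀ j, k j w = m j
  cen : ∀ w ∈ Y, (∀ j, x j w = 0) → ∀ y ∈ Y, w * y = y * w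
  sq : ∀ y ∈ Y, ∀ j, k j (y * y) = nm q (x j y)
  YS : Y ≤ S
  syl : SylIn 2 S (normalizer (Y : Set G))
  faith : ∀ g ∈ S, (∀ y ∈ Y, ∀ j, x j (g * y * g⁻¹) = x j y) → g ∈ Y

namespace PQ

variable (p : PQ G F q)

theorem x_one (j : Bool) : p.x j 1 = 0 := by
  have := p.x_mul j _ (one_mem _) _ (one_mem _)
  rwa [mul_one, left_eq_add] at this
theorem x_inv (j : Bool) {y : G} (hy : y ∈ p.Y) : p.x j y⁻¹ = p.x j y := by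
  have := p.x_mul j _ hy _ (inv_mem hy)
  rw [mul_inv_cancel, x_one, eq_comm, CharTwo.add_eq_zero] at this
  exact this.symm

/-- `W` -/
def W : Subgroup G where
  carrier := {y | y ∈ p.Y ∧ ∀ j, p.x j y = 0}
  one_mem' := ⟨one_mem _, p.x_one⟩
  mul_mem' hx hy := ⟨mul_mem hx.1 hy.1, fun j => by
    rw [p.x_mul _ _ hx.1 _ hy.1, hx.2, hy.2, add_zero]⟩
  inv_mem' hx := ⟨inv_mem hx.1, fun j => by rw [p.x_inv _ hx.1, hx.2]⟩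

/-- `g` normalises `Y`, moves the `j`-th factor to the `π j`-th one by `l j * φ j` -/
def Act (g : G) (π : Bool → Bool) (l : Bool → F) (φ : Bool → F ≃+* F) : Prop :=
  (∀ j, l j ≠ 0) ∧ (∀ y ∈ p.Y, ∀ j, p.x (π j) (g * y * g⁻¹) = l j * φ j (p.x j y)) ∧
    ∀ w ∈ p.W, ∀ j, p.k (π j) (g * w * g⁻¹) = nm q (l j) * kf (φ j) (p.k j w)

/-- `g` does not swap the two factors -/
def NS (g : G) : Prop := ∃ l φ, p.Act g id l φ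

end PQ

end Cfsg.Agent.GMS
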