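import Cfsg.Agent.GMS.Defs2
import Cfsg.Agent.H20.U3Syl

/-! Project GMS: elementary identities for `nm`, `cm`, `kf`, `sl`. -/

set_option autoImplicit false
set_option linter.unusedSectionVars false

namespace Cfsg.Agent.GMS

open Subgroup H10 H91
open H42 hiding SylIn

variable {F : Type*} [Field F] [Fintype F] {q : ℕ} [hF : Fact (Fintype.card F = q ^ 2)]

local notation "σ" => H10.cj F q

theorem k0_ext {b d : K0 F q} (h : (b : F) = d) : b = d := Subtype.ext h

theorem nm_eq_zero {a : F} : nm q a = 0 ↔ a = 0 :=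
  ⟨fun h => by simpa using congrArg Subtype.val h, fun h => k0_ext (by simp [h])⟩
@[simp] theorem nm_zero : nm q (0 : F) = 0 := nm_eq_zero.2 rfl
@[simp] theorem nm_one : nm q (1 : F) = 1 := k0_ext (by simp)
theorem nm_add (a b : F) : nm q (a + b) = nm q a + nm q b + cm q a b :=
  k0_ext (by simp; ring)
theorem nm_mul (a b : F) : nm q (a * b) = nm q a * nm q b := k0_ext (by simp; ring)
theorem nm_k0 (b : K0 F q) : nm q (b : F) = b ^ 2 := k0_ext (by simp [cj_k0, sq])
theorem nm_cj (a : F) : nm q (σ a) = nm q a := k0_ext (by simp [H10.cj_cj, mul_comm])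
theorem cm_comm (a b : F) : cm q a b = cm q b a := k0_ext (by simp [add_comm])
theorem cm_add_left (a a' b : F) : cm q (a + a') b = cm q a b + cm q a' b :=
  k0_ext (by simp; ring)
theorem cm_add_right (a b b' : F) : cm q a (b + b') = cm q a b + cm q a b' :=
  k0_ext (by simp; ring)
@[simp] theorem cm_zero_left (b : F) : cm q 0 b = 0 := k0_ext (by simp)
@[simp] theorem cm_zero_right (b : F) : cm q b 0 = 0 := k0_ext (by simp)
theorem cm_smul_left (k : K0 F q) (a b : F) : cm q (k * a) b = k * cm q a b :=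
  k0_ext (by simp [cj_k0]; ring)
theorem cm_smul_right (k : K0 F q) (a b : F) : cm q a (k * b) = k * cm q a b :=
  k0_ext (by simp [cj_k0]; ring)
theorem cm_mul (l a b : F) : cm q (l * a) (l * b) = nm q l * cm q a b := k0_ext (by simp; ring)
theorem cm_mul_left (l a b : F) : cm q (l * a) b = cm q a (σ l * b) :=
  k0_ext (by simp [H10.cj_cj]; ring)
theorem cm_cj (a b : F) : cm q (σ a) (σ b) = cm q a b := k0_ext (by simp [H10.cj_cj]; ring)

theorem kf_add (φ : F ≃+* F) (b d : K0 F q) : kf φ (b + d) = kf φ b + kf φ d := k0_ext (by simp)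
theorem kf_mul (φ : F ≃+* F) (b d : K0 F q) : kf φ (b * d) = kf φ b * kf φ d := k0_ext (by simp)
@[simp] theorem kf_zero (φ : F ≃+* F) : kf φ (0 : K0 F q) = 0 := k0_ext (by simp)
@[simp] theorem kf_one (φ : F ≃+* F) : kf φ (1 : K0 F q) = 1 := k0_ext (by simp)
@[simp] theorem kf_refl (b : K0 F q) : kf (RingEquiv.refl F) b = b := rfl
@[simp] theorem kf_sg (b : K0 F q) : kf (sg F q) b = b := k0_ext (cj_k0 b)
theorem kf_trans (φ ψ : F ≃+* F) (b : K0 F q) : kf (φ.trans ψ) b = kf ψ (kf φ b) := rfl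
@[simp] theorem kf_symm (φ : F ≃+* F) (b : K0 F q) : kf φ (kf φ.symm b) = b := k0_ext (by simp)
theorem kf_inj (φ : F ≃+* F) {b d : K0 F q} : kf φ b = kf φ d ↔ b = d :=
  ⟨fun h => k0_ext (φ.injective (congrArg Subtype.val h)), fun h => h ▸ rfl⟩
theorem kf_eq_zero (φ : F ≃+* F) {b : K0 F q} : kf φ b = 0 ↔ b = 0 := by
  rw [← kf_inj φ (b := b) (d := 0), kf_zero]
theorem kf_nm (φ : F ≃+* F) (a : F) : kf φ (nm q a) = nm q (φ a) := k0_ext (by simp [map_cj (q := q)])
theorem kf_cm (φ : F ≃+* F) (a b : F) : kf φ (cm q a b) = cm q (φ a) (φ b) :=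
  k0_ext (by simp [map_cj (q := q)])

@[simp] theorem sl_refl (u : UM F q) : sl 1 (RingEquiv.refl F) u = u := by ext <;> simp
theorem sl_mul (l : F) (φ : F ≃+* F) (u v : UM F q) : sl l φ (u * v) = sl l φ u * sl l φ v := by
  ext <;> simp [map_cj (q := q)] <;> ring
theorem sl_sl (l m : F) (φ ψ : F ≃+* F) (u : UM F q) :
    sl l φ (sl m ψ u) = sl (l * φ m) (ψ.trans φ) u := by
  ext <;> simp [map_cj (q := q)] <;> ring
theorem exists_um (x : F) : ∃ u : UM F q, u.x = x := H20.umX_surjective x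

theorem card_k0 : Nat.card (K0 F q) = q := card_fixed
theorem tr_surj (m : K0 F q) : ∃ x : F, x + σ x = m := exists_trace_eq (F := F) (q := q) (cj_k0 m)
theorem cm_surj {a : F} (ha : a ≠ 0) (m : K0 F q) : ∃ b, cm q a b = m := by
  obtain ⟨x, hx⟩ := tr_surj m
  have : σ a ≠ 0 := (map_ne_zero _).2 ha
  refine ⟨x / σ a, k0_ext ?_⟩
  rw [coe_cm, map_div₀, H10.cj_cj, ← hx]; field_simp

variable [CharP F 2]

@[simp] theorem cm_self (a : F) : cm q a a = 0 := k0_ext (by simp [CharTwo.add_self_eq_zero])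
theorem cm_k0 (a b : K0 F q) : cm q (a : F) b = 0 :=
  k0_ext (by simp [cj_k0, mul_comm (a : F), CharTwo.add_self_eq_zero])
theorem k0_add_self (b : K0 F q) : b + b = 0 := CharTwo.add_self_eq_zero b
theorem sq_surj (m : K0 F q) : ∃ k : K0 F q, k ^ 2 = m := surjective_frobenius (K0 F q) 2 m
theorem nm_surj (m : K0 F q) : ∃ a : F, nm q a = m :=
  (sq_surj m).elim fun k hk => ⟨k, by rw [nm_k0, hk]⟩
theorem fix_iff {x : F} : σ x = x ↔ ∃ b : K0 F q, x = b :=
  ⟨fun h => ⟨⟨x, h⟩, rfl⟩, fun ⟨b, h⟩ => h ▸ cj_k0 b⟩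
theorem eq_one_of_pow {l : F} {k : ℕ} (h : l ^ 2 ^ k = 1) : l = 1 := by
  have := sub_pow_char_pow (p := 2) (n := k) l 1
  rw [h, one_pow, sub_self] at this
  exact sub_eq_zero.1 (pow_eq_zero_iff (by positivity) |>.1 this)
theorem conj_x (w u : UM F q) : (w * u * w⁻¹).x = u.x := by
  simp [add_comm w.x, add_assoc]
theorem conj_zz (w : UM F q) (b : K0 F q) : w * zz b * w⁻¹ = zz b := by
  rw [← zz_comm, mul_inv_cancel_right]
theorem sl_sg (u : UM F q) : sl 1 (sg F q) u = ⟨σ u.x, σ u.y, by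
    rw [H10.cj_cj, H10.cj_cj, add_comm, u.h, mul_comm]⟩ := by ext <;> simp

end Cfsg.Agent.GMS
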