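import Cfsg.Agent.GMS.FldA

set_option autoImplicit false
set_option linter.unusedSectionVars false

namespace Cfsg.Agent.GMS

open Subgroup H10 H91
open H42 hiding SylIn

variable {G : Type*} [Group G] [Finite G] {F : Type*} [Field F] [Fintype F] [CharP F 2] {q : ℕ}
  [hF : Fact (Fintype.card F = q ^ 2)]

variable (F q) in
include hF in
theorem fb_q : ∃ n, 0 < n ∧ q = 2 ^ n := by
  obtain ⟨p, k, -, h1, h2, h3⟩ := exists_char_pow_of_card_sq hF.out
  exact ⟨k, h2, by rw [h3, CharP.eq F h1 ‹CharP F 2›]⟩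

omit hF in
theorem fb_fr {m : ℕ} [NeZero m] (hm : Fintype.card F = 2 ^ m) (φ : F ≃+* F) :
    ∃ i : ZMod m, ∀ x, φ x = H41.fr i x := by
  obtain ⟨μ, hμ⟩ := H41.exists_prim hm
  obtain ⟨i, hi⟩ := H41.add_eigen hm (f := φ) (map_add φ) (μ := μ) (map_mul φ μ) ⟨1, by simp⟩
  refine ⟨i, fun x => ?_⟩
  by_cases hx : x = 0
  · rw [hx, map_zero, H41.fr_zero']
  · obtain ⟨k, rfl⟩ := H41.exists_eq_pow hm hμ hx
    rw [map_pow, H41.fr_pow, hi]

theorem aut_pow (φ : F ≃+* F) : ∃ i : ℕ, ∀ x, φ x = x ^ 2 ^ i := by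
  obtain ⟨m, -, hm⟩ := FiniteField.card F 2
  obtain ⟨i, hi⟩ := fb_fr hm φ
  exact ⟨i.val, hi⟩

theorem aut_comm (φ ψ : F ≃+* F) (x : F) : φ (ψ x) = ψ (φ x) := by
  obtain ⟨i, hi⟩ := aut_pow φ
  rw [hi, hi, map_pow]

theorem aut_sq {φ : F ≃+* F} (h : ∀ x, φ (φ x) = x) : φ = RingEquiv.refl F ∨ φ = sg F q := by
  obtain ⟨n, hn, hq⟩ := fb_q F q
  have : NeZero n := ⟨hn.ne'⟩
  have hm := card_two_mul (F := F) hq
  obtain ⟨i, hi⟩ := fb_fr hm φ
  obtain ⟨μ, hμ⟩ := H41.exists_prim hm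
  have e : i + i = 0 := H41.fr_prim_inj hμ (by rw [← H41.fr_fr hm, ← hi, ← hi, h, H41.fr_zero])
  rcases (ZMod.neg_eq_self_iff i).mp (neg_eq_of_add_eq_zero_left e) with rfl | e'
  · exact Or.inl (RingEquiv.ext fun x => by rw [hi, H41.fr_zero]; rfl)
  · refine Or.inr (RingEquiv.ext fun x => ?_)
    rw [hi, sg_apply, cj_apply, H41.fr, show i.val = n by omega, hq]

theorem aut_k0 {φ : F ≃+* F} (h : ∀ b : K0 F q, kf φ b = b) :
    φ = RingEquiv.refl F ∨ φ = sg F q := by
  have key : ∀ x, φ x = x ∨ φ x = cj F q x := fun x => by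
    have e1 := congrArg Subtype.val ((kf_nm φ x).symm.trans (h _))
    have e2 := congrArg Subtype.val ((kf_cm φ 1 x).symm.trans (h _))
    simp only [coe_nm, coe_cm, map_one, one_mul, mul_one] at e1 e2
    have : (φ x - x) * (φ x - cj F q x) = 0 := by linear_combination φ x * e2 - e1
    simpa only [mul_eq_zero, sub_eq_zero] using this
  by_contra! hc
  obtain ⟨a, ha⟩ := not_forall.mp fun e => hc.1 (RingEquiv.ext e)
  obtain ⟨b, hb⟩ := not_forall.mp fun e => hc.2 (RingEquiv.ext e)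
  have ha' := (key a).resolve_left ha
  have hb' := (key b).resolve_right hb
  rcases key (a + b) with e | e <;> rw [map_add] at e
  · exact ha (by rw [hb'] at e; exact add_right_cancel e)
  · exact hb (by rw [ha', map_add] at e; exact add_left_cancel e)

/-- a non-trivial 2-group of field automorphisms contains `sg` -/
theorem exists_pow_sg {φ : F ≃+* F} {k : ℕ} (h : φ ^ 2 ^ k = 1) (h1 : φ ≠ 1) :
    ∃ n : ℕ, φ ^ n = sg F q := by
  induction k with
  | zero => exact absurd (by simpa using h) h1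
  | succ k ih =>
    rcases aut_sq (q := q) (φ := φ ^ 2 ^ k) (fun x => by
      rw [← RingAut.mul_apply, ← pow_add, ← two_mul, ← pow_succ', h]; rfl) with e | e
    · exact ih e
    · exact ⟨_, e⟩

theorem exists_k0 (hq : 4 ≤ q) : ∃ k : K0 F q, k ≠ 0 ∧ k ≠ 1 := by
  obtain ⟨t, h1, h2, h3⟩ := exists_fixed_ne F (q := q) (by omega)
  exact ⟨⟨t, h1⟩, fun e => h2 (congrArg Subtype.val e), fun e => h3 (congrArg Subtype.val e)⟩

theorem exists_eta (hq : 4 ≤ q) : ∃ k : F, k ≠ 0 ∧ nm q (k * k / cj F q k) = 1 ∧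
    k * k / cj F q k ≠ 1 := by
  classical
  obtain ⟨k, h1, h2⟩ : ∃ k : F, k * cj F q k = 1 ∧ k ^ 3 ≠ 1 := by
    by_contra! hc
    have h1 := card_norm_eq_one (F := F) (q := q)
    rw [Nat.card_eq_fintype_card, Fintype.card_subtype] at h1
    have h2 := Finset.card_le_card (s := Finset.univ.filter fun x : F => x * cj F q x = 1)
      (t := (Polynomial.nthRoots 3 (1 : F)).toFinset) fun x hx => by
        rw [Multiset.mem_toFinset, Polynomial.mem_nthRoots (by decide)]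
        exact hc x (Finset.mem_filter.mp hx).2
    have := (Multiset.toFinset_card_le _).trans (Polynomial.card_nthRoots 3 (1 : F))
    omega
  have e : k * k / cj F q k = k ^ 3 := by
    rw [eq_inv_of_mul_eq_one_right h1, div_inv_eq_mul]; ring
  refine ⟨k, left_ne_zero_of_mul_eq_one h1, ?_, by rwa [e]⟩
  rw [e]
  refine k0_ext ?_
  rw [coe_nm, map_pow, ← mul_pow, mul_comm, h1, one_pow]
  rfl

theorem fb_two {V : Type*} [AddCommGroup V] [Finite V] {S : AddSubgroup V} (hS : S.index ≤ 2) {x y : V}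
    (hx : x ∉ S) (hy : y ∉ S) : x + y ∈ S := by
  have h0 := S.index_ne_zero_of_finite
  have h1 : S.index ≠ 1 := fun e => hx (AddSubgroup.index_eq_one.mp e ▸ AddSubgroup.mem_top x)
  exact (AddSubgroup.add_mem_iff_of_index_two (by omega)).mpr (iff_of_false hx hy)

theorem fb_idx {K V : Type*} [Field K] [CharP K 2] [AddCommGroup V] [Module K V] [Finite V] [Nontrivial V]
    {k : K} (hk0 : k ≠ 0) (hk1 : k ≠ 1) (B : V → V → K) (hB : ∀ x y (c : K), B x (y + c • x) = B x y)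
    (hs : ∀ x, x ≠ 0 → ∀ m, ∃ y, B x y = m) (S : AddSubgroup V) (hS : S.index ≤ 2) (m : K) :
    ∃ x ∈ S, ∃ y ∈ S, B x y = m := by
  by_cases h : ∀ x ∈ S, ∀ c : K, c • x ∈ S
  · have hall : ∀ v, v ∈ S := fun v => by
      by_contra hv
      have h1 : k • v ∉ S := fun e => hv (by simpa [hk0] using h _ e k⁻¹)
      have h2 : 1 + k ≠ 0 := fun e => hk1 (CharTwo.add_eq_zero.mp e).symm
      have h3 := h _ (fb_two hS hv h1) (1 + k)⁻¹
      nth_rw 1 [← one_smul K v] at h3
      rw [← add_smul, inv_smul_smul₀ h2] at h3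
      exact hv h3
    obtain ⟨x, hx⟩ := exists_ne (0 : V)
    obtain ⟨y, hy⟩ := hs x hx m
    exact ⟨x, hall x, y, hall y, hy⟩
  · push Not at h
    obtain ⟨x, hx, c, hc⟩ := h
    obtain ⟨y, hy⟩ := hs x (fun e => hc (by rw [e, smul_zero]; exact S.zero_mem)) m
    by_cases hyS : y ∈ S
    · exact ⟨x, hx, y, hyS, hy⟩
    · exact ⟨x, hx, _, fb_two hS hyS hc, by rw [hB, hy]⟩

/-- a subgroup of index at most two still has all commutators -/
theorem idx2 (hq : 4 ≤ q) (S : AddSubgroup F) (hS : S.index ≤ 2) (m : K0 F q) :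
    ∃ x ∈ S, ∃ y ∈ S, cm q x y = m := by
  obtain ⟨k, h0, h1⟩ := exists_k0 (F := F) hq
  refine fb_idx h0 h1 (cm q) (fun x y c => ?_) (fun x hx => cm_surj hx) S hS m
  rw [cm_add_right, show c • x = (c : F) * x from rfl, cm_smul_right, cm_self, mul_zero, add_zero]

theorem idx2' (hq : 4 ≤ q) (S : AddSubgroup (K0 F q × K0 F q)) (hS : S.index ≤ 2) (m : K0 F q) :
    ∃ x ∈ S, ∃ y ∈ S, x.1 * y.2 + y.1 * x.2 = m := by
  obtain ⟨k, h0, h1⟩ := exists_k0 (F := F) hq
  refine fb_idx h0 h1 (fun x y : K0 F q × K0 F q => x.1 * y.2 + y.1 * x.2) (fun x y c => ?_)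
    (fun x hx m => ?_) S hS m
  · simp only [Prod.fst_add, Prod.snd_add, Prod.smul_fst, Prod.smul_snd, smul_eq_mul]
    linear_combination k0_add_self (c * x.1 * x.2)
  · by_cases h : x.1 = 0
    · have : x.2 ≠ 0 := fun e => hx (Prod.ext h e)
      exact ⟨(m / x.2, 0), by simp [this]⟩
    · exact ⟨(0, m / x.1), by simp [mul_div_cancel₀, h]⟩

/-- the fixed points of a non-trivial semilinear map have index at least `q` -/
theorem fix_index (S : AddSubgroup F) {l : F} {φ : F ≃+* F} (h : ∀ x ∈ S, l * φ x = x)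
    (hS : S.index < q) : l = 1 ∧ φ = RingEquiv.refl F := by
  have h1 := S.card_mul_index
  rw [Nat.card_eq_fintype_card (α := F), hF.out] at h1
  have h2 : q < Nat.card S := by
    by_contra! hc
    have := two_le_q F q
    have : Nat.card S * S.index < q * q := Nat.mul_lt_mul_of_le_of_lt hc hS (by omega)
    rw [h1, sq] at this
    omega
  have h3 : φ = RingEquiv.refl F := RingEquiv.ext fun a => by
    by_contra ha
    have := Nat.card_le_card_of_injective (fun p : S × S => (p.1 : F) + p.2 * a) fun p p' e => by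
      have e1 : (p.1 : F) - p'.1 = (p'.2 - p.2) * a := by linear_combination e
      have e2 := h _ (S.sub_mem p.1.2 p'.1.2)
      rw [e1, map_mul, ← mul_assoc, h _ (S.sub_mem p'.2.2 p.2.2)] at e2
      have e3 : (p'.2 : F) - p.2 = 0 := by_contra fun hne => ha (mul_left_cancel₀ hne e2)
      rw [e3, zero_mul] at e1
      exact Prod.ext (Subtype.ext (sub_eq_zero.mp e1)) (Subtype.ext (sub_eq_zero.mp e3).symm)
    rw [Nat.card_prod, Nat.card_eq_fintype_card (α := F), hF.out, sq] at this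
    exact absurd (Nat.mul_lt_mul'' h2 h2) this.not_gt
  refine ⟨?_, h3⟩
  have : Nontrivial S := Finite.one_lt_card_iff_nontrivial.mp (by have := two_le_q F q; omega)
  obtain ⟨x, hx⟩ := exists_ne (0 : S)
  have e := h x x.2
  rw [h3] at e
  exact (mul_eq_right₀ fun e' => hx (Subtype.ext e')).mp e

/-- additive maps compatible with the norm are semilinear -/
theorem semi (α : F → F) (γ : K0 F q → K0 F q) (hα : ∀ x y, α (x + y) = α x + α y)
    (hγ : ∀ x y, γ (x + y) = γ x + γ y) (h : ∀ x, nm q (α x) = γ (nm q x)) (h1 : α 1 ≠ 0) :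
    ∃ l φ, l ≠ 0 ∧ (∀ x, α x = l * φ x) ∧ ∀ m, γ m = nm q l * kf φ m := by
  obtain ⟨n, hn, hq⟩ := fb_q F q
  have : NeZero n := ⟨hn.ne'⟩
  obtain ⟨a, ha⟩ := tr_surj (1 : K0 F q)
  have hr : ∀ b : K0 F q, cm q a b = b := fun b => k0_ext (by
    rw [coe_cm, cj_k0, mul_comm _ a, ← add_mul, add_comm, ha]; exact one_mul _)
  obtain ⟨c, i, hc⟩ := norm_rigid hq (g := α) (h := fun x => γ (cm q a x)) hα
    (fun x y => by rw [cm_add_right, hγ]; rfl) fun x => by
      rw [← coe_nm, ← coe_nm, hr, h]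
  have e : ∀ x, α x = c * iterateFrobeniusEquiv F 2 i.val x := hc
  refine ⟨c, _, fun e' => h1 (by rw [e, e', zero_mul]), e, fun m => ?_⟩
  obtain ⟨x, rfl⟩ := nm_surj m
  rw [← h, e, nm_mul, kf_nm]

theorem fb_tr {η : F} (hη : nm q η = 1) (hη1 : η ≠ 1) : η + cj F q η ≠ 0 := fun e => by
  have e1 : cj F q η * η = 1 := congrArg Subtype.val hη
  rw [← CharTwo.add_eq_zero.mp e] at e1
  exact hη1 (eq_one_of_pow (k := 1) (by rw [pow_one, sq, e1]))

/-- `1, η` is a basis over `K₀` -/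
theorem fb_dec {η : F} (hη : nm q η = 1) (hη1 : η ≠ 1) (x : F) : ∃ a b : K0 F q, x = a + b * η := by
  have ht := fb_tr hη hη1
  have hb : cj F q ((x + cj F q x) / (η + cj F q η)) = (x + cj F q x) / (η + cj F q η) := by
    rw [map_div₀, cj_trace, cj_trace]
  refine ⟨⟨x + (x + cj F q x) / (η + cj F q η) * η, ?_⟩, ⟨_, hb⟩, ?_⟩
  · rw [mem_fixedSubfield, map_add, map_mul, hb, ← CharTwo.add_eq_zero]
    calc _ = (x + cj F q x) + (x + cj F q x) / (η + cj F q η) * (η + cj F q η) := by ring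
      _ = 0 := by rw [div_mul_cancel₀ _ ht, CharTwo.add_self_eq_zero]
  · simp only [add_assoc, CharTwo.add_self_eq_zero, add_zero]

/-- additive maps commuting with `K₀` and `η` are scalar -/
theorem lin (f : F → F) (hf : ∀ x y, f (x + y) = f x + f y)
    (hK : ∀ (k : K0 F q) x, f (k * x) = k * f x) {η : F} (hη : nm q η = 1) (hη1 : η ≠ 1)
    (h : ∀ x, f (η * x) = η * f x) (x : F) : f x = x * f 1 := by
  obtain ⟨a, b, rfl⟩ := fb_dec hη hη1 x
  have e1 := hK a 1
  have e2 := h 1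
  rw [mul_one] at e1 e2
  rw [hf, e1, hK, e2]; ring

/-- `K₀` and `η` generate `F`: an additive subgroup closed under both is trivial or everything -/
theorem irr (S : AddSubgroup F) (hK : ∀ (k : K0 F q), ∀ x ∈ S, k * x ∈ S) {η : F} (hη : nm q η = 1)
    (hη1 : η ≠ 1) (h : ∀ x ∈ S, η * x ∈ S) {x : F} (hx : x ∈ S) (hx0 : x ≠ 0) : S = ⊤ := by
  refine eq_top_iff.mpr fun y _ => ?_
  obtain ⟨a, b, e⟩ := fb_dec hη hη1 (y / x)
  have := S.add_mem (hK a x hx) (hK b _ (h x hx))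
  rwa [← mul_assoc, ← add_mul, ← e, div_mul_cancel₀ _ hx0] at this

end Cfsg.Agent.GMS
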