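import Cfsg.Agent.GMS.FldB

set_option autoImplicit false
set_option linter.unusedSectionVars false

namespace Cfsg.Agent.GMS

open Subgroup H10 H91
open H42 hiding SylIn

variable {G : Type*} [Group G] [Finite G] {F : Type*} [Field F] [Fintype F] [CharP F 2] {q : ℕ}
  [hF : Fact (Fintype.card F = q ^ 2)]

omit hF in
theorem fc_bil0 {B : F → F → F} (h1 : ∀ x x' y, B (x + x') y = B x y + B x' y)
    (h2 : ∀ x y y', B x (y + y') = B x y + B x y') (hK : ∀ k x y, B (k * x) (k * y) = k ^ 2 * B x y)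
    (a b : F) : B a b = a * b * B 1 1 := by
  obtain ⟨m, -, hm⟩ := FiniteField.card F 2
  obtain ⟨μ, hμ⟩ := H41.exists_prim hm
  obtain ⟨c, hc, hc'⟩ := H41.BiAdd.exists_eq_sum_equiv hm ⟨h1, h2⟩ (hK μ)
  have e : ∀ x y, B x y = c 0 0 * (x * y) := fun x y => by
    have h0 : ∀ i j, c i j ≠ 0 → i = 0 ∧ j = 0 := fun i j hij => by
      have := H41.fr_pair hm hμ ((hc' i j hij).trans (by rw [H41.fr_zero, sq] :
        μ ^ 2 = H41.fr (0 : ZMod m) μ * H41.fr (0 : ZMod m) μ))
      tauto
    rw [hc, Finset.sum_eq_single 0, Finset.sum_eq_single 0, H41.fr_zero, H41.fr_zero]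
    · exact fun j _ hj => by rw [of_not_not fun h => hj (h0 0 j h).2, zero_mul]
    · simp
    · exact fun i _ hi => Finset.sum_eq_zero fun j _ => by rw [of_not_not fun h => hi (h0 i j h).1, zero_mul]
    · simp
  rw [e, e]; ring

/-- biadditive maps homogeneous of degree two are bilinear over `K₀` -/
theorem fc_bil {B : F → F → K0 F q} (h1 : ∀ x x' y, B (x + x') y = B x y + B x' y)
    (h2 : ∀ x y y', B x (y + y') = B x y + B x y')
    (hK : ∀ (k : K0 F q) x y, B (k * x) (k * y) = k ^ 2 * B x y) (a b : K0 F q) (x y : F) :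
    B (a * x) (b * y) = a * b * B x y := by
  have := Fintype.ofFinite (K0 F q)
  have := fc_bil0 (F := K0 F q) (B := fun a b => B (a * x) (b * y))
    (fun a a' b => by rw [Subfield.coe_add, add_mul, h1]) (fun a b b' => by rw [Subfield.coe_add, add_mul, h2])
    (fun k a b => by rw [Subfield.coe_mul, Subfield.coe_mul, mul_assoc, mul_assoc, hK]) a b
  simpa using this

theorem fc_sq {η : F} (hη : nm q η = 1) : η * η = 1 + (cm q 1 η : F) * η := by
  have e1 : cj F q η * η = 1 := congrArg Subtype.val hη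
  simp only [coe_cm, map_one, one_mul, mul_one]
  linear_combination -e1 - CharTwo.add_self_eq_zero (1 : F)

theorem fc_tr {η : F} (hη : nm q η = 1) (hη1 : η ≠ 1) : cm q 1 η ≠ 0 := fun e =>
  fb_tr hη hη1 (by simpa using congrArg Subtype.val e)

/-- equivariant biadditive maps are hermitian -/
theorem herm (hq : 4 ≤ q) (B : F → F → K0 F q) (h1 : ∀ x x' y, B (x + x') y = B x y + B x' y)
    (h2 : ∀ x y y', B x (y + y') = B x y + B x y')
    (hK : ∀ (k : K0 F q) x y, B (k * x) (k * y) = k ^ 2 * B x y) {η : F} (hη : nm q η = 1)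
    (hη1 : η ≠ 1) (h : ∀ x y, B (η * x) (η * y) = B x y) : ∃ β, ∀ x y, B x y = cm q x (β * y) := by
  have _ := hq
  have hb := fc_bil h1 h2 hK
  have e1 : cj F q η * η = 1 := congrArg Subtype.val hη
  have η0 : η ≠ 0 := right_ne_zero_of_mul_eq_one e1
  have ht := fb_tr hη hη1
  obtain ⟨β, b1, b2⟩ : ∃ β, cm q 1 β = B 1 1 ∧ cm q η β = B η 1 := by
    refine ⟨(B η 1 + B 1 1 * η) / (η + cj F q η), k0_ext ?_, k0_ext ?_⟩ <;>
      simp only [coe_cm, map_one, map_div₀, map_add, map_mul, cj_k0, H10.cj_cj, add_comm (cj F q η)] <;>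
      field_simp
    · linear_combination CharTwo.add_self_eq_zero (B η 1 : F)
    · linear_combination 2 * (B 1 1 : F) * e1 + CharTwo.add_self_eq_zero (B 1 1 : F)
  have b3 : ∀ x, B x 1 = cm q x β := fun x => by
    obtain ⟨a, b, rfl⟩ := fb_dec hη hη1 x
    have e2 := hb a 1 1 1
    have e3 := hb b 1 η 1
    have e4 := cm_smul_left a 1 β
    simp only [Subfield.coe_one, mul_one] at e2 e3 e4
    rw [h1, e2, e3, cm_add_left, cm_smul_left, e4, b1, b2]
  have b4 : ∀ x, B x η = cm q x (β * η) := fun x => by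
    have e2 := h (x / η) 1
    have e3 := cm_mul (q := q) η (x / η) β
    rw [mul_div_cancel₀ _ η0] at e2 e3
    rw [mul_one] at e2
    rw [e2, b3, mul_comm β, e3, hη, one_mul]
  refine ⟨β, fun x y => ?_⟩
  obtain ⟨a, b, rfl⟩ := fb_dec hη hη1 y
  have e2 := hb 1 a x 1
  have e3 := hb 1 b x η
  simp only [Subfield.coe_one, mul_one, one_mul] at e2 e3
  rw [h2, e2, e3, b3, b4, mul_add, cm_add_right, mul_comm β (a : F), mul_left_comm, cm_smul_right, cm_smul_right]

theorem bil0 (hq : 4 ≤ q) (B : F → F → F) (h1 : ∀ x x' y, B (x + x') y = B x y + B x' y)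
    (h2 : ∀ x y y', B x (y + y') = B x y + B x y') (h0 : ∀ x, B x x = 0)
    (hK : ∀ (k : K0 F q) x y, B (k * x) (k * y) = k * B x y) {η : F} (hη : nm q η = 1)
    (hη1 : η ≠ 1) (h : ∀ x y, B (η * x) (η * y) = η * B x y) (x y : F) : B x y = 0 := by
  have _ := hq
  have nd : ∀ u v : F, (∀ c, cm q c u = cm q c v) → u = v := fun u v e => by
    by_contra hne
    obtain ⟨c, hc⟩ := cm_surj (q := q) (fun e => hne (CharTwo.add_eq_zero.mp e)) 1
    rw [cm_add_left, cm_comm u, cm_comm v, e, k0_add_self] at hc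
    exact zero_ne_one hc
  have hb : ∀ (a b : K0 F q) x y, B (a * x) (b * y) ^ 2 = (a * b : K0 F q) * B x y ^ 2 := fun a b x y =>
    nd _ _ fun c => by
      rw [cm_smul_right]
      exact fc_bil (B := fun x y => cm q c (B x y ^ 2))
        (fun x x' y => by rw [h1, CharTwo.add_sq, cm_add_right])
        (fun x y y' => by rw [h2, CharTwo.add_sq, cm_add_right])
        (fun k x y => by rw [hK, mul_pow, ← cm_smul_right]; rfl) a b x y
  have sy : B η 1 = B 1 η := by
    have := h0 (η + 1)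
    rw [h1, h2, h2, h0, h0, zero_add, add_zero] at this
    exact CharTwo.add_eq_zero.mp this
  have w0 : B 1 η = 0 := by
    have e := h 1 η
    have e2 := hb 1 (cm q 1 η) η η
    rw [h0, Subfield.coe_one, one_mul, zero_pow two_ne_zero, mul_zero, pow_eq_zero_iff two_ne_zero] at e2
    rw [fc_sq hη, h2, mul_one, e2, add_zero, sy] at e
    exact by_contra fun hne => hη1 ((mul_eq_right₀ hne).mp e.symm)
  have hz : ∀ (a b : K0 F q) x y, B x y = 0 → B (a * x) (b * y) = 0 := fun a b x y e =>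
    (pow_eq_zero_iff two_ne_zero).mp (by rw [hb, e, zero_pow two_ne_zero, mul_zero])
  obtain ⟨a, b, rfl⟩ := fb_dec hη hη1 x
  obtain ⟨c, d, rfl⟩ := fb_dec hη hη1 y
  have e1 := hz a c 1 1 (h0 1)
  have e2 := hz a d 1 η w0
  have e3 := hz b c η 1 (sy.trans w0)
  simp only [mul_one] at e1 e2 e3
  rw [h1, h2, h2, e1, e2, e3, hz b d η η (h0 η)]
  simp

theorem fc_quad {s : F → K0 F q} {P : F → F → K0 F q} (hs : ∀ x y, s (x + y) = s x + s y + P x y)
    (h1 : ∀ x x' y, P (x + x') y = P x y + P x' y) (hK : ∀ (k : K0 F q) x, s (k * x) = k ^ 2 * s x) {η : F}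
    (hη : nm q η = 1) (hη1 : η ≠ 1) (h : ∀ x, s (η * x) = s x) (x : F) : s x = s 1 * nm q x := by
  have hP : ∀ x y, P x y = s (x + y) - s x - s y := fun x y => by rw [hs]; ring
  have sy : ∀ x y, P x y = P y x := fun x y => by rw [hP, hP, add_comm]; ring
  have hb := fc_bil h1 (fun x y y' => by rw [sy, h1, sy y, sy y'])
    fun k x y => by rw [hP, hP, ← mul_add, hK, hK, hK]; ring
  have s1 : s η = s 1 := by simpa using h 1
  have key : ∀ a b : K0 F q, s (a + b * η) = s 1 * (a ^ 2 + b ^ 2) + a * b * P 1 η := fun a b => by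
    have e1 := hK a 1
    have e2 := hb a b 1 η
    rw [mul_one] at e1 e2
    rw [hs, e1, e2, hK, s1]; ring
  have e : P 1 η = s 1 * cm q 1 η := by
    have e1 := key 1 (cm q 1 η)
    rw [Subfield.coe_one, ← fc_sq hη, h, s1] at e1
    refine mul_left_cancel₀ (fc_tr hη hη1) ?_
    linear_combination -e1 - k0_add_self (s 1 * cm q 1 η ^ 2)
  obtain ⟨a, b, rfl⟩ := fb_dec hη hη1 x
  have e2 := cm_smul_left a 1 η
  rw [mul_one] at e2
  rw [key, e, nm_add, nm_mul, nm_k0, nm_k0, hη, cm_smul_right, e2]; ring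

/-- an equivariant quadratic map on `F × F` is a hermitian form -/
theorem quad2 (hq : 4 ≤ q) (s : F → F → K0 F q) (B : F → F → F → F → K0 F q)
    (hs : ∀ d a d' a', s (d + d') (a + a') = s d a + s d' a' + B d a d' a')
    (h1 : ∀ d a d' a' x y, B (d + d') (a + a') x y = B d a x y + B d' a' x y)
    (hK : ∀ (k : K0 F q) d a, s (k * d) (k * a) = k ^ 2 * s d a) {η : F} (hη : nm q η = 1)
    (hη1 : η ≠ 1) (h : ∀ d a, s (η * d) (η * a) = s d a) :
    ∃ (α γ : K0 F q) (β : F), ∀ d a, s d a = α * nm q d + cm q d (β * a) + γ * nm q a := by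
  have hP : ∀ d a d' a', B d a d' a' = s (d + d') (a + a') - s d a - s d' a' := fun d a d' a' => by
    rw [hs]; ring
  have sy : ∀ d a d' a', B d a d' a' = B d' a' d a := fun d a d' a' => by
    rw [hP, hP, add_comm d, add_comm a]; ring
  have e1 := fc_quad (s := fun x => s x 0) (P := fun x y => B x 0 y 0) (fun x y => by simpa using hs x 0 y 0)
    (fun x x' y => by simpa using h1 x 0 x' 0 y 0) (fun k x => by simpa using hK k x 0) hη hη1
    fun x => by simpa using h x 0
  have e2 := fc_quad (s := fun x => s 0 x) (P := fun x y => B 0 x 0 y) (fun x y => by simpa using hs 0 x 0 y)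
    (fun x x' y => by simpa using h1 0 x 0 x' 0 y) (fun k x => by simpa using hK k 0 x) hη hη1
    fun x => by simpa using h 0 x
  obtain ⟨β, e3⟩ := herm hq (fun x y => B x 0 0 y) (fun x x' y => by simpa using h1 x 0 x' 0 0 y)
    (fun x y y' => by
      rw [sy x 0 0 (y + y'), sy x 0 0 y, sy x 0 0 y']; simpa using h1 0 y 0 y' x 0)
    (fun k x y => by
      have a1 := hK k x 0
      have a2 := hK k 0 y
      rw [mul_zero] at a1 a2
      simp only [hP, add_zero, zero_add, hK, a1, a2]; ring) hη hη1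
    fun x y => by
      have a1 := h x 0
      have a2 := h 0 y
      rw [mul_zero] at a1 a2
      simp only [hP, add_zero, zero_add, h, a1, a2]
  refine ⟨s 1 0, s 0 1, β, fun d a => ?_⟩
  have e4 := hs d 0 0 a
  rw [add_zero, zero_add] at e4
  rw [e4, e1 d, e2 a, e3]; ring

/-- autotopisms of the multiplication of `F` -/
theorem autot (α β γ : F → F) (hγ : ∀ x y, γ (x + y) = γ x + γ y) (hi : Function.Injective γ)
    (h : ∀ x y, γ (x * y) = α x * β y) :
    ∃ φ : F ≃+* F, (∀ x, α x = α 1 * φ x) ∧ (∀ x, β x = β 1 * φ x) ∧ α 1 ≠ 0 ∧ β 1 ≠ 0 := by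
  have γ0 : γ 0 = 0 := by simpa using hγ 0 0
  have γ1 : α 1 * β 1 ≠ 0 := fun e => one_ne_zero (hi (by rw [γ0, ← e, ← h, mul_one]))
  have a1 := left_ne_zero_of_mul γ1
  have b1 := right_ne_zero_of_mul γ1
  have ea : ∀ x, α x = γ x / β 1 := fun x => by rw [eq_div_iff b1, ← h, mul_one]
  have eb : ∀ x, β x = γ x / α 1 := fun x => by rw [eq_div_iff a1, mul_comm, ← h, one_mul]
  let f : F →+* F :=
    { toFun := fun x => γ x / (α 1 * β 1)
      map_one' := by rw [← h, mul_one, div_self]; rwa [← mul_one (1 : F), h]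
      map_mul' := fun x y => by rw [h, ea x, eb y]; field_simp
      map_zero' := by rw [γ0, zero_div]
      map_add' := fun x y => by rw [hγ, add_div] }
  refine ⟨RingEquiv.ofBijective f (Finite.injective_iff_bijective.mp f.injective), fun x => ?_, fun x => ?_,
    a1, b1⟩
  · change _ = _ * (γ x / (α 1 * β 1))
    rw [ea x]; field_simp
  · change _ = _ * (γ x / (α 1 * β 1))
    rw [eb x]; field_simp

/-- `X² + X + δ` splits over `K₀`, or has a root of trace one -/
theorem dl_cases (δ : K0 F q) : (∃ ρ : K0 F q, ρ ^ 2 + ρ = δ) ∨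
    ∃ x : F, x + cj F q x = 1 ∧ nm q x = δ := by
  let f : K0 F q →+ K0 F q := AddMonoidHom.mk' (fun ρ => ρ ^ 2 + ρ) fun a b => by
    rw [CharTwo.add_sq]; ring
  have rt : ∀ x : F, x ^ 2 + x = 0 → x = 0 ∨ x = 1 := fun x hx => by
    rw [sq, ← mul_add_one, mul_eq_zero, CharTwo.add_eq_zero] at hx
    exact hx
  have hi : f.range.index ≤ 2 := by
    rw [AddSubgroup.index_range]
    refine (Set.ncard_le_ncard (t := {0, 1}) fun x hx => ?_).trans ((Set.ncard_insert_le _ _).trans (by simp))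
    exact (rt x (congrArg Subtype.val (show x ^ 2 + x = 0 from hx))).imp k0_ext k0_ext
  obtain ⟨x, hx⟩ := tr_surj (1 : K0 F q)
  rw [Subfield.coe_one] at hx
  have hx' : cj F q x = x + 1 := by
    linear_combination hx - CharTwo.add_self_eq_zero x
  have hn : nm q x ∉ f.range := by
    rintro ⟨ρ, hρ⟩
    have e : (ρ : F) ^ 2 + ρ = cj F q x * x := congrArg Subtype.val hρ
    have e' : cj F q (x + ρ) = x + ρ := by
      rcases rt (x + ρ) (by
        rw [CharTwo.add_sq]
        linear_combination e + x * hx' + CharTwo.add_self_eq_zero (x ^ 2 + x)) with e' | e' <;> simp [e']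
    rw [map_add, cj_k0, hx', add_left_inj] at e'
    exact one_ne_zero (add_eq_left.mp e')
  by_cases hδ : δ ∈ f.range
  · exact Or.inl hδ
  obtain ⟨ρ, hρ⟩ := fb_two hi hδ hn
  have e : (ρ : F) ^ 2 + ρ = δ + cj F q x * x := congrArg Subtype.val hρ
  refine Or.inr ⟨x + ρ, ?_, k0_ext ?_⟩
  · rw [map_add, cj_k0, hx']
    linear_combination CharTwo.add_self_eq_zero (x + ρ)
  · rw [coe_nm, map_add, cj_k0]
    linear_combination e + ρ * hx' + CharTwo.add_self_eq_zero (cj F q x * x + ρ * x)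

end Cfsg.Agent.GMS
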