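import Cfsg.Agent.GMS.Base2
import Cfsg.Agent.H49.SylowOf

set_option autoImplicit false
set_option linter.unusedSectionVars false

namespace Cfsg.Agent.GMS

open Subgroup H10 H91
open H42 hiding SylIn

variable {G : Type*} [Group G] [Finite G] {F : Type*} [Field F] [Fintype F] [CharP F 2] {q : ℕ}
  [hF : Fact (Fintype.card F = q ^ 2)]

namespace Ctx0

variable (c : Ctx0 G F q)

theorem f0_syl (h : ∀ g k, g ^ 2 ^ k = 1 → g * c.t * g⁻¹ ∈ c.V → g * c.t * g⁻¹ = c.t) : SylIn 2 c.T ⊤ := by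
  refine sylIn_of_maximal le_top c.syl.isPGroup fun H hH hT _ => ?_
  have hn : H ⊓ normalizer (c.T : Set G) ≤ centralizer {c.t} := fun g hg => by
    obtain ⟨k, hk⟩ := hH ⟨g, hg.1⟩
    refine mem_centralizer_singleton_iff.mpr (mul_inv_eq_iff_eq_mul.mp (h g k (congrArg Subtype.val hk)
      (c.cent_Q (H49.conj_mem_of_norm le_rfl hg.2 (c.RT c.tR)) fun u => ?_)))
    calc _ = g * (c.t * (g⁻¹ * c.U u * g)) * g⁻¹ := by group
      _ = _ := by rw [← c.Tt (H49.conj_mem_of_norm' le_rfl hg.2 (c.UT u))]; group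
  exact (H49.eq_of_inf_norm_le_of_nilpotent hH.isNilpotent hT (c.syl.eq_of_le (hH.to_le inf_le_left)
    (le_inf hT le_normalizer) hn).le).ge

theorem f0_RX {r x : G} (hr : r ∈ c.R) (hx : x ∈ c.X) : r * x = x * r := by
  obtain ⟨r', hr', u, rfl⟩ := c.mem_X.mp hx
  rw [← mul_assoc, c.Rc r hr r' hr', mul_assoc, c.bs_RU hr, mul_assoc]

theorem f0_VX {v x : G} (hv : v ∈ c.V) (hx : x ∈ c.X) : v * x = x * v := by
  obtain ⟨r, hr, b, rfl⟩ := c.mem_V.mp hv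
  rw [mul_assoc, c.z_comm b hx, ← mul_assoc, c.f0_RX hr hx, mul_assoc]

theorem f0_DX {g : G} (h : ∀ x ∈ c.X, g * x * g⁻¹ ∈ c.T) : H49.cj g c.X = c.X := by
  refine c.DX (fun y hy => ?_) (fun x hx y hy => ?_) (H49.card_cj g _).ge
  · obtain ⟨x, hx, rfl⟩ := H49.mem_cj'.mp hy
    exact h x hx
  · obtain ⟨x, hx', rfl⟩ := H49.mem_cj'.mp hx
    obtain ⟨y, hy', rfl⟩ := H49.mem_cj'.mp hy
    replace hx := hx'
    replace hy := hy'
    obtain ⟨r, hr, u, rfl⟩ := c.mem_X.mp hx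
    obtain ⟨r', hr', v, rfl⟩ := c.mem_X.mp hy
    have e : r * c.U u * (r' * c.U v) = r' * c.U v * (r * c.U u) * c.z (cm q u.x v.x) := by
      rw [mul_assoc r, c.f0_RX hr (mul_mem (c.bs_U_mem_X u) hy), ← mul_assoc (c.U u), ← c.bs_RU hr', mul_assoc r',
        ← map_mul, um_comm, map_mul, map_mul, c.bs_RU hr, mul_assoc (r' * c.U v), mul_assoc (c.U u),
        ← c.z_comm _ (mem_sup_left hr)]
      simp only [z, mul_assoc]
    have e' : g * (r * c.U u) * g⁻¹ * (g * (r' * c.U v) * g⁻¹) * (g * (r * c.U u) * g⁻¹)⁻¹ *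
        (g * (r' * c.U v) * g⁻¹)⁻¹ = g * c.z (cm q u.x v.x) * g⁻¹ := by
      calc _ = g * (r * c.U u * (r' * c.U v) * (r' * c.U v * (r * c.U u))⁻¹) * g⁻¹ := by group
        _ = _ := by rw [e, ← c.z_comm _ (mul_mem hy hx), mul_inv_cancel_right]
    rw [e', conj_mul, c.z_sq, mul_one, mul_inv_cancel]

theorem f0_zR {b : K0 F q} (h : c.z b ∈ c.R) : b = 0 := c.z_eq_one.mp (c.RA1 _ h (c.UA _))

theorem f0_Vsq {r : G} (hr : r ∈ c.R) (b : K0 F q) : r * c.z b * (r * c.z b) = r * r := by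
  rw [mul_assoc, ← mul_assoc (c.z b), c.z_comm b (mem_sup_left hr), mul_assoc r, c.z_sq, mul_one]

theorem f0_sq {s : G} (h : IsConj c.t s) : s * s = 1 := by
  obtain ⟨g, rfl⟩ := isConj_iff.mp h
  rw [conj_mul, c.t2, mul_one, mul_inv_cancel]

theorem f0_ii {r : G} (hr : r ∈ c.R) (h2 : r * r = c.t) {b : K0 F q} (h : IsConj c.t (c.t * c.z b)) : b = 0 := by
  obtain ⟨g, hg⟩ := isConj_iff.mp h
  obtain ⟨k, hk, h1⟩ := c.frame (c.syl.isPGroup.to_le c.XT) (g := g) fun y hy => by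
    rw [hg]; exact (c.f0_VX (c.mem_V.mpr ⟨_, c.tR, b, rfl⟩) hy).symm
  have e := c.f0_DX (g := (g * k)⁻¹) (by simpa only [inv_inv] using h1)
  have e1 : ∀ x ∈ c.X, g * k * x * (g * k)⁻¹ ∈ c.X := fun x hx => by
    rw [← e] at hx; simpa only [inv_inv] using H49.mem_cj.mp hx
  have e2 : ∀ x ∈ c.X, (g * k)⁻¹ * x * (g * k) ∈ c.X := fun x hx => by
    rw [← e]; simpa only [inv_inv] using (H49.conj_mem_cj (g := (g * k)⁻¹)).mpr hx
  obtain ⟨r1, hr1, b1, e3⟩ := c.mem_V.mp (c.cent_Q (c.XT (e1 r (mem_sup_left hr))) fun u => by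
    calc _ = g * k * (r * ((g * k)⁻¹ * c.U u * (g * k))) * (g * k)⁻¹ := by group
      _ = _ := by rw [c.f0_RX hr (e2 _ (c.bs_U_mem_X u))]; group)
  have e4 : r1 * r1 = c.t * c.z b := by
    calc _ = r1 * c.z b1 * (r1 * c.z b1) := (c.f0_Vsq hr1 b1).symm
      _ = g * (k * c.t) * k⁻¹ * g⁻¹ := by rw [← e3, conj_mul, h2]; group
      _ = _ := by rw [hk, ← hg]; group
  refine c.f0_zR ?_
  rw [← inv_mul_cancel_left c.t (c.z b), ← e4]
  exact mul_mem (inv_mem c.tR) (mul_mem hr1 hr1)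

/-- two of three involutions outside `X` have their product in `X` -/
theorem f0_three {x y : G} (hx : x ∈ c.T) (hy : y ∈ c.T) (x2 : x * x = 1) (y2 : y * y = 1) (hx' : x ∉ c.X)
    (hy' : y ∉ c.X) : x * y ∈ c.X := by
  obtain ⟨ρ, h, -⟩ := c.exists_rho
  have key : ∀ s : c.T, s * s = 1 → s.1 ∉ c.X → ρ s = sg F q := fun s s2 hs =>
    (aut_sq fun a => by rw [← RingAut.mul_apply, ← map_mul, s2, map_one]; rfl).resolve_left
      fun e => hs ((h s).mp e)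
  refine (h (⟨x, hx⟩ * ⟨y, hy⟩)).mp ?_
  rw [map_mul, key _ (Subtype.ext x2) hx', key _ (Subtype.ext y2) hy']
  exact RingEquiv.ext fun a => H10.cj_cj a

end Ctx0

theorem f0_root {x : G} {k : ℕ} (h : x ^ 2 ^ k = 1) (h2 : x * x ≠ 1) :
    ∃ n : ℕ, x ^ n * x ^ n ≠ 1 ∧ x ^ n * x ^ n * (x ^ n * x ^ n) = 1 := by
  induction k generalizing x with
  | zero => exact absurd (by rw [show x = 1 by simpa using h, mul_one]) h2
  | succ k ih =>
    by_cases h4 : x * x * (x * x) = 1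
    · exact ⟨1, by rwa [pow_one], by rwa [pow_one]⟩
    · obtain ⟨n, hn⟩ := ih (x := x * x) (by rw [← sq, ← pow_mul, ← pow_succ', h]) h4
      exact ⟨2 * n, by rwa [pow_mul, sq]⟩

theorem Ctx.fus0 (c : Ctx G F q) : c.VF ∨ c.SCR := by
  refine or_iff_not_imp_left.mpr fun hV => ?_
  have hV' : ∀ s ∈ c.V, c.Tc s → s ∈ c.R := fun s hs h => by_contra fun h' => hV ⟨s, hs, h', h⟩
  refine ⟨c.f0_syl fun g k hk hg => mul_inv_eq_iff_eq_mul.mpr (c.two_elt c.tR c.t1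
    (hV' _ hg ⟨_, c.tR, c.t1, isConj_iff.mpr ⟨g, rfl⟩⟩) hk), c.RT, fun x hx g hs => ?_⟩
  by_cases x1 : x = 1
  · simp [x1]
  have hT : c.Tc (g * x * g⁻¹) := ⟨x, hx, x1, isConj_iff.mpr ⟨g, rfl⟩⟩
  have s2 : g * x * g⁻¹ * (g * x * g⁻¹) = 1 := by rw [conj_mul, c.Re x hx, mul_one, mul_inv_cancel]
  refine hV' _ (c.inv_X (by_contra fun hX => ?_) s2) hT
  by_cases hR : ∀ r ∈ c.R, r = 1 ∨ r = c.t
  · obtain rfl := (hR x hx).resolve_left x1
    obtain ⟨b, hb, h⟩ := c.outer_fus (fun r hr _ => hR r hr) hs hX (isConj_iff.mpr ⟨g, rfl⟩)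
    have := hV' _ (c.mem_V.mpr ⟨_, c.tR, b, rfl⟩) ⟨_, c.tR, c.t1, h⟩
    exact hb (c.f0_zR (by simpa using mul_mem (inv_mem c.tR) this))
  push Not at hR
  obtain ⟨r1, hr1, r11, r1t⟩ := hR
  have TR : ∀ y r, r ∈ c.R → y * c.t = c.t * y → y * r = r * y := fun y r hr hy => by
    by_cases h1 : r = 1
    · rw [h1, mul_one, one_mul]
    · exact (c.RC r hr h1 y).mpr hy
  obtain ⟨k, hk, h1⟩ := c.frame' (c.syl.isPGroup.to_le c.RT) hx x1 (g := g) fun y hy =>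
    (TR _ y hy (c.Tt hs)).symm
  have e : g * x * g⁻¹ = g * k * x * (g * k)⁻¹ := by rw [mul_assoc g k, TR k x hx hk]; group
  generalize g * k = g' at h1 e
  have sq : ∀ r ∈ c.R, g'⁻¹ * r * g' * (g'⁻¹ * r * g') = 1 := fun r hr => by
    calc _ = g'⁻¹ * (r * r) * g' := by group
      _ = 1 := by rw [c.Re r hr]; group
  obtain ⟨r, hr, r1', hrX⟩ : ∃ r ∈ c.R, r ≠ 1 ∧ g'⁻¹ * r * g' ∈ c.X := by
    by_contra! hc
    have := c.f0_three (h1 _ c.tR) (h1 _ hr1) (sq _ c.tR) (sq _ hr1) (hc _ c.tR c.t1) (hc _ hr1 r11)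
    refine hc _ (mul_mem c.tR hr1) (fun e' => r1t ?_) (by convert this using 1; group)
    rw [eq_inv_of_mul_eq_one_right e', inv_eq_of_mul_eq_one_right c.t2]
  have hC : H49.cj g' c.X ≤ centralizer {c.t} := fun y hy => by
    refine mem_centralizer_singleton_iff.mpr ((c.RC r hr r1' y).mp ?_)
    calc _ = g' * (g'⁻¹ * y * g' * (g'⁻¹ * r * g')) * g'⁻¹ := by group
      _ = _ := by rw [← c.f0_VX (c.inv_X hrX (sq r hr)) (H49.mem_cj.mp hy)]; group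
  obtain ⟨y, hy, h2⟩ := c.syl.exists_conj_mem (H49.isPGroup_cj.mpr (c.syl.isPGroup.to_le c.XT)) hC
  have hy' : y⁻¹ * c.t = c.t * y⁻¹ := mem_centralizer_singleton_iff.mp (inv_mem hy)
  have h3 := c.f0_DX (g := y * g') fun w hw => by
    convert h2 _ (H49.conj_mem_cj.mpr hw) using 1; group
  obtain ⟨r', hr', u, h4⟩ := c.mem_X.mp (h3 ▸ H49.conj_mem_cj.mpr (mem_sup_left hx) :
    y * g' * x * (y * g')⁻¹ ∈ c.X)
  have h5 : g * x * g⁻¹ = r' * (y⁻¹ * c.U u * y⁻¹⁻¹) := by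
    calc _ = y⁻¹ * (y * g' * x * (y * g')⁻¹) * y := by rw [e]; group
      _ = _ := by rw [h4, ← mul_assoc y⁻¹, TR _ r' hr' hy']; group
  obtain ⟨v, hv⟩ := c.TA _ (by simpa only [h5, inv_mul_cancel_left] using mul_mem (inv_mem (c.RT hr')) hs)
    (c.An _ hy' _ (c.UA u))
  exact hX (c.mem_X.mpr ⟨r', hr', v, by rw [h5, hv]⟩)

/-- cyclic `R`: either `R = ⟨t⟩`, or `t` is isolated in the Sylow subgroup `T` -/
theorem Ctx0.fus0 (c : Ctx0 G F q) (hR : IsCyclic c.R) : (∀ r ∈ c.R, r = 1 ∨ r = c.t) ∨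
    (SylIn 2 c.T ⊤ ∧ ∀ g, g * c.t * g⁻¹ ∈ c.T → g * c.t * g⁻¹ = c.t) := by
  classical
  refine or_iff_not_imp_left.mpr fun hn => ?_
  have hR1 : ∀ r ∈ c.R, r * r = 1 → r = 1 ∨ r = c.t := fun r hr r2 => by
    by_contra! hc
    have := Fintype.ofFinite c.R
    have h1 := IsCyclic.card_pow_eq_one_le (α := c.R) two_pos
    have h2 := (Finset.two_lt_card_iff (s := Finset.univ.filter fun a : c.R => a ^ 2 = 1)).mpr
      ⟨1, ⟨_, c.tR⟩, ⟨r, hr⟩, by simp, by simp [sq, Subtype.ext_iff, c.t2], by simp [sq, Subtype.ext_iff, r2],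
        fun e => c.t1 (congrArg Subtype.val e).symm, fun e => hc.1 (congrArg Subtype.val e).symm,
        fun e => hc.2 (congrArg Subtype.val e).symm⟩
    omega
  push Not at hn
  obtain ⟨x, hx, x1, xt⟩ := hn
  obtain ⟨k, hk⟩ := c.syl.isPGroup ⟨x, c.RT hx⟩
  obtain ⟨n, h1, h2⟩ := f0_root (congrArg Subtype.val hk : x ^ 2 ^ k = 1)
    fun e => (hR1 x hx e).elim x1 xt
  have hr := c.R.pow_mem hx n
  have h3 := (hR1 _ (mul_mem hr hr) h2).resolve_left h1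
  have hV : ∀ g, g * c.t * g⁻¹ ∈ c.V → g * c.t * g⁻¹ = c.t := fun g hg => by
    have hc : IsConj c.t (g * c.t * g⁻¹) := isConj_iff.mpr ⟨g, rfl⟩
    have s2 := c.f0_sq hc
    obtain ⟨r, hr', b, e⟩ := c.mem_V.mp hg
    rw [e] at hc s2 ⊢
    rw [c.f0_Vsq hr'] at s2
    rcases hR1 r hr' s2 with rfl | rfl
    · exact absurd (by simpa using hc) (c.t_not_z b)
    · rw [c.f0_ii hr h3 hc, c.z_zero, mul_one]
  refine ⟨c.f0_syl fun g _ _ => hV g, fun g hg => hV g (c.inv_X (by_contra fun hX => ?_)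
    (c.f0_sq (isConj_iff.mpr ⟨g, rfl⟩)))⟩
  obtain ⟨b, hb, h⟩ := c.outer_fus hR1 hg hX (isConj_iff.mpr ⟨g, rfl⟩)
  exact hb (c.f0_ii hr h3 h)

end Cfsg.Agent.GMS
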