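import Cfsg.Agent.GMS.FldC

/-! Project GMS (notes/GMS.md): groups of semi-isometries of the quadratic form `N(a) + e b`,
acting on its `q² + 1` singular points. -/

set_option autoImplicit false
set_option linter.unusedSectionVars false

namespace Cfsg.Agent.GMS

open Subgroup H10 H91
open H42 hiding SylIn

variable {G : Type*} [Group G] [Finite G] {F : Type*} [Field F] [Fintype F] [CharP F 2] {q : ℕ}
  [hF : Fact (Fintype.card F = q ^ 2)]

namespace LAx

local notation "σ" => H10.cj F q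
local notation "𝕍" => K0 F q × F × K0 F q

/-- the quadratic form -/
noncomputable def qf (v : 𝕍) : K0 F q := nm q v.2.1 + v.1 * v.2.2
/-- its polar form -/
noncomputable def bf (v w : 𝕍) : K0 F q := cm q v.2.1 w.2.1 + v.1 * w.2.2 + w.1 * v.2.2
/-- the singular points -/
noncomputable def pt : Option F → K0 F q → 𝕍
  | none, e => (0, 0, e)
  | some x, e => (e, e * x, e * nm q x)

theorem qf_add (v w : 𝕍) : qf (v + w) = qf v + qf w + bf v w := by
  simp only [qf, bf, Prod.fst_add, Prod.snd_add, nm_add]; ring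

theorem qf_pt (p : Option F) (e : K0 F q) : qf (pt p e) = 0 := by
  cases p with
  | none => simp [qf, pt]
  | some x =>
    simp only [qf, pt, nm_mul, nm_k0]
    rw [← mul_assoc, ← pow_two, k0_add_self]

theorem pt_zero (p : Option F) : pt p (0 : K0 F q) = 0 := by cases p <;> simp [pt]

theorem pt_ne (p : Option F) {e : K0 F q} (he : e ≠ 0) : pt p e ≠ 0 := by
  cases p <;> simp [pt, he]

theorem bf_pt (p : Option F) (e e' : K0 F q) : bf (pt p e) (pt p e') = 0 := by
  cases p with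
  | none => simp [bf, pt]
  | some x =>
    simp only [bf, pt, cm_smul_left, cm_smul_right, cm_self]
    linear_combination k0_add_self (e * e' * nm q x)

theorem eq_of_bf {p p' : Option F} {e e' : K0 F q} (he : e ≠ 0) (he' : e' ≠ 0)
    (h : bf (pt p e) (pt p' e') = 0) : p = p' := by
  cases p <;> cases p'
  · rfl
  · simp [bf, pt, he, he'] at h
  · simp [bf, pt, he, he'] at h
  · rename_i x y
    simp only [bf, pt, cm_smul_left, cm_smul_right] at h
    have : e * e' * nm q (x + y) = 0 := by rw [nm_add]; linear_combination h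
    rw [mul_eq_zero, mul_eq_zero, nm_eq_zero, CharTwo.add_eq_zero] at this
    rw [(this.resolve_left (not_or.2 ⟨he, he'⟩))]

theorem exists_pt {v : 𝕍} (h : qf v = 0) : ∃ p e, v = pt p e := by
  obtain ⟨e, a, b⟩ := v
  simp only [qf] at h
  by_cases he : e = 0
  · rw [he, zero_mul, add_zero, nm_eq_zero] at h
    exact ⟨none, b, by rw [he, h]; rfl⟩
  have he' : (e : F) ≠ 0 := fun h => he (k0_ext h)
  have h1 : (e : F) * (a / e) = a := by field_simp
  refine ⟨some (a / e), e, Prod.ext rfl (Prod.ext h1.symm (mul_left_cancel₀ he ?_))⟩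
  change e * b = e * (e * nm q (a / e))
  rw [← mul_assoc, ← pow_two, ← nm_k0, ← nm_mul, h1]
  exact (CharTwo.add_eq_zero.1 h).symm

variable (F q) in
/-- maps that preserve singularity and orthogonality -/
def PS : Subgroup (Equiv.Perm 𝕍) where
  carrier := {g | g 0 = 0 ∧ (∀ v, qf (g v) = 0 ↔ qf v = 0) ∧ ∀ v w, bf (g v) (g w) = 0 ↔ bf v w = 0}
  one_mem' := ⟨rfl, fun _ => Iff.rfl, fun _ _ => Iff.rfl⟩
  mul_mem' h h' := ⟨by rw [Equiv.Perm.mul_apply, h'.1, h.1], fun v => (h.2.1 _).trans (h'.2.1 v),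
    fun v w => (h.2.2 _ _).trans (h'.2.2 v w)⟩
  inv_mem' {g} h := ⟨by rw [Equiv.Perm.inv_eq_iff_eq, h.1],
    fun v => by rw [← h.2.1]; simp, fun v w => by rw [← h.2.2]; simp⟩

theorem mem_PS {g : Equiv.Perm 𝕍} (hA : ∀ v v', g (v + v') = g v + g v') {γ : K0 F q → K0 F q}
    (hγ : ∀ x y, γ (x + y) = γ x + γ y) (h : ∀ v, qf (g v) = γ (qf v)) : g ∈ PS F q := by
  have hs : Function.Surjective γ := fun m => ⟨qf (g.symm (1, 0, m)), by
    rw [← h, Equiv.apply_symm_apply]; simp [qf]⟩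
  have h0 : γ 0 = 0 := by simpa using hγ 0 0
  have h1 : ∀ x, γ x = 0 ↔ x = 0 := fun x =>
    ⟨fun e => Finite.injective_iff_surjective.2 hs (e.trans h0.symm), fun e => e ▸ h0⟩
  refine ⟨by simpa using hA 0 0, fun v => by rw [h, h1], fun v w => ?_⟩
  have := h (v + w)
  rw [hA, qf_add, qf_add, hγ, hγ, h, h, add_right_inj] at this
  rw [this, h1]

theorem exists_img (g : PS F q) (p : Option F) : ∃ p', ∀ e, ∃ e', g.1 (pt p e) = pt p' e' := by
  have h0 : ∀ {e p' e'}, e ≠ 0 → g.1 (pt p e) = pt p' e' → e' ≠ 0 := fun he h h' =>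
    pt_ne p he (g.1.injective (by rw [h, h', pt_zero, g.2.1]))
  obtain ⟨p', e', h⟩ := exists_pt ((g.2.2.1 _).2 (qf_pt p 1))
  refine ⟨p', fun e => ?_⟩
  by_cases he : e = 0
  · exact ⟨0, by rw [he, pt_zero, pt_zero, g.2.1]⟩
  obtain ⟨p'', e'', h'⟩ := exists_pt ((g.2.2.1 _).2 (qf_pt p e))
  have := (g.2.2.2 _ _).2 (bf_pt p 1 e)
  rw [h, h'] at this
  exact ⟨e'', by rw [h', eq_of_bf (h0 one_ne_zero h) (h0 he h') this]⟩

theorem img_eq (g : PS F q) {p p' : Option F} {e e' : K0 F q} (he : e ≠ 0)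
    (h : g.1 (pt p e) = pt p' e') : (exists_img g p).choose = p' := by
  obtain ⟨e'', h'⟩ := (exists_img g p).choose_spec e
  have h0 : ∀ {p' e'}, g.1 (pt p e) = pt p' e' → e' ≠ 0 := fun h h' =>
    pt_ne p he (g.1.injective (by rw [h, h', pt_zero, g.2.1]))
  exact eq_of_bf (h0 h') (h0 h) (by rw [← h', h]; exact bf_pt _ _ _)

noncomputable instance actPS : MulAction (PS F q) (Option F) where
  smul g p := (exists_img g p).choose
  one_smul p := img_eq 1 one_ne_zero rfl
  mul_smul g g' p := by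
    obtain ⟨e', h'⟩ := (exists_img g' p).choose_spec 1
    obtain ⟨e, h⟩ := (exists_img g _).choose_spec e'
    exact img_eq (g * g') one_ne_zero ((congrArg g.1 h').trans h)

theorem smul_spec (g : PS F q) (p : Option F) (e : K0 F q) :
    ∃ e', g.1 (pt p e) = pt (g • p) e' := (exists_img g p).choose_spec e

theorem smul_eq (g : PS F q) {p p' : Option F} {e' : K0 F q} (h : g.1 (pt p 1) = pt p' e') :
    g • p = p' := img_eq g one_ne_zero h

/-- translations -/
noncomputable def tr (c : F) : Equiv.Perm 𝕍 := Function.Involutive.toPerm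
  (fun v => (v.1, v.2.1 + v.1 * c, v.2.2 + cm q v.2.1 c + v.1 * nm q c)) fun v => by
    refine Prod.ext rfl (Prod.ext ?_ ?_)
    · simp only [add_assoc, CharTwo.add_self_eq_zero, add_zero]
    · simp only [cm_add_left, cm_smul_left, cm_self]
      linear_combination k0_add_self (cm q v.2.1 c + v.1 * nm q c)

/-- the inversion -/
def io : Equiv.Perm 𝕍 := Function.Involutive.toPerm (fun v => (v.2.2, v.2.1, v.1)) fun _ => rfl

theorem tr_apply (c : F) (v : 𝕍) :
    tr c v = (v.1, v.2.1 + v.1 * c, v.2.2 + cm q v.2.1 c + v.1 * nm q c) := rfl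
theorem io_apply (v : 𝕍) : io v = (v.2.2, v.2.1, v.1) := rfl

theorem tr_add (c : F) (v w : 𝕍) : tr c (v + w) = tr c v + tr c w := by
  refine Prod.ext rfl (Prod.ext ?_ ?_)
  · simp [tr_apply]; ring
  · simp [tr_apply, cm_add_left]; ring

theorem qf_tr (c : F) (v : 𝕍) : qf (tr c v) = qf v := by
  simp only [tr_apply, qf, nm_add, nm_mul, nm_k0, cm_smul_right]
  linear_combination k0_add_self (v.1 * cm q v.2.1 c + v.1 ^ 2 * nm q c)

theorem qf_io (v : 𝕍) : qf (io v) = qf v := by simp [io_apply, qf, mul_comm]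

/-- translations as elements of `PS` -/
noncomputable def trP (c : F) : PS F q :=
  ⟨tr c, mem_PS (tr_add c) (γ := id) (fun _ _ => rfl) (qf_tr c)⟩
/-- the inversion as an element of `PS` -/
noncomputable def ioP : PS F q := ⟨io, mem_PS (fun _ _ => rfl) (γ := id) (fun _ _ => rfl) qf_io⟩

theorem tr_none (c : F) : (trP c : PS F q) • (none : Option F) = none :=
  smul_eq _ (e' := 1) (by simp [trP, tr_apply, pt])
theorem tr_some (c x : F) : (trP c : PS F q) • some x = some (x + c) :=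
  smul_eq _ (e' := 1) (by simp [trP, tr_apply, pt, nm_add]; ring)
theorem io_none : (ioP : PS F q) • (none : Option F) = some 0 :=
  smul_eq _ (e' := 1) (by simp [ioP, io_apply, pt])
theorem io_zero : (ioP : PS F q) • (some 0 : Option F) = none :=
  smul_eq _ (e' := 1) (by simp [ioP, io_apply, pt])
theorem io_some {x : F} (hx : x ≠ 0) : (ioP : PS F q) • some x = some (σ x)⁻¹ := by
  have : σ x ≠ 0 := (map_ne_zero _).2 hx
  refine smul_eq _ (e' := nm q x) (Prod.ext (by simp [ioP, io_apply, pt]) (Prod.ext ?_ (k0_ext ?_)))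
  · simp [ioP, io_apply, pt]; field_simp
  · simp [ioP, io_apply, pt, H10.cj_cj]; field_simp

/-- semi-isometries fixing both points -/
theorem fix2 (g : PS F q) (hA : ∀ v v', g.1 (v + v') = g.1 v + g.1 v') {γ : K0 F q → K0 F q}
    (hγ : ∀ x y, γ (x + y) = γ x + γ y) (h : ∀ v, qf (g.1 v) = γ (qf v))
    (h0 : g • some (0 : F) = some 0) (h1 : g • (none : Option F) = none) :
    ∃ (l : F) (ψ : F ≃+* F), l ≠ 0 ∧ ∀ z, g • some z = some (l * ψ z) := by
  have hne : ∀ {v}, v ≠ 0 → g.1 v ≠ 0 := fun hv e => hv (g.1.injective (e.trans g.2.1.symm))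
  obtain ⟨e₁, he⟩ := smul_spec g (some 0) 1
  obtain ⟨b₁, hb⟩ := smul_spec g none 1
  rw [h0] at he
  rw [h1] at hb
  have he1 : e₁ ≠ 0 := fun e => hne (pt_ne _ one_ne_zero) (by rw [he, e, pt_zero])
  have hb1 : b₁ ≠ 0 := fun e => hne (pt_ne _ one_ne_zero) (by rw [hb, e, pt_zero])
  have ha : ∀ a, g.1 (0, a, 0) = (0, (g.1 (0, a, 0)).2.1, 0) := fun a => by
    have h2 := (g.2.2.2 (pt (some 0) 1) (0, a, 0)).2 (by simp [bf, pt])
    have h3 := (g.2.2.2 (pt none 1) (0, a, 0)).2 (by simp [bf, pt])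
    rw [he] at h2
    rw [hb] at h3
    exact Prod.ext (by simpa [bf, pt, hb1] using h3) (Prod.ext rfl (by simpa [bf, pt, he1] using h2))
  obtain ⟨l, ψ, hl, hα, -⟩ := semi (fun a => (g.1 (0, a, 0)).2.1) γ
    (fun x y => by simpa using congrArg (·.2.1) (hA (0, x, 0) (0, y, 0))) hγ
    (fun x => by have := h (0, x, 0); rw [ha] at this; simpa [qf] using this)
    (fun e => hne (v := (0, 1, 0)) (by simp) (by rw [ha, e]; rfl))
  have he' : (e₁ : F) ≠ 0 := fun h => he1 (k0_ext h)
  refine ⟨l / e₁, ψ, div_ne_zero hl he', fun z => ?_⟩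
  obtain ⟨e', h2⟩ := smul_spec g (some z) 1
  obtain ⟨b', h3⟩ := smul_spec g none (nm q z)
  rw [show pt (some z) 1 = pt (some 0) 1 + (0, z, 0) + pt none (nm q z) by simp [pt], hA, hA, he,
    ha, h3, h1, hα] at h2
  rcases hz : g • some z with _ | w
  · rw [hz] at h2
    exact absurd (by simpa [pt] using congrArg (·.1) h2) he1
  · rw [hz] at h2
    have h4 : e₁ = e' := by simpa [pt] using congrArg (·.1) h2
    have h5 : l * ψ z = e' * w := by simpa [pt] using congrArg (·.2.1) h2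
    rw [div_mul_eq_mul_div, h5, ← h4, mul_div_cancel_left₀ _ he']

variable (F q) in
/-- the multipliers of the torus -/
noncomputable def lam : Fˣ →* Fˣ := MonoidHom.mk' (fun k => k * k / Units.map (cj F q) k)
  fun a b => by rw [map_mul, mul_mul_mul_comm, mul_div_mul_comm]

theorem coe_lam (k : Fˣ) : (lam F q k : F) = k * k / σ k := by simp [lam]

theorem lam_big (hq : 4 ≤ q) : 2 + 2 * (lam F q).range.index < Nat.card (lam F q).range := by
  classical
  have h1 := (lam F q).range.card_mul_index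
  have h2 : (lam F q).range.index = Nat.card (lam F q).ker := by
    have h3 := (lam F q).ker.card_mul_index
    rw [index_ker, mul_comm, ← h1] at h3
    exact (Nat.eq_of_mul_eq_mul_left Nat.card_pos h3).symm
  rw [Nat.card_units, Nat.card_eq_fintype_card (α := F), hF.out] at h1
  have hk : ∀ k ∈ (lam F q).ker, (k : F) * k = σ k := fun k hk => by
    have := congrArg Units.val (MonoidHom.mem_ker.1 hk)
    rwa [coe_lam, Units.val_one, div_eq_one_iff_eq ((map_ne_zero _).2 k.ne_zero)] at this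
  by_cases h4 : q = 4
  · have : (lam F q).ker = ⊥ := eq_bot_iff.2 fun k hk' => Units.ext (eq_one_of_pow (k := 1) ?_)
    · rw [this, card_bot] at h2
      have h3 : q ^ 2 = 16 := by rw [h4]; rfl
      rw [h2] at h1
      omega
    have := hk k hk'
    rw [cj_apply, h4] at this
    exact mul_left_cancel₀ (mul_ne_zero k.ne_zero k.ne_zero) (by rw [mul_one]; linear_combination -this)
  have h5 : Nat.card (lam F q).ker ≤ 3 := by
    refine le_trans (Subgroup.card_le_of_le (K := rootsOfUnity 3 F) fun k hk' => ?_)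
      (card_rootsOfUnity F 3)
    have h6 := hk k hk'
    have h7 := congrArg σ h6
    rw [map_mul, H10.cj_cj, ← h6] at h7
    exact Units.ext (mul_left_cancel₀ k.ne_zero (by
      rw [Units.val_pow_eq_pow_val, Units.val_one, mul_one]; linear_combination h7))
  have h6 : q ≠ 5 := fun h => by
    obtain ⟨n, -, hn⟩ := FiniteField.card F 2
    have := dvd_pow_self 2 n.ne_zero
    rw [← hn, hF.out, h] at this
    omega
  have h7 : 36 ≤ q ^ 2 := Nat.pow_le_pow_left (show 6 ≤ q by omega) 2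
  rw [h2] at h1 ⊢
  by_contra h8
  have := Nat.mul_le_mul (show Nat.card (lam F q).range ≤ 8 by omega) h5
  omega

/-- the final count -/
theorem count (hq : 4 ≤ q) {c : F} (hc : c ≠ 0) (hc1 : c ≠ 1)
    (h : ∀ ν ∈ (lam F q).range, ∀ ν' ∈ (lam F q).range, ∀ l ∈ (lam F q).range,
      (ν : F) ≠ 1 → (ν : F) ≠ c → (ν' : F) ≠ 1 → (ν' : F) ≠ c →
      ((ν' : F) + 1) / (ν' + c) = l * ((ν + 1) / (ν + c)) →
      (c * ν' + 1) / (ν' + 1) = l * ((c * ν + 1) / (ν + 1))) : False := by
  classical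
  have h2 : (2 : F) = 0 := CharTwo.two_eq_zero
  have ne : ∀ {a b : F}, a ≠ b → a + b ≠ 0 := fun h e => h (CharTwo.add_eq_zero.1 e)
  let s : Finset Fˣ := (Finset.univ.filter (· ∈ (lam F q).range)) \ {1, Units.mk0 c hc}
  have hs : ∀ ν ∈ s, ν ∈ (lam F q).range ∧ (ν : F) ≠ 1 ∧ (ν : F) ≠ c := fun ν hν => by
    simp only [s, Finset.mem_sdiff, Finset.mem_filter, Finset.mem_insert, Finset.mem_singleton,
      not_or] at hν
    exact ⟨hν.1.2, fun e => hν.2.1 (Units.ext e), fun e => hν.2.2 (Units.ext e)⟩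
  let y : Fˣ → Fˣ := fun ν => if h : ((ν : F) + 1) / (ν + c) = 0 then 1 else Units.mk0 _ h
  have hy : ∀ ν ∈ s, (y ν : F) = (ν + 1) / (ν + c) := fun ν hν => by
    simp only [y]
    rw [dif_neg (div_ne_zero (ne (hs ν hν).2.1) (ne (hs ν hν).2.2)), Units.val_mk0]
  have h3 := Finset.card_le_mul_card_image_of_maps_to (s := s) (t := Finset.univ)
    (f := fun ν => (y ν : Fˣ ⧸ (lam F q).range)) (fun _ _ => Finset.mem_univ _) 2 fun b _ => by
      rcases (s.filter fun ν => (y ν : Fˣ ⧸ (lam F q).range) = b).eq_empty_or_nonempty with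
        e | ⟨ν, hν⟩
      · rw [e]; simp
      refine le_trans (Finset.card_le_card (t := {ν, ν⁻¹}) fun ν' hν' => ?_) Finset.card_le_two
      rw [Finset.mem_filter] at hν hν'
      obtain ⟨a1, a2, a3⟩ := hs ν hν.1
      obtain ⟨b1, b2, b3⟩ := hs ν' hν'.1
      have h4 := h ν a1 ν' b1 _ (QuotientGroup.eq.1 (hν.2.trans hν'.2.symm)) a2 a3 b2 b3 (by
        rw [← hy ν hν.1, ← hy ν' hν'.1, Units.val_mul, mul_right_comm, Units.inv_mul, one_mul])
      rw [Units.val_mul, Units.val_inv_eq_inv_val, hy ν hν.1, hy ν' hν'.1] at h4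
      have := ne a2; have := ne a3; have := ne b2; have := ne b3
      field_simp at h4
      have h5 : (c + 1) ^ 2 * ((ν' + ν) * (ν * ν' + 1)) = 0 := by
        linear_combination h4 + (c ^ 2 * ν * ν' ^ 2 + c ^ 2 * ν + ν * ν' ^ 2 + ν
          + 2 * c * ν ^ 2 * ν' + 2 * c * ν') * h2
      rw [Finset.mem_insert, Finset.mem_singleton]
      rcases mul_eq_zero.1 ((mul_eq_zero.1 h5).resolve_left (pow_ne_zero _ (ne hc1))) with e | e
      · exact Or.inl (Units.ext (CharTwo.add_eq_zero.1 e))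
      · exact Or.inr (eq_inv_of_mul_eq_one_right (Units.ext (CharTwo.add_eq_zero.1 e)))
  have h4 := Finset.le_card_sdiff ({1, Units.mk0 c hc} : Finset Fˣ)
    (Finset.univ.filter (· ∈ (lam F q).range))
  have h5 := lam_big (F := F) hq
  have h6 : ({1, Units.mk0 c hc} : Finset Fˣ).card ≤ 2 := Finset.card_le_two
  rw [index, Nat.card_eq_fintype_card, Nat.card_eq_fintype_card, Fintype.card_subtype] at h5
  rw [Finset.card_univ] at h3
  simp only [s] at h3
  omega

/-- the Möbius computation -/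
theorem moeb {Δ : Subgroup (PS F q)} (hq : 4 ≤ q)
    (hH : ∀ l ∈ (lam F q).range, ∃ h ∈ Δ, h • (none : Option F) = none ∧
      ∀ z, h • some z = some ((l : F) * z))
    (hV : ∀ g ∈ Δ, ∀ g' ∈ Δ, g • some (0 : F) = g' • some 0 → g • (none : Option F) = g' • none)
    {g : PS F q} (hg : g ∈ Δ) (hA : ∀ v v', g.1 (v + v') = g.1 v + g.1 v') {γ : K0 F q → K0 F q}
    (hγ : ∀ x y, γ (x + y) = γ x + γ y) (h : ∀ v, qf (g.1 v) = γ (qf v)) {x x' : F} (hx : x ≠ 0)
    (hx' : x' ≠ 0) (h0 : g • some (0 : F) = some x) (h1 : g • (none : Option F) = some x') :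
    False := by
  have h2 : (2 : F) = 0 := CharTwo.two_eq_zero
  have ne : ∀ {a b : F}, a ≠ b → a + b ≠ 0 := fun h e => h (CharTwo.add_eq_zero.1 e)
  have hxx : x + x' ≠ 0 := ne fun e => by
    rw [e, ← h1] at h0
    exact absurd (smul_left_cancel g h0) (by simp)
  have s0 : ∀ {a : F}, a ≠ 0 → σ a ≠ 0 := fun h => (map_ne_zero _).2 h
  let u := (σ (x + x'))⁻¹
  let κ : PS F q := trP u * ioP * trP x'
  have k1 : κ • some x' = none := by
    rw [mul_smul, mul_smul, tr_some, CharTwo.add_self_eq_zero, io_zero, tr_none]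
  have k2 : κ • (none : Option F) = some u := by
    rw [mul_smul, mul_smul, tr_none, io_none, tr_some, zero_add]
  have k3 : ∀ z, z + x' ≠ 0 → κ • some z = some ((σ (z + x'))⁻¹ + u) := fun z hz => by
    rw [mul_smul, mul_smul, tr_some, io_some hz, tr_some]
  obtain ⟨l, ψ, hl, hψ⟩ := fix2 (κ * g)
    (fun v v' => by
      change tr u (io (tr x' (g.1 (v + v')))) = tr u (io (tr x' (g.1 v))) + tr u (io (tr x' (g.1 v')))
      rw [hA, tr_add x', ← tr_add u]; rfl) hγ
    (fun v => by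
      change qf (tr u (io (tr x' (g.1 v)))) = _
      rw [qf_tr, qf_io, qf_tr, h])
    (by rw [mul_smul, h0, k3 x hxx, CharTwo.add_self_eq_zero]) (by rw [mul_smul, h1, k1])
  have key : ∀ ν ∈ (lam F q).range, (ν : F) ≠ 1 → (ν : F) ≠ x' / x → ∃ m ∈ Δ,
      m • some (0 : F) = some (x' * ((ν + 1) / (ν + x' / x))) ∧
      m • (none : Option F) = some (x * ((x' / x * ν + 1) / (ν + 1))) := by
    rintro _ ⟨k, rfl⟩ n1 n2
    obtain ⟨h, hh, -, h3⟩ := hH _ ⟨Units.map ((ψ.symm : F →* F).comp (σ : F →* F)) k, rfl⟩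
    have h4 : ∀ z, κ • (g * h * g⁻¹) • κ⁻¹ • some z = some (σ (lam F q k : F) * z) := fun z => by
      have h5 := hψ (ψ.symm (z / l))
      rw [RingEquiv.apply_symm_apply, mul_div_cancel₀ _ hl, ← eq_inv_smul_iff, mul_inv_rev,
        mul_smul] at h5
      rw [mul_smul (g * h), mul_smul g, ← h5, h3, ← mul_smul, hψ]
      congr 1
      simp [coe_lam, map_cj (q := q)]
      field_simp
    generalize (lam F q k : F) = ν at n1 n2 h4
    have n3 := ne n1
    have n4 := ne n2
    have n5 : ν * x + x' ≠ 0 := fun e => n4 (by field_simp; linear_combination e)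
    refine ⟨g * h * g⁻¹, mul_mem (mul_mem hg hh) (inv_mem hg), smul_left_cancel κ ?_,
      smul_left_cancel κ ?_⟩
    · have h5 := h4 ((σ (0 + x'))⁻¹ + u)
      rw [← k3 0 (by rwa [zero_add]), inv_smul_smul] at h5
      have h6 : x' * ((ν + 1) / (ν + x' / x)) + x' = x' * (x + x') / (ν * x + x') := by
        field_simp
        linear_combination (ν * x) * h2
      rw [h5, k3 _ (by rw [h6]; positivity), h6]
      congr 1
      apply (sg F q).injective
      simp only [u, sg_apply, map_mul, map_add, map_inv₀, H10.cj_cj, map_div₀, zero_add]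
      field_simp
      linear_combination (ν * x' - x') * h2
    · have h5 := h4 u
      rw [← k2, inv_smul_smul] at h5
      have h6 : x * ((x' / x * ν + 1) / (ν + 1)) + x' = (x + x') / (ν + 1) := by
        field_simp
        linear_combination (ν * x') * h2
      rw [h5, k3 _ (by rw [h6]; positivity), h6]
      congr 1
      apply (sg F q).injective
      simp only [u, sg_apply, map_mul, map_add, map_inv₀, H10.cj_cj, map_div₀, map_one]
      field_simp
      linear_combination (-1) * h2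
  refine count hq (div_ne_zero hx' hx) (fun e => hxx ?_) fun ν hν ν' hν' l hl a1 a2 b1 b2 e => ?_
  · rw [(div_eq_one_iff_eq hx).1 e, CharTwo.add_self_eq_zero]
  obtain ⟨m, hm, m1, m2⟩ := key ν hν a1 a2
  obtain ⟨m', hm', m3, m4⟩ := key ν' hν' b1 b2
  obtain ⟨h, hh, -, h3⟩ := hH l hl
  have := hV m' hm' (h * m) (mul_mem hh hm) (by rw [mul_smul, m1, m3, h3, e, mul_left_comm])
  rw [mul_smul, m2, m4, h3, mul_left_comm] at this
  exact mul_left_cancel₀ hx (Option.some.inj this)

end LAx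

open LAx in
/-- Groups of semi-isometries of the quadratic form `N(a) + e b` that contain the torus and in
which the stabiliser of the point `V` fixes the point `W`. -/
theorem la (hq : 4 ≤ q) (Γ : Subgroup (Equiv.Perm (K0 F q × F × K0 F q)))
    (hA : ∀ g ∈ Γ, ∀ v v', g (v + v') = g v + g v')
    (hQ : ∀ g ∈ Γ, ∃ γ : K0 F q → K0 F q, (∀ x y, γ (x + y) = γ x + γ y) ∧ ∀ v,
      nm q (g v).2.1 + (g v).1 * (g v).2.2 = γ (nm q v.2.1 + v.1 * v.2.2))
    (hH : ∀ k : F, k ≠ 0 → ∃ g ∈ Γ, ∀ e a b,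
      g (e, a, b) = (e, k * k / cj F q k * a, nm q (k * k / cj F q k) * b))
    (hV : ∀ g ∈ Γ, (∀ e, ∃ e', g (e, 0, 0) = (e', 0, 0)) → ∀ b, ∃ b', g (0, 0, b) = (0, 0, b'))
    {g₀ : Equiv.Perm (K0 F q × F × K0 F q)} (hg₀ : g₀ ∈ Γ) {e₀ : K0 F q}
    (ha : (g₀ (e₀, 0, 0)).2.1 ≠ 0) : ∀ g ∈ Γ, ∀ b, ∃ b', g (0, 0, b) = (0, 0, b') := by
  have hP : Γ ≤ PS F q := fun g hg => (hQ g hg).elim fun γ h => mem_PS (hA g hg) h.1 h.2
  let Δ := Γ.subgroupOf (PS F q)
  have hH' : ∀ l ∈ (lam F q).range, ∃ h ∈ Δ, h • (none : Option F) = none ∧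
      ∀ z, h • some z = some ((l : F) * z) := by
    rintro _ ⟨k, rfl⟩
    obtain ⟨h, hh, h1⟩ := hH k k.ne_zero
    exact ⟨⟨h, hP hh⟩, hh, smul_eq _ (by simpa [pt] using h1 0 0 1), fun z =>
      smul_eq _ (e' := 1) (by simpa [pt, coe_lam, nm_mul] using h1 1 z (nm q z))⟩
  have hV1 : ∀ g ∈ Δ, g • some (0 : F) = some 0 → g • (none : Option F) = none := fun g hg h => by
    obtain ⟨b, hb⟩ := hV g.1 hg (fun e => (smul_spec g (some 0) e).imp fun e' he => by
      rw [h] at he; simpa [pt] using he) 1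
    exact smul_eq g hb
  have hV' : ∀ g ∈ Δ, ∀ g' ∈ Δ, g • some (0 : F) = g' • some 0 →
      g • (none : Option F) = g' • none := fun g hg g' hg' h => by
    have := hV1 _ (mul_mem (inv_mem hg') hg) (by rw [mul_smul, h, inv_smul_smul])
    rwa [mul_smul, inv_smul_eq_iff] at this
  obtain ⟨k, hk, -, hk1⟩ := exists_eta (F := F) hq
  obtain ⟨h, hh, hn, hz⟩ := hH' _ ⟨Units.mk0 k hk, rfl⟩
  have hl0 := (lam F q (Units.mk0 k hk)).ne_zero
  have hl1 : (lam F q (Units.mk0 k hk) : F) ≠ 1 := by rwa [coe_lam]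
  generalize (lam F q (Units.mk0 k hk) : F) = l at hz hl0 hl1
  have main : ∀ g ∈ Δ, ∀ x : F, x ≠ 0 → g • some (0 : F) = some x →
      g • (none : Option F) = none := fun g hg x hx h0 => by
    rcases h1 : g • (none : Option F) with _ | x'
    · rfl
    by_cases hx' : x' = 0
    · have h2 := hV1 _ (mul_mem (mul_mem hg hh) (inv_mem hg)) (by
        rw [mul_smul, mul_smul, ← hx', ← h1, inv_smul_smul, hn])
      rw [mul_smul, mul_smul, ← eq_inv_smul_iff] at h2
      rcases h3 : g⁻¹ • (none : Option F) with _ | w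
      · rw [inv_smul_eq_iff, h1] at h3
        exact absurd h3 (by simp)
      · rw [h3, hz, Option.some.injEq] at h2
        have h4 : w = 0 := by
          by_contra h4
          exact hl1 (mul_right_cancel₀ h4 (h2.trans (one_mul w).symm))
        rw [h4, inv_smul_eq_iff, h0] at h3
        exact absurd h3 (by simp)
    · obtain ⟨γ, hγ, h2⟩ := hQ g.1 hg
      exact (moeb hq hH' hV' hg (hA g.1 hg) hγ h2 hx hx' h0 h1).elim
  obtain ⟨x₀, hx₀, h0⟩ : ∃ x₀ : F, x₀ ≠ 0 ∧ (⟨g₀, hP hg₀⟩ : PS F q) • some (0 : F) = some x₀ := by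
    obtain ⟨e', he⟩ := smul_spec ⟨g₀, hP hg₀⟩ (some 0) e₀
    rw [show pt (some 0) e₀ = (e₀, 0, 0) by simp [pt]] at he
    change g₀ _ = _ at he
    rw [he] at ha
    rcases h1 : (⟨g₀, hP hg₀⟩ : PS F q) • some (0 : F) with _ | x
    · rw [h1] at ha
      exact absurd rfl ha
    · rw [h1] at ha
      exact ⟨x, right_ne_zero_of_mul ha, rfl⟩
  have h1 := main ⟨g₀, hP hg₀⟩ hg₀ x₀ hx₀ h0
  have last : ∀ g ∈ Δ, g • (none : Option F) = none := fun g hg => by
    have h2 : ∀ m ∈ Δ, m • (none : Option F) = none → ∀ y, g • m • some (0 : F) = some y →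
        y = 0 ∨ g • (none : Option F) = none := fun m hm h2 y h3 => or_iff_not_imp_left.2 fun hy => by
      have := main _ (mul_mem hg hm) y hy (by rw [mul_smul, h3])
      rwa [mul_smul, h2] at this
    by_contra h3
    have h4 : ∀ m ∈ Δ, m • (none : Option F) = none →
        g • m • some (0 : F) = none ∨ g • m • some (0 : F) = some 0 := fun m hm h4 => by
      rcases h5 : g • m • some (0 : F) with _ | y
      · exact Or.inl rfl
      · exact Or.inr (by rw [(h2 m hm h4 y h5).resolve_right h3])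
    have a1 := h4 1 (one_mem _) (one_smul _ _)
    have a2 := h4 _ (show (⟨g₀, hP hg₀⟩ : PS F q) ∈ Δ from hg₀) h1
    have a3 := h4 _ (mul_mem hh (show (⟨g₀, hP hg₀⟩ : PS F q) ∈ Δ from hg₀))
      (by rw [mul_smul, h1, hn])
    rw [one_smul] at a1
    rw [mul_smul, h0, hz] at a3
    rw [h0] at a2
    have ne : ∀ {a b : F} {p : Option F}, g • some a = p → g • some b = p → a = b := fun h h' =>
      Option.some.inj (smul_left_cancel g (h.trans h'.symm))
    have b1 : l * x₀ ≠ 0 := mul_ne_zero hl0 hx₀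
    have b2 : l * x₀ ≠ x₀ := fun e => hl1 (mul_right_cancel₀ hx₀ (e.trans (one_mul _).symm))
    rcases a1 with a1 | a1 <;> rcases a2 with a2 | a2 <;> rcases a3 with a3 | a3 <;>
      first | exact hx₀ (ne a2 a1) | exact b1 (ne a3 a1) | exact b2 (ne a3 a2)
  intro g hg b
  have := smul_spec ⟨g, hP hg⟩ none b
  rwa [last _ hg] at this

end Cfsg.Agent.GMS
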