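import Cfsg.Agent.GMS.CaseI

set_option autoImplicit false
set_option linter.unusedSectionVars false

namespace Cfsg.Agent.GMS

open Subgroup H10 H91
open H42 hiding SylIn

variable {G : Type*} [Group G] [Finite G] {F : Type*} [Field F] [Fintype F] [CharP F 2] {q : ℕ}
  [hF : Fact (Fintype.card F = q ^ 2)]

namespace Fr1

variable {c : Ctx G F q} (f : Fr1 c)

theorem lam_card {s : G} (hs : s ∈ f.P) : Nat.card c.X ≤ Nat.card ↥(f.P ⊓ centralizer {s}) := by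
  let φ : f.P →* Multiplicative (K0 F q) := MonoidHom.mk'
    (fun p => Multiplicative.ofAdd (cm q (f.a p) (f.a s) + f.e p * f.b s + f.e s * f.b p)) fun p p' => by
      rw [← ofAdd_add, coe_mul, f.a_mul _ p.2 _ p'.2, f.e_mul _ p.2 _ p'.2, f.b_mul _ p.2 _ p'.2,
        cm_add_left]
      congr 1; ring
  have h1 : φ.ker = (centralizer {s}).subgroupOf f.P := by
    ext p
    rw [MonoidHom.mem_ker, mem_subgroupOf, mem_centralizer_singleton_iff, f.comm_iff p.2 hs]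
    exact ofAdd_eq_one
  have h2 := φ.ker.card_mul_index
  have h3 : Nat.card φ.range ≤ q := by
    have := card_le_card_group φ.range
    rwa [Nat.card_congr Multiplicative.toAdd, card_k0] at this
  rw [index_ker, h1, H49.card_subgroupOf, inf_comm, f.card_P] at h2
  have h4 := Nat.mul_le_mul_left (Nat.card ↥(f.P ⊓ centralizer {s})) h3
  rw [h2, pow_succ, ← mul_assoc, ← c.card_X] at h4
  exact Nat.le_of_mul_le_mul_right h4 (by have := c.q4; omega)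

theorem exists_nrm {s : G} (hs : s ∈ f.P) (h : c.Tc s) :
    ∃ g ∈ normalizer (f.P : Set G), ∃ r ∈ c.R, r ≠ 1 ∧ g * r * g⁻¹ = s := by
  obtain ⟨r, hr, r1, h⟩ := h
  obtain ⟨g0, rfl⟩ := isConj_iff.1 h
  obtain ⟨k, hk, hT⟩ := c.frame' (D := f.P ⊓ centralizer {g0 * r * g0⁻¹}) f.pg.to_inf_left hr r1
    fun y hy => mem_centralizer_singleton_iff.1 hy.2
  have e : g0 * k * r * (g0 * k)⁻¹ = g0 * r * g0⁻¹ := by
    rw [mul_assoc g0, (c.RC r hr r1 k).2 hk]; group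
  have hc := f.lam_card hs
  have hP : f.P ⊓ centralizer {g0 * r * g0⁻¹} ≤ f.P := inf_le_left
  generalize f.P ⊓ centralizer {g0 * r * g0⁻¹} = D at hT hc hP
  refine ⟨g0 * k, ?_, r, hr, r1, e⟩
  generalize g0 * k = g at hT
  have hX := c.DX (D := H49.cj g⁻¹ D) (fun y hy => by
      obtain ⟨x, hx, rfl⟩ := H49.mem_cj'.1 hy
      rw [inv_inv]; exact hT x hx)
    (fun x hx y hy => by
      obtain ⟨x, hx', rfl⟩ := H49.mem_cj'.1 hx
      obtain ⟨y, hy', rfl⟩ := H49.mem_cj'.1 hy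
      calc _ = g⁻¹ * (x * y * x⁻¹ * y⁻¹ * (x * y * x⁻¹ * y⁻¹)) * g := by group
        _ = 1 := by rw [f.ci_comm (hP hx') (hP hy'), c.z_sq]; group)
    (by rwa [H49.card_cj])
  have m : ∀ x ∈ c.X, g * x * g⁻¹ ∈ f.P := fun x hx => hP (by
    rwa [← hX, H49.mem_cj, inv_inv] at hx)
  have hZ : g ∈ normalizer (c.Z : Set G) := mem_normalizer_fintype fun x hx => by
    obtain ⟨k, rfl⟩ := c.mem_Z.1 hx
    obtain ⟨x, hx⟩ := cm_surj (q := q) (one_ne_zero (α := F)) k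
    obtain ⟨y, hy, a1, a2, a3⟩ := f.ci_p0 1 0
    obtain ⟨y', hy', b1, b2, b3⟩ := f.ci_p0 x 0
    have e1 := f.ci_comm hy hy'
    rw [a1, a2, b1, b2, hx, zero_mul, zero_mul, add_zero, add_zero] at e1
    refine c.mem_Z.2 ⟨_, Eq.trans ?_ (f.ci_comm (m y (f.mem_X.2 ⟨hy, a3⟩)) (m y' (f.mem_X.2 ⟨hy', b3⟩)))⟩
    rw [← e1]; group
  refine (inv_mem_iff (x := g)).1 (mem_normalizer_fintype fun y hy => f.max _ ?_ fun x hx => ?_)
  · obtain ⟨n, hn⟩ := f.pg ⟨y, hy⟩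
    exact ⟨n, by rw [conj_pow, show y ^ 2 ^ n = 1 from congrArg Subtype.val hn]; group⟩
  · obtain ⟨k', e'⟩ := c.mem_Z.1 ((mem_normalizer_iff.1 (inv_mem hZ) _).1 (c.mem_Z.2
      ⟨cm q (f.a y) (f.a (g * x * g⁻¹)) + f.e y * f.b (g * x * g⁻¹) + f.e (g * x * g⁻¹) * f.b y, rfl⟩))
    refine ⟨k', ?_⟩
    calc _ = g⁻¹ * (y * (g * x * g⁻¹) * y⁻¹) * g := by group
      _ = _ := by rw [f.ci_conj hy (m x hx), ← e']; group

/-- `p ↦ [p, y]` is onto `Z` -/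
def LamO (y : G) : Prop := ∀ k, ∃ p ∈ f.P, p * y * p⁻¹ * y⁻¹ = c.z k

theorem lamO_cj {g y : G} (hg : g ∈ normalizer (f.P : Set G)) (h : f.LamO y) : f.LamO (g * y * g⁻¹) :=
  fun k => by
  obtain ⟨k', e⟩ := f.nrm_Z (inv_mem hg) k
  obtain ⟨p, hp, e'⟩ := h k'
  refine ⟨_, (mem_normalizer_iff.1 hg p).1 hp, ?_⟩
  calc _ = g * (p * y * p⁻¹ * y⁻¹) * g⁻¹ := by group
    _ = _ := by rw [e', ← e]; group

theorem lamO_of {y : G} (hy : y ∈ f.P) (h : y ∉ f.W) : f.LamO y := fun k => by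
  by_cases he : f.e y = 0
  · obtain ⟨x, hx⟩ := cm_surj (q := q) (a := f.a y) (fun ha => h ⟨hy, he, ha⟩) k
    obtain ⟨p, hp, a1, a2, a3⟩ := f.ci_p0 x 0
    exact ⟨p, hp, by rw [f.ci_comm hp hy]; simp [a1, a2, a3, cm_comm x, hx]⟩
  · obtain ⟨p, hp, a1, a2, a3⟩ := f.ci_p0 0 (k / f.e y)
    exact ⟨p, hp, by rw [f.ci_comm hp hy]; simp [a1, a2, a3, mul_div_cancel₀ _ he]⟩

theorem lam_X {r y : G} (hr : r ∈ c.R) (h1 : r ≠ 1) (hy : y ∈ f.P) : y * r = r * y ↔ f.b y = 0 := by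
  have := f.mR r hr
  rw [f.comm_iff hy this.1, this.2.1, this.2.2, cm_zero_right, mul_zero, add_zero, zero_add,
    mul_eq_zero, or_iff_right (mt (f.eR r hr) h1)]

theorem tri {s : G} (hs : s ∈ f.P) (h : c.Tc s) (hb : f.b s ≠ 0) :
    (f.cc = 0 ∧ f.e s ≠ 0 ∧ f.a s ≠ 0) ∨
    ((∀ r ∈ c.R, r = 1 ∨ r = c.t) ∧ f.cc = 1 ∧ f.a s = 0) ∨
    (f.cc = 0 ∧ s ∈ f.W ∧ ∀ k, ∃ r ∈ c.R, f.e r = k) := by
  obtain ⟨g, hg, r, hr, r1, e⟩ := f.exists_nrm hs h
  have mi : ∀ y ∈ f.P, g⁻¹ * y * g ∈ f.P := fun y hy => (mem_normalizer_iff''.1 hg y).1 hy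
  have tr : ∀ x y : G, x * y = y * x ↔ g⁻¹ * x * g * (g⁻¹ * y * g) = g⁻¹ * y * g * (g⁻¹ * x * g) :=
    fun x y => by
    rw [show g⁻¹ * x * g * (g⁻¹ * y * g) = g⁻¹ * (x * y) * g by group,
      show g⁻¹ * y * g * (g⁻¹ * x * g) = g⁻¹ * (y * x) * g by group, mul_left_inj, mul_right_inj]
  have cs : ∀ y ∈ f.P, y * s = s * y ↔ f.b (g⁻¹ * y * g) = 0 := fun y hy => by
    rw [tr, ← f.lam_X hr r1 (mi y hy), ← e, show g⁻¹ * (g * r * g⁻¹) * g = r by group]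
  have sq : ∀ y ∈ f.P, y * s = s * y → (y * y = 1 ↔ f.a (g⁻¹ * y * g) = 0) := fun y hy h => by
    have := f.sq _ (mi y hy)
    rw [(cs y hy).1 h, mul_zero, add_zero] at this
    rw [← nm_eq_zero (q := q), ← c.z_eq_one, ← this,
      show g⁻¹ * y * g * (g⁻¹ * y * g) = g⁻¹ * (y * y) * g by group]
    exact ⟨fun h => by rw [h]; group, fun h => by
      rw [show y * y = g * (g⁻¹ * (y * y) * g) * g⁻¹ by group, h]; group⟩
  have h1 : ∀ y ∈ f.P, y * s = s * y → y * y = 1 → ∀ y' ∈ f.P, y' * s = s * y' → y * y' = y' * y :=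
    fun y hy h h2 y' hy' h' => by
    rw [tr, f.comm_iff (mi y hy) (mi y' hy'), (sq y hy h).1 h2, (cs y hy).1 h, (cs y' hy').1 h']
    simp
  have h2 : ∀ y ∈ f.P, y * s = s * y → (∀ y' ∈ f.P, y' * s = s * y' → y * y' = y' * y) → y * y = 1 :=
    fun y hy h h' => (sq y hy h).2 (by_contra fun ha => by
      obtain ⟨x, hx⟩ := cm_surj (q := q) ha 1
      obtain ⟨p, hp, a1, a2, a3⟩ := f.ci_p0 x 0
      have hp' := (mem_normalizer_iff.1 hg p).1 hp
      have ep : g⁻¹ * (g * p * g⁻¹) * g = p := by group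
      have := h' _ hp' ((cs _ hp').2 (by rw [ep, a3]))
      rw [tr, ep, f.comm_iff (mi y hy) hp] at this
      simp [a1, a2, a3, hx] at this)
  have s2 := f.sq s hs
  rw [← e, show g * r * g⁻¹ * (g * r * g⁻¹) = g * (r * r) * g⁻¹ by group, c.Re r hr, mul_one,
    mul_inv_cancel, e, eq_comm, c.z_eq_one] at s2
  by_cases he : f.e s = 0
  · by_cases ha : f.a s = 0
    · refine Or.inr (Or.inr ⟨by simpa [he, ha, hb] using s2, ⟨hs, he, ha⟩, fun k => ?_⟩)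
      obtain ⟨p, hp, ep⟩ := f.lamO_cj hg (f.lamO_of (f.mR r hr).1 fun k => r1 (f.eR r hr k.2.1)) (k * f.b s)
      rw [e, f.ci_comm hp hs, c.z_inj] at ep
      obtain ⟨r', hr', er⟩ := f.eP p hp
      exact ⟨r', hr', by simpa [he, ha, hb, er] using ep⟩
    · exfalso
      obtain ⟨κ, k0, k1⟩ := exists_k0 (F := F) c.q4
      obtain ⟨x, hx⟩ := cm_surj (q := q) ha (f.b s)
      obtain ⟨y, hy, a1, a2, a3⟩ := f.ci_p0 (κ * f.a s) (κ ^ 2 * f.b s)
      obtain ⟨y', hy', b1, b2, b3⟩ := f.ci_p1 x 0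
      have := h1 y hy ((f.comm_iff hy hs).2 (by simp [a1, a2, he, cm_smul_left])) (by
        rw [f.sq y hy, c.z_eq_one, a1, a2, a3, nm_mul, nm_k0]
        rw [he] at s2
        linear_combination κ ^ 2 * s2) y' hy'
        ((f.comm_iff hy' hs).2 (by simp [b1, b2, he, cm_comm x, hx, k0_add_self]))
      rw [f.comm_iff hy hy', a1, a2, a3, b1, b2, cm_smul_left, hx] at this
      have h3 : κ * (1 + κ) * f.b s = 0 := by linear_combination this
      exact k1 (CharTwo.add_eq_zero.1 ((mul_eq_zero.1 ((mul_eq_zero.1 h3).resolve_right hb)).resolve_left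
        k0)).symm
  by_cases ha : f.a s = 0
  · have hc : f.cc = f.e s := CharTwo.add_eq_zero.1 (by simpa [ha, hb] using s2)
    have key : ∀ r ∈ c.R, f.e r = 0 ∨ f.e r = f.cc := fun r' hr' => by
      obtain ⟨y, hy, a1, a2, a3⟩ := f.exists_p hr' 0 (f.e r' * f.b s / f.e s)
      have := h2 y hy ((f.comm_iff hy hs).2 (by
        simp [a1, a2, a3, mul_div_cancel₀ _ he, k0_add_self])) fun y' hy' h' => by
        rw [f.comm_iff hy' hs, ha, cm_zero_right, zero_add] at h'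
        rw [f.comm_iff hy hy', a1, a2, a3, cm_zero_left, zero_add]
        field_simp
        linear_combination f.e r' * h'
      rw [f.sq y hy, c.z_eq_one, a1, a2, a3, nm_zero, zero_add, mul_eq_zero] at this
      rcases this with k | k
      · exact Or.inr (CharTwo.add_eq_zero.1 k).symm
      · exact Or.inl (by simpa [he, hb] using k)
    have c1 : f.cc = 1 := by
      have := key _ c.tR
      rw [f.et] at this
      exact (this.resolve_left one_ne_zero).symm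
    refine Or.inr (Or.inl ⟨fun r' hr' => (key r' hr').imp (f.eR r' hr') fun k => ?_, c1, ha⟩)
    have := f.eR _ (mul_mem hr' c.tR) (by
      rw [f.e_mul _ (f.mR _ hr').1 _ (f.mR _ c.tR).1, k, c1, f.et, k0_add_self])
    rw [eq_inv_of_mul_eq_one_left this, inv_eq_of_mul_eq_one_right c.t2]
  refine Or.inl ⟨by_contra fun c0 => ?_, he, ha⟩
  obtain ⟨x, hx⟩ := cm_surj (q := q) ha 1
  have x0 : x ≠ 0 := fun e => by simp [e] at hx
  have n0 : nm q x ≠ 0 := mt nm_eq_zero.1 x0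
  obtain ⟨x', hx'⟩ := cm_surj (q := q) x0 1
  obtain ⟨y, hy, a1, a2, a3⟩ := f.ci_p0 ((f.cc / (f.e s * nm q x) : K0 F q) * x)
    (f.cc / (f.e s * nm q x) / f.e s)
  obtain ⟨y', hy', b1, b2, b3⟩ := f.ci_p0 x' (cm q x' (f.a s) / f.e s)
  have := h1 y hy ((f.comm_iff hy hs).2 (by
      rw [a1, a2, a3, cm_smul_left, cm_comm x, hx, mul_div_cancel₀ _ he, zero_mul, add_zero, mul_one,
        k0_add_self])) (by
      rw [f.sq y hy, c.z_eq_one, a1, a2, a3, nm_mul, nm_k0, add_zero]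
      field_simp
      linear_combination k0_add_self (f.cc ^ 2)) y' hy'
    ((f.comm_iff hy' hs).2 (by simp [b1, b2, b3, mul_div_cancel₀ _ he, k0_add_self]))
  rw [f.comm_iff hy hy', a1, a2, b1, b2, cm_smul_left, hx'] at this
  simp [c0, he, n0] at this

theorem nrm_W (h : ∃ k, ∀ r ∈ c.R, f.e r ≠ k) {g : G} (hg : g ∈ normalizer (f.P : Set G)) :
    g ∈ normalizer (f.W : Set G) := by
  refine mem_normalizer_fintype fun y hy => by_contra fun h1 => ?_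
  have h2 := f.lamO_cj (inv_mem hg) (f.lamO_of ((mem_normalizer_iff.1 hg y).1 hy.1) h1)
  rw [show g⁻¹ * (g * y * g⁻¹) * g⁻¹⁻¹ = y by group] at h2
  obtain ⟨k, hk⟩ := h
  by_cases hb : f.b y = 0
  · obtain ⟨p, hp, e⟩ := h2 1
    rw [f.ci_comm hp hy.1, c.z_inj] at e
    simp [hy.2.1, hy.2.2, hb] at e
  · obtain ⟨p, hp, e⟩ := h2 (k * f.b y)
    rw [f.ci_comm hp hy.1, c.z_inj] at e
    obtain ⟨r, hr, er⟩ := f.eP p hp
    exact hk r hr (by simpa [hy.2.1, hy.2.2, hb, er] using e)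

/-- the stabiliser of `V` in `N(P)` -/
theorem stab_V {g r : G} (hg : g ∈ normalizer (f.P : Set G)) (hr : r ∈ c.R) (h1 : r ≠ 1)
    (h : g * r * g⁻¹ ∈ c.V) : ∃ w ∈ f.W, w * g ∈ normalizer (c.R : Set G) ∧
      w * g ∈ normalizer (c.Q : Set G) ∧ w * g ∈ normalizer (centralizer {c.t} : Set G) := by
  obtain ⟨r', hr', k, e⟩ := c.mem_V.1 h
  have r1 : r' ≠ 1 := by
    rintro rfl
    exact c.z_not_Tc k ⟨r, hr, h1, isConj_iff.2 ⟨g, by rw [e, one_mul]⟩⟩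
  obtain ⟨w, hw, e'⟩ := f.conj_W hr' r1 k
  obtain ⟨a1, a2⟩ := c.norm_R (g := w⁻¹ * g) hr h1 (by
    rw [show w⁻¹ * g * r * (w⁻¹ * g)⁻¹ = w⁻¹ * (g * r * g⁻¹) * w by group, e, ← e']
    simpa [mul_assoc] using hr')
  refine ⟨w⁻¹, inv_mem hw, a1, c.norm_Q (mem_normalizer_fintype fun x hx => ?_) a2, a2⟩
  have a3 : w⁻¹ * g ∈ normalizer (f.P : Set G) := mul_mem (inv_mem (le_normalizer hw.1)) hg
  have a4 := f.mem_X.1 hx
  have a5 := (mem_normalizer_iff.1 a3 x).1 a4.1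
  exact f.mem_X.2 ⟨a5, (f.lam_X c.tR c.t1 a5).1 (mem_centralizer_singleton_iff.1
    ((mem_normalizer_iff.1 a2 x).1 (mem_centralizer_singleton_iff.2 ((f.lam_X c.tR c.t1 a4.1).2 a4.2))))⟩

end Fr1

end Cfsg.Agent.GMS
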