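import Cfsg.Agent.GMS.PQ3

set_option autoImplicit false
set_option linter.unusedSectionVars false

namespace Cfsg.Agent.GMS

open Subgroup H10 H91
open H42 hiding SylIn

variable {G : Type*} [Group G] [Finite G] {F : Type*} [Field F] [Fintype F] [CharP F 2] {q : ℕ}
  [hF : Fact (Fintype.card F = q ^ 2)]

theorem pq_line (l : F) (m : K0 F q) : ∃ a, nm q (a + l * H10.cj F q a) = m := by
  obtain ⟨a, ha⟩ : ∃ a, a + l * H10.cj F q a ≠ 0 := by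
    by_contra hh
    push Not at hh
    have h1 : l = 1 := (CharTwo.add_eq_zero.1 (by simpa using hh 1)).symm
    obtain ⟨x, hx⟩ := tr_surj (1 : K0 F q)
    have := hh x
    rw [h1, one_mul, hx] at this
    exact one_ne_zero this
  obtain ⟨k, hk⟩ := sq_surj (m / nm q (a + l * H10.cj F q a))
  refine ⟨k * a, ?_⟩
  rw [map_mul, cj_k0, mul_left_comm, ← mul_add, nm_mul, nm_k0, hk,
    div_mul_cancel₀ _ (nm_eq_zero.not.2 ha)]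

theorem pq_logic {a0 a1 b0 b1 c0 c1 : Prop} (na : ¬(a0 ∧ a1)) (nb : ¬(b0 ∧ b1)) (nc : ¬(c0 ∧ c1))
    (m0 : c0 ↔ (a0 ↔ b0)) (m1 : c1 ↔ (a1 ↔ b1)) :
    ((¬a0 ∧ a1) ∨ (¬b0 ∧ b1) ∨ (¬c0 ∧ c1)) ∧ ((¬a0 ∧ ¬a1) ∨ (¬b0 ∧ ¬b1) ∨ (¬c0 ∧ ¬c1)) := by
  by_cases a0 <;> by_cases a1 <;> by_cases b0 <;> by_cases b1 <;> simp_all

namespace PQ

variable (p : PQ G F q)

theorem ns_zero {g y : G} (h : p.NS g) (hy : y ∈ p.Y) {j : Bool} (h0 : p.x j y = 0) :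
    p.x j (g * y * g⁻¹) = 0 := by
  obtain ⟨l, φ, h⟩ := h
  simpa [h0] using h.2.1 y hy j

theorem cent_of_conj {s w : G} (hs : s ∈ p.S) (hw : w ∈ p.W) (h : IsConj w s) :
    s * s = 1 ∧ ∀ v ∈ p.W, s * v = v * s := by
  have s2 : s * s = 1 := by
    obtain ⟨a, rfl⟩ := isConj_iff.1 h
    rw [conj_mul, p.W_sq hw]; group
  obtain ⟨l, φ, h1⟩ := p.ns_of_conj hs hw h
  exact ⟨s2, (p.types hs h1 (Or.inl (s2 ▸ one_mem _))).1⟩

theorem lemX {s : G} (hs : s ∈ p.S) (hc : ∀ w ∈ p.W, s * w = w * s) (s2 : s * s = 1) {j : Bool}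
    (hj : s ∉ p.Tr j) {z : G} (hz : z ∈ p.W) (h0 : p.k (!j) z = 0) :
    ∃ x ∈ p.Y, x * x = z ∧ x * s * x⁻¹ = z * s ∧ ∀ t ∈ p.Tr j, (∀ w ∈ p.W, t * w = w * t) →
      t * s = s * t → x * t = t * x := by
  obtain ⟨l, l1, e⟩ := p.tr_or hs hc hj
  obtain ⟨a, ha⟩ := pq_line l (p.k j z)
  obtain ⟨y, hy, rfl, y2⟩ := p.exY j a
  have hy' := p.cjY (p.S_le hs) hy
  have y3 := p.ns_zero (p.ns_of_cent (p.S_le hs) hc) hy y2
  have hx := mul_mem hy hy'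
  have si : s⁻¹ = s := inv_eq_of_mul_eq_one_right s2
  refine ⟨_, hx, p.W_ext (p.sq_mem hx) hz (both j ?_ ?_), ?_, fun t ht hc' e' => ?_⟩
  · rw [p.sq _ hx, p.x_mul j _ hy _ hy', e y hy, ha]
  · rw [p.sq _ hx, p.x_mul _ _ hy _ hy', y2, y3, add_zero, nm_zero, h0]
  · rw [← p.W_ext (p.comm hy hy').1 hz (both j (by
      rw [(p.comm hy hy').2, e y hy, ← ha, nm_add, nm_mul, l1, one_mul, nm_cj, k0_add_self,
        zero_add]) (by rw [(p.comm hy hy').2, y2, cm_zero_left, h0]))]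
    calc _ = y * s * y * s⁻¹ * (s * s) * y⁻¹ * s⁻¹ * y⁻¹ := by group
      _ = y * s * y * s⁻¹ * y⁻¹ * s * y⁻¹ := by rw [s2, mul_one, si]
      _ = _ := by group
  · have h1 := p.cjY ht.1 hy
    have hw : t * y * t⁻¹ * y⁻¹ ∈ p.W := ⟨mul_mem h1 (inv_mem hy), both j
      (by rw [p.x_mul j _ h1 _ (inv_mem hy), ht.2 y hy, p.x_inv j hy, CharTwo.add_self_eq_zero])
      (by rw [p.x_mul _ _ h1 _ (inv_mem hy), p.ns_zero (p.ns_of_cent ht.1 hc') hy y2,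
        p.x_inv _ hy, y2, add_zero])⟩
    obtain ⟨w, e1⟩ : ∃ w, w = t * y * t⁻¹ * y⁻¹ := ⟨_, rfl⟩
    rw [← e1] at hw
    have e2 : t * y = w * y * t := by rw [e1]; group
    have e3 : t * s⁻¹ = s⁻¹ * t := by rw [si, e']
    symm
    calc t * (y * (s * y * s⁻¹)) = t * y * s * y * s⁻¹ := by group
      _ = w * y * (t * s) * y * s⁻¹ := by rw [e2]; group
      _ = w * y * s * (t * y) * s⁻¹ := by rw [e']; group
      _ = w * y * (s * w) * y * (t * s⁻¹) := by rw [e2]; group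
      _ = w * (y * w) * s * y * s⁻¹ * t := by rw [hc w hw, e3]; group
      _ = _ := by rw [← p.cW hw hy, ← mul_assoc w w, p.W_sq hw]; group

theorem three (i : Bool) : ∃ a ∈ p.W, ∃ b ∈ p.W, a ≠ 1 ∧ b ≠ 1 ∧ a * b ≠ 1 ∧ p.k (!i) a = 0 ∧
    p.k (!i) b = 0 ∧ p.k (!i) (a * b) = 0 := by
  obtain ⟨κ, κ0, κ1⟩ := exists_k0 (F := F) p.q4
  obtain ⟨a, ha, a1, a2⟩ := p.exW i κ
  obtain ⟨b, hb, b1, b2⟩ := p.exW i 1
  refine ⟨a, ha, b, hb, fun e => κ0 (by rw [← a1, e, p.k_one]),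
    fun e => one_ne_zero (by rw [← b1, e, p.k_one]), fun e => κ1 (CharTwo.add_eq_zero.1 ?_), a2, b2,
    by rw [p.kW _ ha hb, a2, b2, add_zero]⟩
  rw [← a1, ← b1, ← p.kW _ ha hb, e, p.k_one]

theorem fc_zero {g : G} {D : Set G} (hD : ∀ w ∈ D, w ∈ p.W ∧ g * w * g⁻¹ ∈ p.W) :
    ∃ π : Bool → Bool, (∀ j, π (π j) = j) ∧
      ∀ w ∈ D, ∀ j, p.k j w = 0 → p.k (π j) (g * w * g⁻¹) = 0 := by
  obtain ⟨n, hn, e⟩ := p.fc hD
  obtain ⟨l, φ, h | h⟩ := p.act hn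
  · exact ⟨id, fun _ => rfl, fun w hw j h0 => by
      rw [e w hw, h.2.2 w (hD w hw).1, h0, kf_zero, mul_zero]⟩
  · exact ⟨not, Bool.not_not, fun w hw j h0 => by
      rw [e w hw, h.2.2 w (hD w hw).1, h0, kf_zero, mul_zero]⟩

section

variable {g : G} (h : ∀ w ∈ p.W, g * w * g⁻¹ ∈ p.S)
include h

theorem v_S {s : G} (hs : s ∈ H42.cj g p.W) : s ∈ p.S := by
  simpa [mul_assoc] using h _ (mem_cj.1 hs)

theorem v_c {s : G} (hs : s ∈ H42.cj g p.W) : s * s = 1 ∧ ∀ v ∈ p.W, s * v = v * s :=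
  p.cent_of_conj (p.v_S h hs) (mem_cj.1 hs) (isConj_iff.2 ⟨g, by group⟩)

omit h in
theorem v_ab {s t : G} (hs : s ∈ H42.cj g p.W) (ht : t ∈ H42.cj g p.W) : s * t = t * s := by
  have := p.cW (mem_cj.1 hs) (mem_cj.1 ht).1
  calc s * t = g * (g⁻¹ * s * g * (g⁻¹ * t * g)) * g⁻¹ := by group
    _ = _ := by rw [this]; group

theorem v_W {s : G} (hs : s ∈ H42.cj g p.W) (ht : ∀ j, s ∈ p.Tr j) : s ∈ p.W :=
  (p.sq_iff (p.mem_of_Tr (p.v_S h hs) ht)).1 (p.v_c h hs).1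

theorem v_mul {s t : G} (hs : s ∈ H42.cj g p.W) (ht : t ∈ H42.cj g p.W) (j : Bool) :
    s * t ∈ p.Tr j ↔ (s ∈ p.Tr j ↔ t ∈ p.Tr j) := by
  by_cases h1 : s ∈ p.Tr j
  · simp only [h1, true_iff, Subgroup.mul_mem_cancel_left _ h1]
  by_cases h2 : t ∈ p.Tr j
  · simp only [h2, iff_true, Subgroup.mul_mem_cancel_right _ h2]
  simp only [h1, h2, iff_true]
  exact p.tr_mul (p.v_S h hs) (p.v_S h ht) (p.v_c h hs).2 (p.v_c h ht).2 h1 h2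

theorem caseA {s z : G} (hs : s ∈ H42.cj g p.W) {j : Bool} (hj : s ∉ p.Tr j)
    (hz : z ∈ H42.cj g p.W) (hz' : z ∈ p.W) (h0 : p.k (!j) z = 0) : z = 1 := by
  obtain ⟨x, hx, x1, x2, x3⟩ := p.lemX (p.v_S h hs) (p.v_c h hs).2 (p.v_c h hs).1 hj hz' h0
  have x4 : ∀ t ∈ H42.cj g p.W, t ∈ p.Tr j → x * t = t * x := fun t ht h1 =>
    x3 t h1 (p.v_c h ht).2 (p.v_ab ht hs)
  have hn : x ∈ normalizer (H42.cj g p.W : Set G) := mem_normalizer_of_conj_mem fun t ht => by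
    by_cases h1 : t ∈ p.Tr j
    · rwa [x4 t ht h1, mul_inv_cancel_right]
    have h2 := x4 _ (mul_mem hs ht) ((p.v_mul h hs ht j).2 (iff_of_false hj h1))
    have e : x * t * x⁻¹ = (x * s * x⁻¹)⁻¹ * (x * (s * t) * x⁻¹) := by group
    rw [e, h2, x2, mul_inv_cancel_right]
    exact mul_mem (inv_mem (mul_mem hz hs)) (mul_mem hs ht)
  rw [← cj_normalizer, mem_cj] at hn
  obtain ⟨c, hc, e⟩ := (p.syl_top.of_le (fun y hy => p.nrm_W (p.S_le hy)) le_top).exists_conj_mem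
    (isPGroup_cj g⁻¹ (p.pgY.to_le (zpowers_le.2 hx))) (by
      rw [cj_le_iff]
      intro y hy
      have := zpowers_le.2 (conj_mem_cj (g := g) hn) (by simpa [mul_assoc] using hy)
      simpa using mem_cj.1 this)
  have hy := e _ (conj_mem_cj (mem_zpowers x))
  have cw : ∀ t ∈ H42.cj g p.W, c * (g⁻¹ * t * g) * c⁻¹ ∈ p.W := fun t ht => (hc _).1 (mem_cj.1 ht)
  have wc : ∀ w ∈ p.W, g * (c⁻¹ * w * c) * g⁻¹ ∈ H42.cj g p.W := fun w hw =>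
    conj_mem_cj (by simpa using ((inv_mem hc) w).1 hw)
  obtain ⟨w, hw, w1, w2, w3⟩ : ∃ w ∈ p.W, w ≠ 1 ∧ p.k true w = 0 ∧
      g * (c⁻¹ * w * c) * g⁻¹ ∈ p.Tr j := by
    obtain ⟨a, ha, b, hb, a1, b1, c1, a2, b2, c2⟩ := p.three false
    by_cases h1 : g * (c⁻¹ * a * c) * g⁻¹ ∈ p.Tr j
    · exact ⟨a, ha, a1, a2, h1⟩
    by_cases h2 : g * (c⁻¹ * b * c) * g⁻¹ ∈ p.Tr j
    · exact ⟨b, hb, b1, b2, h2⟩
    refine ⟨_, mul_mem ha hb, c1, c2, ?_⟩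
    convert (p.v_mul h (wc a ha) (wc b hb) j).2 (iff_of_false h1 h2) using 1
    group
  obtain ⟨l, φ, hA⟩ := p.ns_of_fix (p.S_le hy) hw w1 w2 (by
    have := x4 _ (wc w hw) w3
    calc _ = c * g⁻¹ * (x * (g * (c⁻¹ * w * c) * g⁻¹)) * (g * c⁻¹) := by group
      _ = _ := by rw [this]; group)
  have h1 := (p.types hy hA (Or.inl (by
    convert (cw z hz).1 using 1
    rw [← x1]; group))).1 _ (cw s hs)
  have h2 : x * s * x⁻¹ = s := by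
    calc _ = g * c⁻¹ * (c * (g⁻¹ * x * g⁻¹⁻¹) * c⁻¹ * (c * (g⁻¹ * s * g) * c⁻¹)) * (c * g⁻¹) * x⁻¹ := by
          group
      _ = _ := by rw [h1]; group
  exact mul_eq_right.1 (x2.symm.trans h2)

theorem patt {i : Bool} (hi : ∀ z ∈ p.W, p.k (!i) z = 0 → g * z * g⁻¹ ∈ p.W → z = 1) :
    (∀ j, ∃ z ∈ p.W, p.k (!i) z = 0 ∧ g * z * g⁻¹ ∉ p.Tr j ∧ g * z * g⁻¹ ∈ p.Tr (!j)) ∧
      ∃ z ∈ p.W, p.k (!i) z = 0 ∧ g * z * g⁻¹ ∉ p.Tr false ∧ g * z * g⁻¹ ∉ p.Tr true := by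
  obtain ⟨a, ha, b, hb, a1, b1, c1, a2, b2, c2⟩ := p.three i
  have nt : ∀ j, ∀ z ∈ p.W, z ≠ 1 → p.k (!i) z = 0 →
      ¬ (g * z * g⁻¹ ∈ p.Tr j ∧ g * z * g⁻¹ ∈ p.Tr (!j)) := fun j z hz z1 z2 e =>
    z1 (hi z hz z2 (p.v_W h (conj_mem_cj hz) (both j e.1 e.2)))
  have mu := fun j => p.v_mul h (conj_mem_cj ha) (conj_mem_cj hb) j
  simp only [conj_mul] at mu
  have hab := mul_mem ha hb
  have lg := fun j => pq_logic (nt j a ha a1 a2) (nt j b hb b1 b2) (nt j _ hab c1 c2) (mu j) (mu (!j))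
  refine ⟨fun j => ?_, ?_⟩
  · rcases (lg j).1 with e | e | e
    exacts [⟨a, ha, a2, e⟩, ⟨b, hb, b2, e⟩, ⟨_, hab, c2, e⟩]
  · rcases (lg false).2 with e | e | e
    exacts [⟨a, ha, a2, e⟩, ⟨b, hb, b2, e⟩, ⟨_, hab, c2, e⟩]

end

theorem wcW {g : G} (h : ∀ w ∈ p.W, g * w * g⁻¹ ∈ p.S) : g ∈ normalizer (p.W : Set G) := by
  refine mem_normalizer_of_conj_mem fun w₀ hw₀ => p.v_W h (conj_mem_cj hw₀) fun j₀ => ?_
  by_contra hj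
  obtain ⟨i, hi⟩ : ∃ i, ∀ z ∈ p.W, p.k (!i) z = 0 → g * z * g⁻¹ ∈ p.W → z = 1 := by
    by_contra hh
    push Not at hh
    choose z hz z1 z2 z3 using hh
    obtain ⟨π, π1, e⟩ := p.fc_zero (g := g) (D := Set.range z) (by
      rintro _ ⟨i, rfl⟩; exact ⟨hz i, z2 i⟩)
    have := e _ ⟨!π (!j₀), rfl⟩ _ (z1 _)
    rw [Bool.not_not, π1] at this
    exact z3 _ (conj_eq_one_iff.1 (p.caseA h (conj_mem_cj hw₀) hj (conj_mem_cj (hz _)) (z2 _) this))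
  have fr : ∀ i, ∀ z ∈ p.W, p.k (!i) z = 0 → g * z * g⁻¹ ∈ p.W → z = 1 := fun i' z hz z1 z2 => by
    obtain ⟨π, -, e⟩ := p.fc_zero (g := g) (D := {z}) (by rintro _ rfl; exact ⟨hz, z2⟩)
    obtain ⟨s, hs, -, s1, -⟩ := (p.patt h hi).1 (!π (!i'))
    exact conj_eq_one_iff.1 (p.caseA h (conj_mem_cj hs) s1 (conj_mem_cj hz) z2
      (by rw [Bool.not_not]; exact e z rfl _ z1))
  obtain ⟨h1, a, ha, a1, a2, a3⟩ := p.patt h (fr false)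
  obtain ⟨b, hb, b1, b2, b3⟩ := h1 false
  obtain ⟨c, hc, c1, c2, c3⟩ := (p.patt h (fr true)).1 true
  have hs := conj_mem_cj (g := g) ha
  have ht := mul_mem (conj_mem_cj (g := g) hb) (conj_mem_cj (g := g) hc)
  have hw := p.v_W h (mul_mem ht hs) (both false
    ((p.v_mul h ht hs _).2 (iff_of_false (fun e => b2 ((Subgroup.mul_mem_cancel_right _ c3).1 e)) a2))
    ((p.v_mul h ht hs _).2 (iff_of_false (fun e => c2 ((Subgroup.mul_mem_cancel_left _ b3).1 e)) a3)))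
  obtain ⟨u, hu, v, hv, u1, v1, e⟩ := p.W_split hw
  obtain ⟨x, hx, -, x2, -⟩ := p.lemX (p.v_S h hs) (p.v_c h hs).2 (p.v_c h hs).1 a2 hu u1
  obtain ⟨y, hy, -, y2, -⟩ := p.lemX (p.v_S h hs) (p.v_c h hs).2 (p.v_c h hs).1 a3 hv v1
  have e1 : g⁻¹ * (y * x) * g * a * (g⁻¹ * (y * x) * g)⁻¹ = b * c := by
    calc _ = g⁻¹ * (y * (x * (g * a * g⁻¹) * x⁻¹) * y⁻¹) * g := by group
      _ = g⁻¹ * (y * u * y⁻¹ * (y * (g * a * g⁻¹) * y⁻¹)) * g := by rw [x2]; group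
      _ = g⁻¹ * (u * v * (g * a * g⁻¹)) * g := by rw [y2, ← p.cW hu hy]; group
      _ = g⁻¹ * (g * b * g⁻¹ * (g * c * g⁻¹) * (g * a * g⁻¹ * (g * a * g⁻¹))) * g := by
        rw [← e]; group
      _ = _ := by rw [(p.v_c h hs).1]; group
  obtain ⟨π, -, e2⟩ := p.fc_zero (g := g⁻¹ * (y * x) * g) (D := {a})
    (by rintro _ rfl; exact ⟨ha, e1 ▸ mul_mem hb hc⟩)
  have e3 := e2 a rfl _ a1
  rw [e1, p.kW _ hb hc] at e3
  cases hπ : π (!false) <;> rw [hπ] at e3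
  · rw [show p.k false c = 0 from c1, add_zero] at e3
    exact b2 (by rw [p.ker b hb.1 hb.2 (both false e3 b1)]; simp)
  · rw [show p.k true b = 0 from b1, zero_add] at e3
    exact c2 (by rw [p.ker c hc.1 hc.2 (both true e3 c1)]; simp)

theorem sc : ∃ S : Sylow 2 G, IsElementaryAbelian 2 p.W ∧
    IsStronglyClosed p.W (S : Subgroup G) := by
  obtain ⟨S, hS⟩ := p.syl_top.exists_sylow_top
  refine ⟨S, ⟨⟨⟨fun a b => Subtype.ext (p.cW a.2 b.2.1)⟩⟩, fun a ha => by rw [pow_two, p.W_sq ha]⟩, ?_⟩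
  rw [hS]
  refine ⟨p.W_le.trans p.YS, fun x hx g hs => ?_⟩
  have hc : IsConj x (g * x * g⁻¹) := isConj_iff.2 ⟨g, rfl⟩
  obtain ⟨k, h1, h2⟩ := p.extr hs hx hc
  exact (p.wcW (fun w hw => h2 w (p.YS hw.1) ((p.cent_of_conj hs hx hc).2 w hw).symm) _).2 h1

end PQ

end Cfsg.Agent.GMS
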