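import Cfsg.Agent.GMS.Base2
import Cfsg.Agent.H70.AsymL

/-! Project GMS: the first frame (notes/GMS.md, St1). -/

set_option autoImplicit false
set_option linter.unusedSectionVars false

namespace Cfsg.Agent.GMS

open Subgroup H10 H91
open H42 hiding SylIn
open H70 (relCent conj_mem_of_mem_norm conj_mem_of_mem_norm')
open scoped commutatorElement

variable {G : Type*} [Group G] [Finite G] {F : Type*} [Field F] [Fintype F] [CharP F 2] {q : ℕ}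
  [hF : Fact (Fintype.card F = q ^ 2)]

theorem cm_nd {a a' : F} (h : ∀ x, cm q a x = cm q a' x) : a = a' := by
  by_contra hn
  obtain ⟨x, hx⟩ := cm_surj (q := q) (mt CharTwo.add_eq_zero.1 hn) 1
  rw [cm_add_left, h, k0_add_self] at hx
  exact zero_ne_one hx

theorem nrm_of {H : Subgroup G} {g : G} (h : ∀ x ∈ H, g * x * g⁻¹ ∈ H) :
    g ∈ normalizer (H : Set G) := H70.mem_normalizer_of_cj_le (H70.cj_le_iff.2 h)

namespace Ctx0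

variable (c : Ctx0 G F q) {g h n o p r v w x y : G}

/-- the coordinate on `Z` -/
noncomputable def zt (y : G) : K0 F q := Function.invFun c.z y

@[simp] theorem zt_z (k : K0 F q) : c.zt (c.z k) = k :=
  Function.leftInverse_invFun (fun _ _ => c.z_inj.1) k

theorem z_inv (k : K0 F q) : (c.z k)⁻¹ = c.z k := inv_eq_of_mul_eq_one_left (c.z_sq k)
theorem zZ (k : K0 F q) : c.z k ∈ c.Z := c.mem_Z.2 ⟨k, rfl⟩
theorem rX (hr : r ∈ c.R) : r ∈ c.X := mem_sup_left hr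
theorem UX (u : UM F q) : c.U u ∈ c.X := mem_sup_right ⟨u, rfl⟩
theorem zX (k : K0 F q) : c.z k ∈ c.X := c.UX _
theorem VX : c.V ≤ c.X := sup_le_sup_left c.ZQ _

open Classical in
/-- the coordinate on `X / V` -/
noncomputable def a0 (y : G) : F := if h : y ∈ c.X then (c.mem_X.1 h).choose_spec.2.choose.x else 0

theorem a0_eq (hr : r ∈ c.R) (u : UM F q) : c.a0 (r * c.U u) = u.x := by
  have h := mul_mem (c.rX hr) (c.UX u)
  rw [a0, dif_pos h]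
  have h1 := (c.mem_X.1 h).choose_spec.1
  have h2 := (c.mem_X.1 h).choose_spec.2.choose_spec
  generalize (c.mem_X.1 h).choose_spec.2.choose = u' at h2
  generalize (c.mem_X.1 h).choose = r' at h1 h2
  have h3 : r'⁻¹ * r = c.U u' * (c.U u)⁻¹ := by
    rw [inv_mul_eq_iff_eq_mul, ← mul_assoc, ← h2, mul_inv_cancel_right]
  have h4 := c.RA1 _ (mul_mem (inv_mem h1) hr) (h3 ▸ mul_mem (c.UA _) (inv_mem (c.UA _)))
  rw [c.Uinj (mul_inv_eq_one.1 (h3.symm.trans h4))]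

theorem a0_U (u : UM F q) : c.a0 (c.U u) = u.x := by simpa using c.a0_eq (one_mem _) u

theorem X_mul (hr : r ∈ c.R) (u v : UM F q) : x * c.U u * (r * c.U v) = x * r * c.U (u * v) := by
  rw [map_mul, mul_assoc x, ← mul_assoc _ r, ← c.RA r hr _ (c.UA u)]; group

theorem a0_mul (hx : x ∈ c.X) (hy : y ∈ c.X) : c.a0 (x * y) = c.a0 x + c.a0 y := by
  obtain ⟨r, hr, u, rfl⟩ := c.mem_X.1 hx
  obtain ⟨s, hs, v, rfl⟩ := c.mem_X.1 hy
  rw [c.X_mul hs, c.a0_eq (mul_mem hr hs), c.a0_eq hr, c.a0_eq hs, UM.mul_x]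

theorem a0_V (hx : x ∈ c.X) : c.a0 x = 0 ↔ x ∈ c.V := by
  refine ⟨fun h => ?_, fun h => ?_⟩
  · obtain ⟨r, hr, u, rfl⟩ := c.mem_X.1 hx
    obtain ⟨b, rfl⟩ := exists_zz ((c.a0_eq hr u).symm.trans h)
    exact c.mem_V.2 ⟨r, hr, b, rfl⟩
  · obtain ⟨r, hr, b, rfl⟩ := c.mem_V.1 h
    exact c.a0_eq hr _

theorem X_comm (hx : x ∈ c.X) (hy : y ∈ c.X) :
    x * y * x⁻¹ = y * c.z (cm q (c.a0 x) (c.a0 y)) := by
  rw [mul_inv_eq_iff_eq_mul, mul_assoc, c.z_comm _ hx, ← mul_assoc]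
  obtain ⟨r, hr, u, rfl⟩ := c.mem_X.1 hx
  obtain ⟨s, hs, v, rfl⟩ := c.mem_X.1 hy
  rw [c.X_mul hs, c.X_mul hr, c.a0_eq hr, c.a0_eq hs, um_comm u v, c.Rc r hr s hs, map_mul, ← mul_assoc]
  rfl

theorem sc_z {l : F} (hh : c.Sc h l) (k : K0 F q) : h * c.z k * h⁻¹ = c.z (nm q l * k) := by
  rw [z, hh.2, sl_zz]; rfl

end Ctx0

namespace Ctx

variable (c : Ctx G F q) {g h n o p r v w x y : G}

theorem X_sq (hx : x ∈ c.X) : x * x = c.z (nm q (c.a0 x)) := by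
  obtain ⟨r, hr, u, rfl⟩ := c.mem_X.1 hx
  rw [c.X_mul hr, c.Re r hr, one_mul, um_sq, c.a0_eq hr]; rfl

theorem V_sq (hv : v ∈ c.V) : v * v = 1 := by
  rw [c.X_sq (c.VX hv), (c.a0_V (c.VX hv)).2 hv, nm_zero, c.z_zero]

theorem z_eq_sq (k : K0 F q) : ∃ u, c.z k = c.U u * c.U u := by
  obtain ⟨a, rfl⟩ := nm_surj k
  obtain ⟨u, rfl⟩ := exists_um (q := q) a
  exact ⟨u, by rw [c.X_sq (c.UX u), c.a0_U]⟩

theorem cj_sq (hn : n ∈ normalizer (c.X : Set G)) (hx : x ∈ c.X) :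
    n * (x * x) * n⁻¹ = c.z (nm q (c.a0 (n * x * n⁻¹))) := by
  rw [← c.X_sq (conj_mem_of_mem_norm hn hx)]; group

theorem nZ (hn : n ∈ normalizer (c.X : Set G)) : n ∈ normalizer (c.Z : Set G) := nrm_of fun z hz => by
  obtain ⟨k, rfl⟩ := c.mem_Z.1 hz
  obtain ⟨u, e⟩ := c.z_eq_sq k
  rw [e, c.cj_sq hn (c.UX u)]; exact c.zZ _

theorem nV (hn : n ∈ normalizer (c.X : Set G)) : n ∈ normalizer (c.V : Set G) := nrm_of fun v hv =>
  c.inv_X (conj_mem_of_mem_norm hn (c.VX hv)) (by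
    rw [show n * v * n⁻¹ * (n * v * n⁻¹) = n * (v * v) * n⁻¹ by group, c.V_sq hv]; simp)

theorem actN (hn : n ∈ normalizer (c.X : Set G)) : ∃ l φ, l ≠ 0 ∧
    (∀ x ∈ c.X, c.a0 (n * x * n⁻¹) = l * φ (c.a0 x)) ∧
      ∀ m, n * c.z m * n⁻¹ = c.z (nm q l * kf φ m) := by
  choose u hu using exists_um (F := F) (q := q)
  have m : ∀ x ∈ c.X, n * x * n⁻¹ ∈ c.X := fun x => conj_mem_of_mem_norm hn
  have k : ∀ x ∈ c.X, c.a0 (n * x * n⁻¹) = c.a0 (n * c.U (u (c.a0 x)) * n⁻¹) := fun x hx => by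
    have h1 := mul_mem hx (c.UX (u (c.a0 x)))
    have h2 := conj_mem_of_mem_norm (c.nV hn) ((c.a0_V h1).1 (by
      rw [c.a0_mul hx (c.UX _), c.a0_U, hu, CharTwo.add_self_eq_zero]))
    rw [← c.a0_V (m _ h1), show n * (x * c.U (u (c.a0 x))) * n⁻¹ =
      n * x * n⁻¹ * (n * c.U (u (c.a0 x)) * n⁻¹) by group, c.a0_mul (m _ hx) (m _ (c.UX _))] at h2
    exact CharTwo.add_eq_zero.1 h2
  have kz : ∀ m, n * c.z m * n⁻¹ = c.z (c.zt (n * c.z m * n⁻¹)) := fun m => by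
    obtain ⟨k, e⟩ := c.mem_Z.1 (conj_mem_of_mem_norm (c.nZ hn) (c.zZ m))
    rw [e, c.zt_z]
  obtain ⟨l, φ, h0, h1, h2⟩ := semi (fun a => c.a0 (n * c.U (u a) * n⁻¹))
    (fun m => c.zt (n * c.z m * n⁻¹)) (fun a b => by
      have := k _ (mul_mem (c.UX (u a)) (c.UX (u b)))
      rw [c.a0_mul (c.UX _) (c.UX _), c.a0_U, c.a0_U, hu, hu] at this
      rw [← this, ← c.a0_mul (m _ (c.UX _)) (m _ (c.UX _))]; congr 1; group)
    (fun a b => c.z_inj.1 (by rw [← kz, c.z_add (c.zt _), ← kz, ← kz, c.z_add]; group))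
    (fun a => by
      have := c.cj_sq hn (c.UX (u a))
      rw [c.X_sq (c.UX _), c.a0_U, hu] at this
      rw [this, c.zt_z]) fun e => by
      have := conj_mem_of_mem_norm' (c.nV hn) ((c.a0_V (m _ (c.UX _))).1 e)
      rw [show n⁻¹ * (n * c.U (u 1) * n⁻¹) * n = c.U (u 1) by group, ← c.a0_V (c.UX _), c.a0_U,
        hu] at this
      exact one_ne_zero this
  exact ⟨l, φ, h0, fun x hx => (k x hx).trans (h1 _), fun m => by rw [kz, h2]⟩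

theorem tR' (hy : y * c.t = c.t * y) (hr : r ∈ c.R) : y * r = r * y := by
  by_cases h1 : r = 1
  · simp [h1]
  exact (c.RC r hr h1 y).2 hy

theorem nX (hy : y * c.t = c.t * y) (h : ∀ u, ∃ v, y * c.U u * y⁻¹ = c.U v) :
    y ∈ normalizer (c.X : Set G) := nrm_of fun x hx => by
  obtain ⟨r, hr, u, rfl⟩ := c.mem_X.1 hx
  obtain ⟨v, e⟩ := h u
  rw [← mul_assoc, c.tR' hy hr, mul_assoc, mul_assoc, ← mul_assoc y, e]
  exact mul_mem (c.rX hr) (c.UX v)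

theorem sc_nX {l : F} (hh : c.Sc h l) : h ∈ normalizer (c.X : Set G) :=
  c.nX (c.Ht hh.1) fun u => ⟨_, hh.2 u⟩

theorem sc_a0 {l : F} (hh : c.Sc h l) (hx : x ∈ c.X) : c.a0 (h * x * h⁻¹) = l * c.a0 x := by
  obtain ⟨r, hr, u, rfl⟩ := c.mem_X.1 hx
  rw [← mul_assoc, c.tR' (c.Ht hh.1) hr, mul_assoc, mul_assoc, ← mul_assoc h, hh.2, c.a0_eq hr,
    c.a0_eq hr]; rfl

/-- the stabiliser of the chain `X > V > Z` in `C(O)` -/
def Y0 : Subgroup G := normalizer (c.X : Set G) ⊓ centralizer (c.O : Set G) ⊓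
  relCent (c.X : Set G) c.V ⊓ relCent (c.V : Set G) c.Z

theorem nY0 : normalizer (c.X : Set G) ≤ normalizer (c.Y0 : Set G) :=
  H70.norm_inf (H70.norm_inf (H70.norm_inf le_normalizer (H70.norm_centralizer fun _ => c.norm_O))
    (H70.norm_relCent le_rfl fun _ => c.nV)) (H70.norm_relCent (fun _ => c.nV) fun _ => c.nZ)

theorem mem_Y0 (h1 : y ∈ normalizer (c.X : Set G)) (h2 : ∀ o ∈ c.O, o * y = y * o)
    (h3 : ∀ x ∈ c.X, c.a0 (y * x * y⁻¹) = c.a0 x) (h4 : ∀ v ∈ c.V, ⁅y, v⁆ ∈ c.Z) : y ∈ c.Y0 :=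
  ⟨⟨⟨h1, h2⟩, c.nV h1, fun x hx => by
    have m := conj_mem_of_mem_norm h1 hx
    have e := c.a0_mul (mul_mem m (inv_mem hx)) hx
    rw [inv_mul_cancel_right, h3 x hx, right_eq_add] at e
    exact (c.a0_V (mul_mem m (inv_mem hx))).1 e⟩, c.nZ h1, h4⟩

theorem Y0_a0 (hy : y ∈ c.Y0) (hx : x ∈ c.X) : c.a0 (y * x * y⁻¹) = c.a0 x := by
  have := hy.1.2.2 x hx
  rw [show y * x * y⁻¹ = ⁅y, x⁆ * x by group, c.a0_mul (c.VX this) hx, (c.a0_V (c.VX this)).2 this,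
    zero_add]

theorem Y0_z (hy : y ∈ c.Y0) (k : K0 F q) : y * c.z k * y⁻¹ = c.z k := by
  obtain ⟨u, e⟩ := c.z_eq_sq k
  rw [e, c.cj_sq hy.1.1.1 (c.UX u), c.Y0_a0 hy (c.UX u), c.X_sq (c.UX u)]

theorem Y0_z' (hy : y ∈ c.Y0) (k : K0 F q) : c.z k * y = y * c.z k :=
  (mul_inv_eq_iff_eq_mul.1 (c.Y0_z hy k)).symm

theorem XY0 : c.X ≤ c.Y0 := fun x hx => c.mem_Y0 (le_normalizer hx) (fun o ho => c.OX ho hx)
  (fun y hy => by rw [c.X_comm hx hy, c.a0_mul hy (c.zX _), Ctx0.z, c.a0_U]; simp) fun v hv => by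
    rw [commutatorElement_def, c.X_comm hx (c.VX hv), ← c.z_comm _ (c.VX hv), mul_inv_cancel_right]
    exact c.zZ _

/-- `y x y⁻¹ = x z(D y x)` -/
noncomputable def D (y x : G) : K0 F q := c.zt (x⁻¹ * (y * x * y⁻¹))

theorem D_eq {k : K0 F q} (h : y * x * y⁻¹ = x * c.z k) : c.D y x = k := by
  rw [D, h, inv_mul_cancel_left, c.zt_z]

theorem D_spec (hx : x ∈ c.Y0) (h : ⁅y, x⁆ ∈ c.Z) : y * x * y⁻¹ = x * c.z (c.D y x) := by
  obtain ⟨k, e⟩ := c.mem_Z.1 h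
  have : y * x * y⁻¹ = x * c.z k := by rw [← c.Y0_z' hx, ← e]; group
  rw [c.D_eq this, this]

theorem b_spec (hy : y ∈ c.Y0) : y * c.t * y⁻¹ = c.t * c.z (c.D y c.t) :=
  c.D_spec (c.XY0 (c.rX c.tR)) (hy.2.2 _ (mem_sup_left c.tR))

theorem D_mul (hy : y ∈ c.Y0) {k k' : K0 F q} (h : y * x * y⁻¹ = x * c.z k)
    (h' : w * x * w⁻¹ = x * c.z k') : c.D (y * w) x = k + k' := c.D_eq (by
  rw [show y * w * x * (y * w)⁻¹ = y * (w * x * w⁻¹) * y⁻¹ by group, h', c.z_add, ← mul_assoc x, ← h,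
    mul_assoc y, mul_assoc x, c.Y0_z' (inv_mem hy)]; group)

theorem b_mul (hy : y ∈ c.Y0) (hw : w ∈ c.Y0) : c.D (y * w) c.t = c.D y c.t + c.D w c.t :=
  c.D_mul hy (c.b_spec hy) (c.b_spec hw)

theorem b_zero (hy : y * c.t = c.t * y) : c.D y c.t = 0 := c.D_eq (by rw [hy]; simp)

theorem of_b_zero (hy : y ∈ c.Y0) (h : c.D y c.t = 0) : y * c.t = c.t * y := by
  have := c.b_spec hy
  rwa [h, c.z_zero, mul_one, mul_inv_eq_iff_eq_mul] at this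

theorem b_cj (hy : y ∈ c.Y0) (ht : n * c.t = c.t * n) {k : K0 F q}
    (h : n * c.z (c.D y c.t) * n⁻¹ = c.z k) : c.D (n * y * n⁻¹) c.t = k := c.D_eq (by
  calc _ = n * (y * (n⁻¹ * (c.t * n)) * y⁻¹) * n⁻¹ := by group
    _ = n * c.t * n⁻¹ * (n * c.z (c.D y c.t) * n⁻¹) := by
      rw [← ht, inv_mul_cancel_left, c.b_spec hy]; group
    _ = _ := by rw [h, ht, mul_inv_cancel_right])

theorem XV (hx : x ∈ c.X) (hv : v ∈ c.V) : x * v = v * x := by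
  have := c.X_comm hx (c.VX hv)
  rwa [(c.a0_V (c.VX hv)).2 hv, cm_zero_right, c.z_zero, mul_one, mul_inv_eq_iff_eq_mul] at this

theorem sc_rel {l : F} (hh : c.Sc h l) : h ∈ relCent (c.V : Set G) c.Z :=
  ⟨c.nZ (c.sc_nX hh), fun v hv => by
    obtain ⟨r, hr, k, rfl⟩ := c.mem_V.1 hv
    rw [show ⁅h, r * c.z k⁆ = h * r * h⁻¹ * (h * c.z k * h⁻¹ * (c.z k)⁻¹) * r⁻¹ by group,
      c.tR' (c.Ht hh.1) hr, mul_inv_cancel_right, c.sc_z hh, c.z_inv, ← c.z_add,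
      ← c.z_comm _ (c.rX hr), mul_inv_cancel_right]
    exact c.zZ _⟩

theorem sc_cj (hg : g ∈ normalizer (c.X : Set G)) {l : F} {φ : F ≃+* F}
    (ha : ∀ x ∈ c.X, c.a0 (g * x * g⁻¹) = l * φ (c.a0 x)) {k : K0 F q} (hh : c.Sc h k) {h' : G}
    (hh' : c.Sc h' (kf φ k)) : g * h * g⁻¹ * h'⁻¹ ∈ c.Y0 := by
  have n1 := c.sc_nX hh
  have n2 := c.sc_nX hh'
  refine c.mem_Y0 (mul_mem (mul_mem (mul_mem hg n1) (inv_mem hg)) (inv_mem n2))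
    (fun o ho => Commute.mul_right ?_ (Commute.inv_right (c.OA o ho _ (c.HA hh'.1)))) (fun x hx => ?_)
    (mul_mem (conj_mem_of_mem_norm (H70.norm_relCent (fun _ => c.nV) (fun _ => c.nZ) hg)
      (c.sc_rel hh)) (inv_mem (c.sc_rel hh'))).2
  · change o * _ = _ * o
    calc _ = g * (g⁻¹ * o * g * h) * g⁻¹ := by group
      _ = _ := by rw [c.OA _ (conj_mem_of_mem_norm' (c.norm_O hg) ho) _ (c.HA hh.1)]; group
  · have m := conj_mem_of_mem_norm' hg (conj_mem_of_mem_norm' n2 hx)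
    have e : x = h' * (g * (g⁻¹ * (h'⁻¹ * x * h') * g) * g⁻¹) * h'⁻¹ := by group
    generalize g⁻¹ * (h'⁻¹ * x * h') * g = y at m e
    rw [e, c.sc_a0 hh' (conj_mem_of_mem_norm hg m), ha y m, show g * h * g⁻¹ * h'⁻¹ *
      (h' * (g * y * g⁻¹) * h'⁻¹) * (g * h * g⁻¹ * h'⁻¹)⁻¹ = g * (h * y * h⁻¹) * g⁻¹ by group,
      ha _ (conj_mem_of_mem_norm n1 m), c.sc_a0 hh m, map_mul, coe_kf]
    ring

theorem Y0_ker (hy : y ∈ c.Y0) (ht : y * c.t = c.t * y) : ∃ x ∈ c.X, ∃ o ∈ c.O, y = x * o :=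
  c.ker_X ht fun u => ⟨_, hy.1.2.2 _ (c.UX u), by
    rw [c.XV (c.UX u) (hy.1.2.2 _ (c.UX u))]; group⟩

theorem sq_ne {k : K0 F q} (h1 : k ≠ 1) : k ^ 2 ≠ 1 := fun e =>
  h1 (k0_ext (eq_one_of_pow (k := 1) (by simpa using congrArg Subtype.val e)))

theorem exists_b (h : c.VF) : ∃ y ∈ c.Y0, c.D y c.t ≠ 0 := by
  obtain ⟨s, hs, sR, r0, hr0, r1, hc⟩ := h
  obtain ⟨r, hr, k, e⟩ := c.mem_V.1 hs
  have k0 : k ≠ 0 := fun h => sR (by rwa [e, h, c.z_zero, mul_one])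
  obtain ⟨g0, rfl⟩ := isConj_iff.1 hc
  obtain ⟨d, hd, e1⟩ := c.frame' (c.syl.isPGroup.to_le c.XT) hr0 r1 fun y hy => c.XV hy hs
  have hg : g0 * d ∈ normalizer (c.X : Set G) := inv_mem_iff.1 (H70.cj_eq_self_iff.1 (c.DX
    (H70.cj_le_iff.2 fun y hy => by simpa only [inv_inv] using e1 y hy) (by
      rintro _ ⟨x, hx, rfl⟩ _ ⟨y, hy, rfl⟩
      simp only [MulEquiv.coe_toMonoidHom, ← map_inv, ← map_mul]
      rw [c.X_comm hx hy, ← c.z_comm _ hy, mul_inv_cancel_right, c.z_sq, map_one])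
      (H70.card_cj _ _).ge))
  rw [show g0 * r0 * g0⁻¹ = g0 * d * r0 * (g0 * d)⁻¹ by
    rw [mul_assoc g0 d, c.tR' hd hr0]; group] at e
  generalize g0 * d = g at hg e
  obtain ⟨l, φ, -, ha, -⟩ := c.actN hg
  obtain ⟨κ, κ0, κ1⟩ := exists_k0 (F := F) c.q4
  obtain ⟨h, -, hh⟩ := c.exists_h0 κ κ0
  obtain ⟨h', -, hh'⟩ := c.exists_h0 (kf φ κ) (mt (kf_eq_zero φ).1 κ0)
  have hy := c.sc_cj hg ha hh hh'
  refine ⟨_, hy, fun b0 => ?_⟩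
  have c1 : Commute (g * h * g⁻¹) c.t := by
    simpa using Commute.mul_left (c.of_b_zero hy b0) (c.Ht hh'.1)
  have c2 : Commute (g * h * g⁻¹) (r * c.z k) := by
    change _ * _ = _ * _
    calc _ = g * (h * r0) * g⁻¹ := by rw [← e]; group
      _ = _ := by rw [c.tR' (c.Ht hh.1) hr0, ← e]; group
  have c3 := (Commute.inv_right (c.tR' c1 hr)).mul_right c2
  rw [inv_mul_cancel_left] at c3
  have c4 := c.Y0_z hy (nm q (kf φ κ : F) * k)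
  rw [← c.sc_z hh', show g * h * g⁻¹ * h'⁻¹ * (h' * c.z k * h'⁻¹) * (g * h * g⁻¹ * h'⁻¹)⁻¹ =
    g * h * g⁻¹ * c.z k * (g * h * g⁻¹)⁻¹ by group, c3.eq, mul_inv_cancel_right, c.sc_z hh',
    c.z_inj, nm_k0, eq_comm, mul_eq_right₀ k0] at c4
  exact sq_ne (fun e => κ1 ((kf_inj φ).1 (e.trans (kf_one φ).symm))) c4

theorem D_mul2 (hw : w ∈ c.Y0) {k k' : K0 F q} (h : y * x * y⁻¹ = x * c.z k)
    (h' : y * w * y⁻¹ = w * c.z k') : y * (x * w) * y⁻¹ = x * w * c.z (k + k') := by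
  rw [show y * (x * w) * y⁻¹ = y * x * y⁻¹ * (y * w * y⁻¹) by group, h, h', c.z_add, mul_assoc x,
    ← mul_assoc _ w, c.Y0_z' hw]; group

theorem dec_eta {η : F} (hh : c.Sc h η) (h1 : η ≠ 1) (u : UM F q) :
    ∃ v k, c.U u = h * c.U v * h⁻¹ * c.U v * c.z k ∧ v.x = u.x / (η + 1) := by
  obtain ⟨v, hv⟩ := exists_um (q := q) (u.x / (η + 1))
  have h0 : η + 1 ≠ 0 := mt CharTwo.add_eq_zero.1 h1
  obtain ⟨k, e⟩ := exists_zz (u := (sl η (RingEquiv.refl F) v * v)⁻¹ * u) (by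
    simp only [UM.mul_x, UM.inv_x, sl_x, hv, RingEquiv.refl_apply]
    field_simp
    rw [CharTwo.neg_eq, CharTwo.add_self_eq_zero, mul_zero])
  exact ⟨v, k, by rw [hh.2, Ctx0.z, ← e, ← map_mul, ← map_mul, mul_inv_cancel_left], hv⟩

open Classical in
/-- the coordinate `a` -/
noncomputable def aa (y : G) : F :=
  if h : ∃ a, ∀ u, y * c.U u * y⁻¹ = c.U u * c.z (cm q a u.x) then h.choose else 0

theorem aa_eq {a : F} (h : ∀ u, y * c.U u * y⁻¹ = c.U u * c.z (cm q a u.x)) : c.aa y = a := by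
  have h' : ∃ a, ∀ u, y * c.U u * y⁻¹ = c.U u * c.z (cm q a u.x) := ⟨a, h⟩
  rw [aa, dif_pos h']
  refine cm_nd (q := q) fun x => ?_
  obtain ⟨u, rfl⟩ := exists_um (q := q) x
  exact c.z_inj.1 (mul_left_cancel ((h'.choose_spec u).symm.trans (h u)))

theorem aa_X (hx : x ∈ c.X) : c.aa x = c.a0 x := c.aa_eq fun u => by rw [c.X_comm hx (c.UX u), c.a0_U]

section Act

variable {l : F} {φ : F ≃+* F} {u : UM F q} (ht : y * c.t = c.t * y)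
  (hy : ∀ v, y * c.U v * y⁻¹ = c.U (u * sl l φ v * u⁻¹))
include hy

theorem act_z (m : K0 F q) : y * c.z m * y⁻¹ = c.z (nm q l * kf φ m) := by
  rw [Ctx0.z, hy, sl_zz, conj_zz]; rfl

theorem act_ne : l ≠ 0 := fun e => by
  have := c.act_z hy 1
  rw [e, nm_zero, zero_mul, c.z_zero, mul_inv_eq_one, mul_eq_left, c.z_eq_one] at this
  exact one_ne_zero this

include ht in
theorem act_a0 (hx : x ∈ c.X) : c.a0 (y * x * y⁻¹) = l * φ (c.a0 x) := by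
  obtain ⟨r, hr, v, rfl⟩ := c.mem_X.1 hx
  rw [← mul_assoc, c.tR' ht hr, mul_assoc, mul_assoc, ← mul_assoc y, hy, c.a0_eq hr, c.a0_eq hr,
    conj_x]; rfl

include ht in
theorem act_aa {a : F} (h : ∀ u, p * c.U u * p⁻¹ = c.U u * c.z (cm q a u.x)) :
    c.aa (y * p * y⁻¹) = l * φ a := c.aa_eq fun v => by
  obtain ⟨v', rfl⟩ : ∃ v', v = u * sl l φ v' * u⁻¹ := by
    have : Function.Injective fun v' => u * sl l φ v' * u⁻¹ := fun a b e => c.Uinj (by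
      simpa [← hy] using congrArg c.U e)
    have : Finite (UM F q) := .of_injective _ c.Uinj
    exact (Finite.surjective_of_injective ‹_› v).imp fun _ => Eq.symm
  rw [conj_x, sl_x, cm_mul, ← kf_cm, ← c.act_z hy, ← hy]
  calc _ = y * (p * c.U v' * p⁻¹) * y⁻¹ := by group
    _ = _ := by rw [h]; group

end Act

theorem sc_act {l : F} (hh : c.Sc h l) (v : UM F q) :
    h * c.U v * h⁻¹ = c.U (1 * sl l (RingEquiv.refl F) v * 1⁻¹) := by simpa using hh.2 v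

/-- the output of `gen2` -/
structure P0 (P : Subgroup G) : Prop where
  mem : ∀ y, y ∈ P ↔ y ∈ c.Y0 ∧ y * y ∈ c.X
  pg : IsPGroup 2 P
  sur : ∀ k, ∃ p ∈ P, c.D p c.t = k
  ker : ∀ p ∈ P, c.D p c.t = 0 → p ∈ c.X

theorem exists_P0 (h : c.VF) : ∃ P, c.P0 P := by
  obtain ⟨P, h1, h2, h3, h4⟩ := gen2 k0_add_self c.XY0 (c.syl.isPGroup.to_le c.XT)
    (fun y hy x => conj_mem_of_mem_norm hy.1.1.1) c.Oodd (fun y hy o ho => (hy.1.1.2 o ho).symm)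
    (fun y => c.D y c.t) (fun y hy w hw => c.b_mul hy hw) (fun x hx => c.b_zero (c.Tt (c.XT hx)))
    fun y hy e => c.Y0_ker hy (c.of_b_zero hy e)
  refine ⟨P, h1, h2, fun k => ?_, h4⟩
  by_cases k0 : k = 0
  · exact ⟨1, one_mem _, k0 ▸ c.b_zero (by simp)⟩
  obtain ⟨y, hy, b0⟩ := c.exists_b h
  obtain ⟨m, hm⟩ := sq_surj (k / c.D y c.t)
  obtain ⟨g, -, hg⟩ := c.exists_h0 m fun e => div_ne_zero k0 b0 (by rw [← hm, e]; simp)
  obtain ⟨p, hp, e⟩ := h3 _ (conj_mem_of_mem_norm (c.nY0 (c.sc_nX hg)) hy)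
  exact ⟨p, hp, e.trans ((c.b_cj hy (c.Ht hg.1) (c.sc_z hg _)).trans (by
    rw [nm_k0, hm, div_mul_cancel₀ _ b0]))⟩

namespace P0

variable {c} {P : Subgroup G} (f : c.P0 P)
include f

theorem le (hp : p ∈ P) : p ∈ c.Y0 := ((f.mem p).1 hp).1
theorem XP (hx : x ∈ c.X) : x ∈ P := (f.mem x).2 ⟨c.XY0 hx, mul_mem hx hx⟩
theorem nrm (hn : n ∈ normalizer (c.X : Set G)) : n ∈ normalizer (P : Set G) := nrm_of fun p hp =>
  (f.mem _).2 ⟨conj_mem_of_mem_norm (c.nY0 hn) (f.le hp), by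
    rw [show n * p * n⁻¹ * (n * p * n⁻¹) = n * (p * p) * n⁻¹ by group]
    exact conj_mem_of_mem_norm hn ((f.mem p).1 hp).2⟩
theorem b_inv (hp : p ∈ P) : c.D p⁻¹ c.t = c.D p c.t := by
  have := c.b_mul (f.le (inv_mem hp)) (f.le hp)
  rw [inv_mul_cancel, c.b_zero (by simp)] at this
  exact CharTwo.add_eq_zero.1 this.symm
theorem sc_mem {l : F} (hh : c.Sc h l) (hp : p ∈ P) : h * p * h⁻¹ ∈ P :=
  conj_mem_of_mem_norm (f.nrm (c.sc_nX hh)) hp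
theorem sc_b {l : F} (hh : c.Sc h l) (hp : p ∈ P) : c.D (h * p * h⁻¹) c.t = nm q l * c.D p c.t :=
  c.b_cj (f.le hp) (c.Ht hh.1) (c.sc_z hh _)

theorem aa_spec (hp : p ∈ P) : (∀ x ∈ c.X, ⁅p, x⁆ ∈ c.Z) ∧
    ∀ u, p * c.U u * p⁻¹ = c.U u * c.z (cm q (c.aa p) u.x) := by
  obtain ⟨h, η, hh, η1, η0⟩ := c.exists_h1
  have hY := f.le hp
  have x0 := f.ker _ (mul_mem (inv_mem hp) (f.sc_mem hh hp)) (by
    rw [c.b_mul (f.le (inv_mem hp)) (f.le (f.sc_mem hh hp)), f.b_inv hp, f.sc_b hh hp, η1, one_mul,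
      k0_add_self])
  have hn := c.sc_nX hh
  have key : ∀ x ∈ c.X, p * (h * x * h⁻¹) * p⁻¹ = h * (p * x * p⁻¹) * h⁻¹ *
      c.z (cm q (c.a0 (p⁻¹ * (h * p * h⁻¹))) (η * c.a0 x)) := fun x hx => by
    have := c.X_comm x0 (conj_mem_of_mem_norm hn hx)
    rw [c.sc_a0 hh hx] at this
    rw [← c.z_inv, eq_mul_inv_iff_mul_eq, mul_assoc, ← c.Y0_z' (inv_mem hY), ← mul_assoc,
      mul_assoc p, ← this]
    group
  have k1 : ∀ x ∈ c.X, ⁅p, x⁆ ∈ c.Z := fun x hx => by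
    obtain ⟨r, hr, u, rfl⟩ := c.mem_X.1 hx
    obtain ⟨v, k, e, -⟩ := c.dec_eta hh η0 u
    have m : ∀ x ∈ c.X, ⁅p, x⁆ ∈ c.Z → x ∈ relCent {p} c.Z := fun x hx e =>
      ⟨c.nZ (le_normalizer hx), fun _ e' => by rw [e', ← commutatorElement_inv]; exact inv_mem e⟩
    have hρ := hY.1.2.2 _ (c.UX v)
    obtain ⟨k1, e1⟩ := c.mem_Z.1 ((c.sc_rel hh).2 _ hρ)
    have m1 := conj_mem_of_mem_norm hn (c.UX v)
    have := (mul_mem (m r (c.rX hr) (hY.2.2 r (mem_sup_left hr))) (mul_mem (m _ (mul_mem m1 (c.UX v)) (by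
      rw [show ⁅p, h * c.U v * h⁻¹ * c.U v⁆ = p * (h * c.U v * h⁻¹) * p⁻¹ * ⁅p, c.U v⁆ *
        (h * c.U v * h⁻¹)⁻¹ by group, key _ (c.UX v), show h * (p * c.U v * p⁻¹) * h⁻¹ =
        ⁅h, ⁅p, c.U v⁆⁆ * ⁅p, c.U v⁆ * (h * c.U v * h⁻¹) by group, e1]
      generalize ⁅p, c.U v⁆ = ρ at hρ
      generalize h * c.U v * h⁻¹ = y at m1
      rw [mul_assoc _ y, ← c.z_comm _ m1, mul_assoc, mul_assoc, mul_assoc, mul_assoc, ← mul_assoc y,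
        c.XV m1 hρ, mul_inv_cancel_right, c.z_comm _ (c.VX hρ), ← mul_assoc ρ, c.V_sq hρ, one_mul]
      exact mul_mem (c.zZ _) (c.zZ _))) (m _ (c.zX k) (hY.2.2 _ (mem_sup_right (c.zZ k)))))).2 p rfl
    rw [← e, ← commutatorElement_inv] at this
    exact inv_mem_iff.1 this
  have k2 : ∀ u, p * c.U u * p⁻¹ = c.U u *
      c.z (cm q (H10.cj F q (η / (η + 1)) * c.a0 (p⁻¹ * (h * p * h⁻¹))) u.x) := fun u => by
    obtain ⟨v, k, e, e'⟩ := c.dec_eta hh η0 u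
    have s1 := c.D_spec (c.XY0 (c.UX v)) (k1 _ (c.UX v))
    have s2 := key _ (c.UX v)
    rw [s1, show h * (c.U v * c.z (c.D p (c.U v))) * h⁻¹ = h * c.U v * h⁻¹ *
      (h * c.z (c.D p (c.U v)) * h⁻¹) by group, c.sc_z hh, η1, one_mul, mul_assoc _ (c.z _),
      ← c.z_add] at s2
    have := c.D_mul2 (k' := 0) (c.XY0 (c.zX k)) (c.D_mul2 (c.XY0 (c.UX v)) s2 s1)
      (by rw [c.Y0_z hY]; simp)
    rw [← e] at this
    rw [this, cm_mul_left, H10.cj_cj, c.a0_U, e', add_zero, add_right_comm, k0_add_self, zero_add,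
      div_mul_eq_mul_div, mul_div_assoc]
  exact ⟨k1, by rwa [c.aa_eq k2]⟩

theorem aa_mul (hp : p ∈ P) (hy : y ∈ P) : c.aa (p * y) = c.aa p + c.aa y := c.aa_eq fun u => by
  have := c.D_mul (f.le hp) ((f.aa_spec hp).2 u) ((f.aa_spec hy).2 u)
  rw [c.D_eq ((f.aa_spec (mul_mem hp hy)).2 u)] at this
  rw [cm_add_left, ← this]; exact (f.aa_spec (mul_mem hp hy)).2 u

theorem aa_U (hp : p ∈ P) (h : c.aa p = 0) (u : UM F q) : p * c.U u = c.U u * p := by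
  have := (f.aa_spec hp).2 u
  rwa [h, cm_zero_left, c.z_zero, mul_one, mul_inv_eq_iff_eq_mul] at this

theorem mem_V (hp : p ∈ P) (h : c.aa p = 0) (h' : c.D p c.t = 0) : p ∈ c.V :=
  (c.a0_V (f.ker p hp h')).1 ((c.aa_X (f.ker p hp h')).symm.trans h)

theorem sqZ (hp : p ∈ P) : p * p ∈ c.Z := by
  have k : ∀ p ∈ P, c.aa p = 0 → p * p ∈ c.Z := fun p hp h => by
    have x2 := ((f.mem p).1 hp).2
    obtain ⟨r, hr, k, e⟩ := c.mem_V.1 ((c.a0_V x2).1 (by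
      rw [← c.aa_X x2, f.aa_mul hp hp, h, add_zero]))
    by_cases r1 : r = 1
    · rw [e, r1, one_mul]; exact c.zZ k
    have c1 : Commute p (r * c.z k) := e ▸ Commute.mul_right rfl rfl
    have c2 := c1.mul_right (Commute.inv_right (c.Y0_z' (f.le hp) k).symm)
    rw [mul_inv_cancel_right] at c2
    rw [c.V_sq (f.mem_V hp h (c.b_zero ((c.RC r hr r1 p).1 c2)))]; exact one_mem _
  obtain ⟨u, hu⟩ := exists_um (q := q) (c.aa p)
  have m := mul_mem (f.XP (c.UX u)) hp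
  have a0 : c.aa (c.U u * p) = 0 := by
    rw [f.aa_mul (f.XP (c.UX u)) hp, c.aa_X (c.UX u), c.a0_U, hu, CharTwo.add_self_eq_zero]
  have c1 : Commute (c.U u)⁻¹ (c.U u * p) := Commute.inv_left (f.aa_U m a0 u).symm
  rw [← inv_mul_cancel_left (c.U u) p, ← pow_two, c1.mul_pow, pow_two, pow_two,
    c.X_sq (inv_mem (c.UX u))]
  exact mul_mem (c.zZ _) (k _ m a0)

theorem cj_eq (hp : p ∈ P) (hy : y ∈ P) : p * y * p⁻¹ = y * c.z (c.D p y) := c.D_spec (f.le hy) (by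
  have := mul_mem (mul_mem (f.sqZ hp) (f.sqZ (mul_mem (inv_mem hp) hy))) (f.sqZ (inv_mem hy))
  simpa only [commutatorElement_def, mul_assoc, mul_inv_cancel_left] using this)

theorem inv_eq (hp : p ∈ P) : ∃ k, p⁻¹ = p * c.z k := by
  obtain ⟨k, e⟩ := c.mem_Z.1 (inv_mem (f.sqZ hp))
  exact ⟨k, by rw [← e]; group⟩

theorem sc_aa {l : F} (hh : c.Sc h l) (hp : p ∈ P) : c.aa (h * p * h⁻¹) = l * c.aa p :=
  c.act_aa (c.Ht hh.1) (c.sc_act hh) (f.aa_spec hp).2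

theorem aa_inv (hp : p ∈ P) : c.aa p⁻¹ = c.aa p := by
  have := f.aa_mul (inv_mem hp) hp
  rw [inv_mul_cancel, c.aa_X (one_mem _), (c.a0_V (one_mem _)).2 (one_mem _)] at this
  exact CharTwo.add_eq_zero.1 this.symm

theorem del_mem {l : F} (hh : c.Sc h l) (hp : p ∈ P) : ⁅h, p⁆ ∈ P :=
  mul_mem (f.sc_mem hh hp) (inv_mem hp)

theorem del_mul {l : F} (hh : c.Sc h l) (hp : p ∈ P) (hy : y ∈ P) :
    ⁅h, p * y⁆ = ⁅h, p⁆ * ⁅h, y⁆ * c.z (c.D p ⁅h, y⁆) := by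
  rw [mul_assoc, ← f.cj_eq hp (f.del_mem hh hy)]; group

/-- the subgroup `W` -/
def W {l : F} (hh : c.Sc h l) : Subgroup G where
  carrier := {w | ∃ p ∈ P, c.aa p = 0 ∧ ∃ k, w = ⁅h, p⁆ * c.z k}
  one_mem' := ⟨1, one_mem _, by rw [c.aa_X (one_mem _), (c.a0_V (one_mem _)).2 (one_mem _)], 0, by simp⟩
  mul_mem' := by
    rintro _ _ ⟨p, hp, a, k, rfl⟩ ⟨y, hy, a', k', rfl⟩
    refine ⟨_, mul_mem hp hy, by rw [f.aa_mul hp hy, a, a', add_zero], c.D p ⁅h, y⁆ + (k + k'), ?_⟩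
    rw [f.del_mul hh hp hy, mul_assoc _ (c.z (c.D p ⁅h, y⁆)), ← c.z_add, ← add_assoc, k0_add_self, zero_add,
      c.z_add, mul_assoc, ← mul_assoc (c.z k), c.Y0_z' (f.le (f.del_mem hh hy))]; group
  inv_mem' := by
    rintro _ ⟨p, hp, a, k, rfl⟩
    obtain ⟨k', e⟩ := f.inv_eq (mul_mem (f.del_mem hh hp) (f.XP (c.zX k)))
    exact ⟨p, hp, a, k + k', by rw [e, c.z_add, mul_assoc]⟩

section W

variable {κ : K0 F q} (hh : c.Sc h κ)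
include hh

theorem zW (k : K0 F q) : c.z k ∈ f.W hh :=
  ⟨1, one_mem _, by rw [c.aa_X (one_mem _), (c.a0_V (one_mem _)).2 (one_mem _)], k, by simp⟩

theorem W_le (hw : w ∈ f.W hh) : w ∈ P ∧ c.aa w = 0 := by
  obtain ⟨p, hp, a, k, rfl⟩ := hw
  refine ⟨mul_mem (f.del_mem hh hp) (f.XP (c.zX k)), ?_⟩
  rw [f.aa_mul (f.del_mem hh hp) (f.XP (c.zX k)), commutatorElement_def,
    f.aa_mul (f.sc_mem hh hp) (inv_mem hp), f.sc_aa hh hp, f.aa_inv hp, a, c.aa_X (c.zX k), Ctx0.z,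
    c.a0_U]
  simp

theorem W_b (hp : p ∈ P) (k : K0 F q) : c.D (⁅h, p⁆ * c.z k) c.t = (κ ^ 2 + 1) * c.D p c.t := by
  rw [c.b_mul (f.le (f.del_mem hh hp)) (c.XY0 (c.zX k)), c.b_zero (c.Tt (c.XT (c.zX k))),
    commutatorElement_def, c.b_mul (f.le (f.sc_mem hh hp)) (f.le (inv_mem hp)), f.sc_b hh hp,
    f.b_inv hp, nm_k0]
  ring

theorem W_sc {l : F} {g : G} (hg : c.Sc g l) (hw : w ∈ f.W hh) : g * w * g⁻¹ ∈ f.W hh := by
  obtain ⟨p, hp, a, k, rfl⟩ := hw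
  refine ⟨_, f.sc_mem hg hp, by rw [f.sc_aa hg hp, a, mul_zero], nm q l * k, ?_⟩
  rw [← c.sc_z hg, show g * (⁅h, p⁆ * c.z k) * g⁻¹ = ⁅g * h * g⁻¹, g * p * g⁻¹⁆ * (g * c.z k * g⁻¹) by
    group, c.Hc g hg.1 h hh.1, mul_inv_cancel_right]

variable (κ1 : κ ≠ 1)
include κ1

theorem W_surj (k : K0 F q) : ∃ w ∈ f.W hh, c.D w c.t = k := by
  have h0 : κ ^ 2 + 1 ≠ 0 := mt CharTwo.add_eq_zero.1 (sq_ne κ1)
  obtain ⟨p, hp, e⟩ := f.sur (k / (κ ^ 2 + 1))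
  obtain ⟨u, hu⟩ := exists_um (q := q) (c.aa p)
  have m := mul_mem (f.XP (c.UX u)) hp
  exact ⟨_, ⟨_, m, by rw [f.aa_mul (f.XP (c.UX u)) hp, c.aa_X (c.UX u), c.a0_U, hu,
    CharTwo.add_self_eq_zero], 0, rfl⟩, by
    rw [f.W_b hh m, c.b_mul (c.XY0 (c.UX u)) (f.le hp), c.b_zero (c.Tt (c.UT u)), zero_add, e,
      mul_div_cancel₀ _ h0]⟩

theorem W_eq (hw : w ∈ f.W hh) (hv : v ∈ f.W hh) (e : c.D w c.t = c.D v c.t) :
    ∃ k, w = v * c.z k := by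
  obtain ⟨p, hp, a, k, e1⟩ := mul_mem (inv_mem hv) hw
  have h1 := f.W_b hh hp k
  rw [← e1, c.b_mul (f.le (inv_mem (f.W_le hh hv).1)) (f.le (f.W_le hh hw).1),
    f.b_inv (f.W_le hh hv).1, e, k0_add_self, eq_comm, mul_eq_zero] at h1
  obtain ⟨k', e2⟩ := c.mem_Z.1 ((c.sc_rel hh).2 _
    (f.mem_V hp a (h1.resolve_left (mt CharTwo.add_eq_zero.1 (sq_ne κ1)))))
  exact ⟨k' + k, by rw [c.z_add, ← e2, ← e1, mul_inv_cancel_left]⟩

theorem dec (hp : p ∈ P) : ∃ x ∈ c.X, ∃ w ∈ f.W hh, p = x * w := by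
  obtain ⟨w, hw, e⟩ := f.W_surj hh κ1 (c.D p c.t)
  have m := (f.W_le hh hw).1
  exact ⟨_, f.ker _ (mul_mem hp (inv_mem m)) (by
    rw [c.b_mul (f.le hp) (f.le (inv_mem m)), f.b_inv m, e, k0_add_self]), w, hw, by group⟩

theorem W_act (κ0 : κ ≠ 0) {l : F} {φ : F ≃+* F} {u : UM F q} (ht : y * c.t = c.t * y)
    (hy : ∀ v, y * c.U v * y⁻¹ = c.U (u * sl l φ v * u⁻¹)) (hw : w ∈ f.W hh) :
    y * w * y⁻¹ ∈ f.W hh := by
  obtain ⟨p, hp, a, k, rfl⟩ := hw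
  have hn := c.nX ht fun v => ⟨_, hy v⟩
  obtain ⟨g, -, hg⟩ := c.exists_h0 (kf φ κ) (mt (kf_eq_zero φ).1 κ0)
  obtain ⟨x, hx, o, ho, e⟩ := c.Y0_ker (c.sc_cj hn (fun x => c.act_a0 ht hy) hh hg)
    (((Commute.mul_left ht (c.Ht hh.1)).mul_left (Commute.inv_left ht)).mul_left
      (Commute.inv_left (c.Ht hg.1)))
  have hp' := conj_mem_of_mem_norm (f.nrm hn) hp
  have a' := c.act_aa ht hy (f.aa_spec hp).2
  rw [a, map_zero, mul_zero] at a'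
  rw [show y * (⁅h, p⁆ * c.z k) * y⁻¹ = y * h * y⁻¹ * g⁻¹ * (g * (y * p * y⁻¹) * g⁻¹) *
    (y * h * y⁻¹ * g⁻¹)⁻¹ * (y * p * y⁻¹)⁻¹ * (y * c.z k * y⁻¹) by group, c.act_z hy, e]
  generalize y * p * y⁻¹ = p at hp' a'
  refine mul_mem ?_ (f.zW hh _)
  have m := f.sc_mem hg hp'
  rw [show x * o * (g * p * g⁻¹) * (x * o)⁻¹ = x * (o * (g * p * g⁻¹) * o⁻¹) * x⁻¹ by group,
    (f.le m).1.1.2 o ho, mul_inv_cancel_right, f.cj_eq (f.XP hx) m, mul_assoc,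
    c.Y0_z' (f.le (inv_mem hp')), ← mul_assoc]
  refine mul_mem ?_ (f.zW hh _)
  obtain ⟨v, hv, w, hw, rfl⟩ := f.dec hh κ1 hp'
  have m' := f.W_le hh hw
  rw [f.aa_mul (f.XP hv) m'.1, m'.2, add_zero, c.aa_X hv, c.a0_V hv] at a'
  obtain ⟨k', e'⟩ := c.mem_Z.1 ((c.sc_rel hg).2 _ a')
  have m2 := mul_mem (f.W_sc hh hg hw) (inv_mem hw)
  rw [show g * (v * w) * g⁻¹ * (v * w)⁻¹ = ⁅g, v⁆ * (v * (g * w * g⁻¹ * w⁻¹) * v⁻¹) by group, e',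
    f.cj_eq (f.XP hv) (f.W_le hh m2).1]
  exact mul_mem (f.zW hh _) (mul_mem m2 (f.zW hh _))

variable {w1 : G} (h1 : w1 ∈ f.W hh) (b1 : c.D w1 c.t = 1)
include h1 b1

theorem W_key (hw : w ∈ f.W hh) : w * w = c.z (c.zt (w1 * w1) * c.D w c.t) ∧
    ∀ r ∈ c.R, w * r * w⁻¹ = r * c.z (c.D w1 r * c.D w c.t) := by
  by_cases b0 : c.D w c.t = 0
  · obtain ⟨k, e⟩ := f.W_eq hh κ1 hw (one_mem _) (b0.trans (c.b_zero (by simp)).symm)
    rw [b0, e, one_mul, mul_zero, c.z_zero]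
    exact ⟨c.z_sq k, fun r hr => by rw [c.z_comm _ (c.rX hr)]; simp⟩
  obtain ⟨m, hm⟩ := sq_surj (c.D w c.t)
  obtain ⟨g, -, hg⟩ := c.exists_h0 m fun e => b0 (by rw [← hm, e]; simp)
  have m1 := (f.W_le hh h1).1
  obtain ⟨k, e⟩ := f.W_eq hh κ1 hw (f.W_sc hh hg h1) (by rw [f.sc_b hg m1, b1, nm_k0, hm, mul_one])
  obtain ⟨k1, e1⟩ := c.mem_Z.1 (f.sqZ m1)
  rw [← hm, ← nm_k0, e1, c.zt_z, mul_comm k1, ← c.sc_z hg, ← e1, e]
  refine ⟨?_, fun r hr => ?_⟩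
  · rw [mul_assoc (g * w1 * g⁻¹), ← mul_assoc (c.z k), c.Y0_z' (f.le (f.sc_mem hg m1)),
      mul_assoc (g * w1 * g⁻¹), c.z_sq]; group
  · have c1 : Commute g r := c.tR' (c.Ht hg.1) hr
    calc _ = g * w1 * g⁻¹ * (c.z k * r * (c.z k)⁻¹) * g * w1⁻¹ * g⁻¹ := by group
      _ = g * (w1 * r * w1⁻¹) * g⁻¹ := by
        rw [c.z_comm _ (c.rX hr), mul_inv_cancel_right, mul_assoc _ g⁻¹, c1.inv_left.eq]; group
      _ = _ := by
        rw [f.cj_eq m1 (f.XP (c.rX hr)), mul_comm (c.D w1 r), ← c.sc_z hg, ← mul_assoc g, c1.eq]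
        group

theorem e_W (hw : w ∈ f.W hh) : c.D w1 w = 0 := by
  have m1 := (f.W_le hh h1).1
  have m := (f.W_le hh hw).1
  have e := (f.W_key hh κ1 h1 b1 (mul_mem hw h1)).1
  rw [show w * w1 * (w * w1) = w * (w1 * w * w1⁻¹) * (w1 * w1) by group, f.cj_eq m1 m, ← mul_assoc w,
    (f.W_key hh κ1 h1 b1 hw).1, (f.W_key hh κ1 h1 b1 h1).1, c.zt_z, ← c.z_add, ← c.z_add, c.z_inj,
    c.b_mul (f.le m) (f.le m1), b1] at e
  linear_combination e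

theorem e_mul (hp : p ∈ P) (hy : y ∈ P) : c.D w1 (p * y) = c.D w1 p + c.D w1 y :=
  c.D_eq (c.D_mul2 (f.le hy) (f.cj_eq (f.W_le hh h1).1 hp) (f.cj_eq (f.W_le hh h1).1 hy))

theorem e_U (u : UM F q) : c.D w1 (c.U u) = 0 :=
  c.D_eq (by rw [f.aa_U (f.W_le hh h1).1 (f.W_le hh h1).2]; simp)

theorem dec' (hp : p ∈ P) : ∃ r ∈ c.R, ∃ u, ∃ w ∈ f.W hh, p = r * c.U u * w ∧
    c.D w1 p = c.D w1 r ∧ c.aa p = u.x ∧ c.D p c.t = c.D w c.t := by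
  obtain ⟨x, hx, w, hw, rfl⟩ := f.dec hh κ1 hp
  have m := f.W_le hh hw
  obtain ⟨r, hr, u, e⟩ := c.mem_X.1 hx
  refine ⟨r, hr, u, w, hw, by rw [e], ?_, ?_, ?_⟩
  · rw [f.e_mul hh κ1 h1 b1 (f.XP hx) m.1, f.e_W hh κ1 h1 b1 hw, e,
      f.e_mul hh κ1 h1 b1 (f.XP (c.rX hr)) (f.XP (c.UX u)), f.e_U hh κ1 h1 b1, add_zero, add_zero]
  · rw [f.aa_mul (f.XP hx) m.1, m.2, c.aa_X hx, e, c.a0_eq hr, add_zero]
  · rw [c.b_mul (c.XY0 hx) (f.le m.1), c.b_zero (c.Tt (c.XT hx)), zero_add]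

theorem sq (hp : p ∈ P) :
    p * p = c.z (nm q (c.aa p) + (c.zt (w1 * w1) + c.D w1 p) * c.D p c.t) := by
  obtain ⟨r, hr, u, w, hw, rfl, e1, e2, e3⟩ := f.dec' hh κ1 h1 b1 hp
  have k := f.W_key hh κ1 h1 b1 hw
  have m := f.W_le hh hw
  rw [e1, e2, e3, show r * c.U u * w * (r * c.U u * w) =
    r * c.U u * (w * r * w⁻¹ * (w * c.U u * w⁻¹)) * (w * w) by group, k.2 r hr, k.1,
    f.aa_U m.1 m.2, mul_inv_cancel_right, mul_assoc r (c.z _), c.z_comm _ (c.UX u), ← mul_assoc r,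
    ← mul_assoc (r * c.U u), c.X_sq (mul_mem (c.rX hr) (c.UX u)), c.a0_eq hr, ← c.z_add, ← c.z_add]
  congr 1; ring

theorem comm (hp : p ∈ P) (hy : y ∈ P) : p * y = y * p *
    c.z (cm q (c.aa p) (c.aa y) + c.D w1 p * c.D y c.t + c.D w1 y * c.D p c.t) := by
  have e := f.sq hh κ1 h1 b1 (mul_mem hp hy)
  rw [show p * y * (p * y) = p * y * p⁻¹ * (p * p) * y by group, f.cj_eq hp hy,
    f.sq hh κ1 h1 b1 hp, mul_assoc y, ← c.z_add, mul_assoc y, c.Y0_z' (f.le hy), ← mul_assoc,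
    f.sq hh κ1 h1 b1 hy, ← c.z_add, c.z_inj, f.aa_mul hp hy, f.e_mul hh κ1 h1 b1 hp hy,
    c.b_mul (f.le hp) (f.le hy), nm_add] at e
  rw [mul_assoc, ← c.Y0_z' (f.le hp), ← mul_assoc, ← mul_inv_eq_iff_eq_mul, f.cj_eq hp hy]
  congr 2
  linear_combination e

theorem eR (hr : r ∈ c.R) (e : c.D w1 r = 0) : r = 1 := by
  by_contra r1
  have := f.cj_eq (f.W_le hh h1).1 (f.XP (c.rX hr))
  rw [e, c.z_zero, mul_one, mul_inv_eq_iff_eq_mul] at this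
  exact zero_ne_one ((c.b_zero ((c.RC r hr r1 w1).1 this)).symm.trans b1)

end W

end P0

end Ctx

theorem Ctx.st1 (c : Ctx G F q) (h : c.VF) : Nonempty (Fr1 c) := by
  obtain ⟨P, f⟩ := c.exists_P0 h
  obtain ⟨κ, κ0, κ1⟩ := exists_k0 (F := F) c.q4
  obtain ⟨h, -, hh⟩ := c.exists_h0 κ κ0
  obtain ⟨w1, h1, b1⟩ := f.W_surj hh κ1 1
  refine ⟨{
    P := P, e := c.D w1, a := c.aa, b := fun y => c.D y c.t, cc := c.zt (w1 * w1), pg := f.pg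
    e_mul := fun y hy y' hy' => f.e_mul hh κ1 h1 b1 hy hy'
    a_mul := fun y hy y' hy' => f.aa_mul hy hy'
    b_mul := fun y hy y' hy' => c.b_mul (f.le hy) (f.le hy')
    ker := fun y hy e a b => ?_
    mU := fun u => ⟨f.XP (c.UX u), f.e_U hh κ1 h1 b1 u, by rw [c.aa_X (c.UX u), c.a0_U],
      c.b_zero (c.Tt (c.UT u))⟩
    mR := fun r hr => ⟨f.XP (c.rX hr), by
      rw [c.aa_X (c.rX hr), (c.a0_V (c.rX hr)).2 (mem_sup_left hr)], c.b_zero (c.Tt (c.RT hr))⟩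
    eR := fun r hr => f.eR hh κ1 h1 b1 hr
    et := b1
    eP := fun y hy => ?_
    surj := fun k => ?_
    sq := fun y hy => f.sq hh κ1 h1 b1 hy
    comm := fun y hy y' hy' => f.comm hh κ1 h1 b1 hy hy'
    nrm := fun g => f.nrm
    act := fun y ht u l φ hy p hp => ?_
    Oc := fun o ho p hp => (f.le hp).1.1.2 o ho
    max := fun y ⟨n, hn⟩ hy => ?_ }⟩
  · obtain ⟨r, hr, k, rfl⟩ := c.mem_V.1 (f.mem_V hy a b)
    rw [f.e_mul hh κ1 h1 b1 (f.XP (c.rX hr)) (f.XP (c.zX k)), Ctx0.z, f.e_U hh κ1 h1 b1,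
      add_zero] at e
    exact ⟨k, by rw [f.eR hh κ1 h1 b1 hr e, one_mul]⟩
  · obtain ⟨r, hr, -, -, -, -, e, -⟩ := f.dec' hh κ1 h1 b1 hy
    exact ⟨r, hr, e⟩
  · obtain ⟨w, hw, e⟩ := f.W_surj hh κ1 k
    exact ⟨w, (f.W_le hh hw).1, f.e_W hh κ1 h1 b1 hw, (f.W_le hh hw).2, e⟩
  · have hn := f.nrm (c.nX ht fun v => ⟨_, hy v⟩)
    have hb : ∀ p ∈ P, c.D (y * p * y⁻¹) c.t = nm q l * kf φ (c.D p c.t) := fun p hp =>
      c.b_cj (f.le hp) ht (c.act_z hy _)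
    refine ⟨conj_mem_of_mem_norm hn hp, ?_, c.act_aa ht hy (f.aa_spec hp).2, hb p hp⟩
    have m1 := (f.W_le hh h1).1
    have hw := f.W_act hh κ1 κ0 ht hy h1
    have he : ∀ p ∈ P, c.D w1 (y * p * y⁻¹) = kf φ (c.D w1 p) := fun p hp => by
      have e := f.comm hh κ1 h1 b1 (f.W_le hh hw).1 (conj_mem_of_mem_norm hn hp)
      rw [(f.W_le hh hw).2, f.e_W hh κ1 h1 b1 hw, hb w1 m1, b1, kf_one, cm_zero_left, zero_mul,
        zero_add, zero_add, mul_one, show y * w1 * y⁻¹ * (y * p * y⁻¹) =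
          y * (w1 * p * w1⁻¹) * w1 * y⁻¹ by group, f.cj_eq m1 hp, mul_assoc y,
        mul_assoc p, c.Y0_z' (f.le m1), show y * (p * (w1 * c.z (c.D w1 p))) * y⁻¹ =
          y * p * y⁻¹ * (y * w1 * y⁻¹) * (y * c.z (c.D w1 p) * y⁻¹) by group, c.act_z hy,
        mul_right_inj, c.z_inj, mul_comm] at e
      exact (mul_right_cancel₀ (mt nm_eq_zero.1 (c.act_ne hy)) e).symm
    obtain ⟨r, hr, -, -, -, -, e, -⟩ := f.dec' hh κ1 h1 b1 hp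
    rw [he p hp, e, ← he r (f.XP (c.rX hr)), c.tR' ht hr, mul_inv_cancel_right]
  · obtain ⟨k, e⟩ := hy c.t (c.rX c.tR)
    obtain ⟨w, hw, b⟩ := f.W_surj hh κ1 k
    have m := f.W_le hh hw
    obtain ⟨x, hx, o, ho, e1⟩ := c.ker_X (y := w⁻¹ * y) (by
      calc _ = w⁻¹ * (y * c.t * y⁻¹) * y := by group
        _ = _ := by rw [e, ← b, ← c.b_spec (f.le m.1)]; group) fun u => by
      obtain ⟨k, e⟩ := hy _ (c.UX u)
      refine ⟨c.z k, mem_sup_right (c.zZ k), ?_⟩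
      have c1 : Commute w (c.U u * c.z k) :=
        Commute.mul_right (f.aa_U m.1 m.2 u) (c.Y0_z' (f.le m.1) k).symm
      rw [show w⁻¹ * y * c.U u * (w⁻¹ * y)⁻¹ = w⁻¹ * (y * c.U u * y⁻¹) * w by group, e,
        c1.inv_left.eq, inv_mul_cancel_right]
    have hp := mul_mem m.1 (f.XP hx)
    rw [inv_mul_eq_iff_eq_mul, ← mul_assoc] at e1
    generalize w * x = p at hp e1
    have c1 : Commute p o := ((f.le hp).1.1.2 o ho).symm
    obtain ⟨j, hj⟩ := f.pg ⟨p, hp⟩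
    have o1 : o ^ 2 ^ (n + j) = 1 := by
      have := congrArg (· ^ 2 ^ j) hn
      simp only [e1, one_pow] at this
      rwa [← pow_mul, c1.mul_pow, mul_comm (2 ^ n), pow_mul p,
        show p ^ 2 ^ j = 1 from congrArg Subtype.val hj, one_pow, one_mul, ← pow_add,
        add_comm] at this
    rw [e1, orderOf_eq_one_iff.1 (Nat.eq_one_of_dvd_coprimes
      (Nat.Coprime.pow_right _ c.Oodd.coprime_two_right) (orderOf_dvd_natCard _ ho)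
      (orderOf_dvd_of_pow_eq_one o1)), mul_one]
    exact hp

end Cfsg.Agent.GMS
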