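import Cfsg.Agent.GMS.Lam

/-! Project GMS: the second step, translations on `t P₀ / W`. -/

set_option autoImplicit false
set_option linter.unusedSectionVars false

namespace Cfsg.Agent.GMS

open Subgroup H10 H91
open H42 hiding SylIn

variable {G : Type*} [Group G] [Finite G] {F : Type*} [Field F] [Fintype F] [CharP F 2] {q : ℕ}
  [hF : Fact (Fintype.card F = q ^ 2)]

theorem sa_conj {P : Subgroup G} {g p : G} (hg : g ∈ normalizer (P : Set G)) (hp : p ∈ P) :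
    g * p * g⁻¹ ∈ P := (mem_normalizer_iff.1 hg p).1 hp

theorem sa_conj' {P : Subgroup G} {g p : G} (hg : g ∈ normalizer (P : Set G)) (hp : p ∈ P) :
    g⁻¹ * p * g ∈ P := by simpa using sa_conj (inv_mem hg) hp

theorem sa_sc_pow {c : Ctx0 G F q} {h : G} {l : F} (hh : c.Sc h l) (n : ℕ) : c.Sc (h ^ n) (l ^ n) := by
  refine ⟨pow_mem hh.1 n, ?_⟩
  induction n with
  | zero => intro u; simp
  | succ n ih =>
    intro u
    have e : h ^ (n + 1) * c.U u * (h ^ (n + 1))⁻¹ = h * (h ^ n * c.U u * (h ^ n)⁻¹) * h⁻¹ := by group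
    rw [e, ih, hh.2]
    congr 1
    ext <;> simp <;> ring

theorem sa_odd {c : Ctx0 G F q} {h y : G} (hh : h ∈ c.H) (h2 : h * h * y = y * (h * h)) :
    h * y = y * h := by
  obtain ⟨m, hm⟩ := c.Hodd
  have e : h ^ (2 * m + 1) = 1 := by
    rw [← hm]; exact congrArg Subtype.val (pow_card_eq_one' (G := c.H) (x := ⟨h, hh⟩))
  have h3 : Commute (h ^ (2 * m + 1) * h) y := by
    rw [← pow_succ, show 2 * m + 1 + 1 = 2 * (m + 1) by ring, pow_mul, sq]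
    exact Commute.pow_left h2 _
  rwa [e, one_mul] at h3

namespace Fr1

variable {c : Ctx G F q} (f : Fr1 c)

theorem sa_t : c.t ∈ f.P ∧ f.a c.t = 0 ∧ f.b c.t = 0 := f.mR _ c.tR

theorem sa_conjP {p y : G} (hp : p ∈ f.P) (hy : y ∈ f.P) :
    f.e (p * y * p⁻¹) = f.e y ∧ f.a (p * y * p⁻¹) = f.a y := by
  rw [f.e_mul _ (mul_mem hp hy) _ (inv_mem hp), f.a_mul _ (mul_mem hp hy) _ (inv_mem hp),
    f.e_mul _ hp _ hy, f.a_mul _ hp _ hy, f.e_inv hp, f.a_inv hp]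
  exact ⟨by rw [add_right_comm, k0_add_self, zero_add],
    by rw [add_right_comm, CharTwo.add_self_eq_zero, zero_add]⟩

theorem sa_e0 {p : G} (hp : p ∈ f.P) : f.e p = 0 ↔ ∀ w ∈ f.W, p * w = w * p := by
  constructor
  · intro h w hw
    rw [f.comm_iff hp hw.1, h, hw.2.1, hw.2.2]; simp
  · intro h
    obtain ⟨w, hw, h1, h2, h3⟩ := f.surj 1
    have := (f.comm_iff hp hw).1 (h w ⟨hw, h1, h2⟩)
    rw [h1, h2, h3] at this
    simpa using this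

theorem sa_act {h : G} {l : F} (hh : c.Sc h l) {p : G} (hp : p ∈ f.P) :
    h * p * h⁻¹ ∈ f.P ∧ f.e (h * p * h⁻¹) = f.e p ∧ f.a (h * p * h⁻¹) = l * f.a p ∧
      f.b (h * p * h⁻¹) = nm q l * f.b p :=
  f.act h (c.Ht hh.1) 1 l (RingEquiv.refl F) (fun u => by simpa using hh.2 u) p hp

theorem sa_nrmP {g : G} (hg : g * c.t = c.t * g) {w : UM F q} {l : F} {φ : F ≃+* F}
    (h : ∀ u, g * c.U u * g⁻¹ = c.U (w * sl l φ u * w⁻¹)) : g ∈ normalizer (f.P : Set G) :=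
  f.nrm g (mem_normalizer_fintype fun x hx => by
    obtain ⟨h1, h2⟩ := f.mem_X.1 hx
    obtain ⟨h3, -, -, h4⟩ := f.act g hg w l φ h x h1
    rw [h2, kf_zero, mul_zero] at h4
    exact f.mem_X.2 ⟨h3, h4⟩)

theorem sa_nrmO {g o : G} (hg : g ∈ normalizer (f.P : Set G)) (ho : o ∈ c.O) :
    g * o * g⁻¹ ∈ c.O := by
  obtain ⟨v, hv, o', ho', e⟩ := c.cent_X (y := g * o * g⁻¹) fun x hx => by
    have := f.Oc o ho _ (sa_conj' hg (f.mem_X.1 hx).1)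
    calc g * o * g⁻¹ * x = g * (o * (g⁻¹ * x * g)) * g⁻¹ := by group
      _ = x * (g * o * g⁻¹) := by rw [this]; group
  obtain ⟨hvP, h1, h2⟩ := f.mem_V.1 hv
  have hv2 : v * v = 1 := by rw [f.sq v hvP, h1, h2]; simp
  obtain ⟨m, hm⟩ := c.Oodd
  have hp : ∀ x ∈ c.O, x ^ (2 * m + 1) = 1 := fun x hx => by
    rw [← hm]; exact congrArg Subtype.val (pow_card_eq_one' (G := c.O) (x := ⟨x, hx⟩))
  have h3 : (v * o') ^ (2 * m + 1) = 1 := by rw [← e, conj_pow, hp o ho]; group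
  rw [(show Commute v o' from (f.Oc o' ho' v hvP).symm).mul_pow, hp o' ho', mul_one, pow_succ,
    pow_mul, pow_two v, hv2, one_pow, one_mul] at h3
  rw [e, h3, one_mul]; exact ho'

/-- the translations of `t P₀ / W` -/
def saY : Subgroup G where
  carrier := {y | y ∈ normalizer (f.P : Set G) ∧ (∀ o ∈ c.O, y * o = o * y) ∧
    ∀ p ∈ f.P, f.e (y * p * y⁻¹) = f.e p ∧ (f.e p = 0 → f.a (y * p * y⁻¹) = f.a p)}
  one_mem' := ⟨one_mem _, fun o _ => by simp, fun p _ => by simp⟩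
  mul_mem' {x y} hx hy := ⟨mul_mem hx.1 hy.1,
    fun o ho => by rw [mul_assoc, hy.2.1 o ho, ← mul_assoc, hx.2.1 o ho, mul_assoc], fun p hp => by
      have e : x * y * p * (x * y)⁻¹ = x * (y * p * y⁻¹) * x⁻¹ := by group
      obtain ⟨h1, h2⟩ := hx.2.2 _ (sa_conj hy.1 hp)
      obtain ⟨h3, h4⟩ := hy.2.2 p hp
      rw [e]
      exact ⟨h1.trans h3, fun h => (h2 (h3.trans h)).trans (h4 h)⟩⟩
  inv_mem' {x} hx := ⟨inv_mem hx.1,
    fun o ho => (Commute.inv_left (hx.2.1 o ho) : Commute x⁻¹ o), fun p hp => by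
      obtain ⟨h1, h2⟩ := hx.2.2 _ (sa_conj (inv_mem hx.1) hp)
      rw [show x * (x⁻¹ * p * x⁻¹⁻¹) * x⁻¹ = p by group] at h1 h2
      exact ⟨h1.symm, fun h => (h2 (h1.symm.trans h)).symm⟩⟩

/-- the translation vector -/
def sad (y : G) : F := f.a (y * c.t * y⁻¹)

theorem sad_mul {y y' : G} (hy : y ∈ f.saY) (hy' : y' ∈ f.saY) :
    f.sad (y * y') = f.sad y + f.sad y' := by
  obtain ⟨ht, h1, -⟩ := f.sa_t
  have h2 := sa_conj hy'.1 ht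
  have h3 := mul_mem (inv_mem ht) h2
  have e : y * y' * c.t * (y * y')⁻¹ =
      (y * c.t * y⁻¹) * (y * (c.t⁻¹ * (y' * c.t * y'⁻¹)) * y⁻¹) := by group
  rw [sad, e, f.a_mul _ (sa_conj hy.1 ht) _ (sa_conj hy.1 h3), (hy.2.2 _ h3).2 (by
    rw [f.e_mul _ (inv_mem ht) _ h2, f.e_inv ht, (hy'.2.2 _ ht).1, k0_add_self]),
    f.a_mul _ (inv_mem ht) _ h2, f.a_inv ht, h1, zero_add]
  rfl

theorem sa_le {p : G} (hp : p ∈ f.P) : p ∈ f.saY ∧ f.sad p = 0 :=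
  ⟨⟨le_normalizer hp, fun o ho => (f.Oc o ho p hp).symm, fun _ hy =>
    ⟨(f.sa_conjP hp hy).1, fun _ => (f.sa_conjP hp hy).2⟩⟩,
    (f.sa_conjP hp f.sa_t.1).2.trans f.sa_t.2.1⟩

theorem sa_ker (hc : f.cc = 0) {y : G} (hy : y ∈ f.saY) (h : f.sad y = 0) :
    ∃ x ∈ f.P, ∃ o ∈ c.O, y = x * o := by
  obtain ⟨ht, h1, h2⟩ := f.sa_t
  have h3 := sa_conj hy.1 ht
  have h4 := (hy.2.2 _ ht).1
  have h5 : f.b (y * c.t * y⁻¹) = 0 := by
    have := f.sq _ h3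
    rw [show y * c.t * y⁻¹ * (y * c.t * y⁻¹) = y * (c.t * c.t) * y⁻¹ by group, c.t2, h4, f.et, hc,
      show f.a (y * c.t * y⁻¹) = 0 from h, eq_comm] at this
    simpa [c.z_eq_one] using this
  obtain ⟨k, hk⟩ := f.eq_mul_z h3 ht h4 (h.trans h1.symm) (h5.trans h2.symm)
  obtain ⟨w, hw, e⟩ := f.conj_W c.tR c.t1 k
  have hy1 : w⁻¹ * y ∈ f.saY := mul_mem (inv_mem (f.sa_le hw.1).1) hy
  have hc1 : w⁻¹ * y * c.t = c.t * (w⁻¹ * y) := by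
    calc w⁻¹ * y * c.t = w⁻¹ * (y * c.t * y⁻¹) * y := by group
      _ = c.t * (w⁻¹ * y) := by rw [hk, ← e]; group
  obtain ⟨x, hx, o, ho, e1⟩ := c.ker_X hc1 fun u => by
    obtain ⟨u1, u2, u3, u4⟩ := f.mU u
    have h6 := sa_conj hy1.1 u1
    obtain ⟨h7, h8⟩ := hy1.2.2 _ u1
    have h9 : c.t * (w⁻¹ * y * c.U u * (w⁻¹ * y)⁻¹) = w⁻¹ * y * c.U u * (w⁻¹ * y)⁻¹ * c.t := by
      have h0 := c.RA _ c.tR _ (c.UA u)
      calc c.t * (w⁻¹ * y * c.U u * (w⁻¹ * y)⁻¹) = c.t * (w⁻¹ * y) * c.U u * (w⁻¹ * y)⁻¹ := by group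
        _ = w⁻¹ * y * (c.t * c.U u) * (w⁻¹ * y)⁻¹ := by rw [← hc1]; group
        _ = w⁻¹ * y * c.U u * (w⁻¹ * y)⁻¹ * (w⁻¹ * y * c.t) * (w⁻¹ * y)⁻¹ := by rw [h0]; group
        _ = _ := by rw [hc1]; group
    rw [f.comm_iff ht h6, h1, h2, f.et] at h9
    refine ⟨(c.U u)⁻¹ * (w⁻¹ * y * c.U u * (w⁻¹ * y)⁻¹), f.mem_V.2 ⟨mul_mem (inv_mem u1) h6, ?_, ?_⟩,
      by group⟩
    · rw [f.a_mul _ (inv_mem u1) _ h6, f.a_inv u1, h8 u2, CharTwo.add_self_eq_zero]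
    · rw [f.b_mul _ (inv_mem u1) _ h6, f.b_inv u1, u4, zero_add]; simpa using h9
  exact ⟨w * x, mul_mem hw.1 (f.mem_X.1 hx).1, o, ho, by rw [mul_assoc, ← e1]; group⟩

theorem sa_actY {g : G} (hg : g * c.t = c.t * g) {w : UM F q} {l : F} {φ : F ≃+* F}
    (h : ∀ u, g * c.U u * g⁻¹ = c.U (w * sl l φ u * w⁻¹)) {y : G} (hy : y ∈ f.saY) :
    g * y * g⁻¹ ∈ f.saY ∧ f.sad (g * y * g⁻¹) = l * φ (f.sad y) := by
  have hN := f.sa_nrmP hg h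
  refine ⟨⟨mul_mem (mul_mem hN hy.1) (inv_mem hN), fun o ho => ?_, fun p hp => ?_⟩, ?_⟩
  · have := hy.2.1 _ (f.sa_nrmO (inv_mem hN) ho)
    calc g * y * g⁻¹ * o = g * (y * (g⁻¹ * o * g⁻¹⁻¹)) * g⁻¹ := by group
      _ = _ := by rw [this]; group
  · have h1 := sa_conj' hN hp
    obtain ⟨-, h2, h3, -⟩ := f.act g hg w l φ h _ h1
    obtain ⟨-, h4, h5, -⟩ := f.act g hg w l φ h _ (sa_conj hy.1 h1)
    obtain ⟨h6, h7⟩ := hy.2.2 _ h1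
    rw [show g * (g⁻¹ * p * g) * g⁻¹ = p by group] at h2 h3
    rw [show g * y * g⁻¹ * p * (g * y * g⁻¹)⁻¹ = g * (y * (g⁻¹ * p * g) * y⁻¹) * g⁻¹ by group]
    exact ⟨by rw [h4, h6, h2], fun e => by rw [h5, h7 (h2.symm.trans e), h3]⟩
  · have e : g * y * g⁻¹ * c.t * (g * y * g⁻¹)⁻¹ = g * (y * c.t * y⁻¹) * g⁻¹ := by
      calc _ = g * y * g⁻¹ * (c.t * g) * y⁻¹ * g⁻¹ := by group
        _ = _ := by rw [← hg]; group
    rw [sad, e]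
    exact (f.act g hg w l φ h _ (sa_conj hy.1 f.sa_t.1)).2.2.1

theorem sa_scY {h : G} {l : F} (hh : c.Sc h l) {y : G} (hy : y ∈ f.saY) :
    h * y * h⁻¹ ∈ f.saY ∧ f.sad (h * y * h⁻¹) = l * f.sad y :=
  f.sa_actY (w := 1) (φ := RingEquiv.refl F) (c.Ht hh.1) (fun u => by simpa using hh.2 u) hy

theorem sa_h1W {h : G} {η : F} (hh : c.Sc h η) (hη : nm q η = 1) {w : G} (hw : w ∈ f.W) :
    h * w = w * h := by
  have hz : ∀ k, h * c.z k * h⁻¹ = c.z k := fun k => by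
    rw [Ctx0.z, hh.2, sl_zz, hη, one_mul, kf_refl]
  obtain ⟨h1, h2, h3, h4⟩ := f.sa_act hh hw.1
  obtain ⟨k, hk⟩ := f.eq_mul_z h1 hw.1 h2 (by rw [h3, hw.2.2, mul_zero]) (by rw [h4, hη, one_mul])
  refine sa_odd hh.1 ?_
  calc h * h * w = h * (h * w * h⁻¹) * h⁻¹ * (h * h) := by group
    _ = (h * w * h⁻¹) * (h * c.z k * h⁻¹) * (h * h) := by rw [hk]; nth_rewrite 2 [← hk]; group
    _ = w * (h * h) := by rw [hz, hk, mul_assoc w, c.z_sq, mul_one]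

variable (hW : ∀ g ∈ normalizer (f.P : Set G), g ∈ normalizer (f.W : Set G))
include hW

theorem sa_nrm0 {g p : G} (hg : g ∈ normalizer (f.P : Set G)) (hp : p ∈ f.P) (h : f.e p = 0) :
    f.e (g * p * g⁻¹) = 0 :=
  (f.sa_e0 (sa_conj hg hp)).2 fun w hw => by
    have := (f.sa_e0 hp).1 h _ (sa_conj' (hW g hg) hw)
    calc g * p * g⁻¹ * w = g * (p * (g⁻¹ * w * g)) * g⁻¹ := by group
      _ = _ := by rw [this]; group

theorem sa_semi (hc : f.cc = 0) {g : G} (hg : g ∈ normalizer (f.P : Set G)) :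
    ∃ (l : F) (φ : F ≃+* F), ∀ p ∈ f.P, f.e p = 0 → f.a (g * p * g⁻¹) = l * φ (f.a p) := by
  choose ux hux using exists_um (F := F) (q := q)
  choose γ hγ using f.nrm_Z hg
  have key : ∀ p ∈ f.P, f.e p = 0 → f.a (g * p * g⁻¹) = f.a (g * c.U (ux (f.a p)) * g⁻¹) :=
    fun p hp h => by
      obtain ⟨u1, u2, u3, -⟩ := f.mU (ux (f.a p))
      have hw : (c.U (ux (f.a p)))⁻¹ * p ∈ f.W := ⟨mul_mem (inv_mem u1) hp,
        by rw [f.e_mul _ (inv_mem u1) _ hp, f.e_inv u1, u2, h, add_zero],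
        by rw [f.a_mul _ (inv_mem u1) _ hp, f.a_inv u1, u3, hux, CharTwo.add_self_eq_zero]⟩
      have h1 := sa_conj (hW g hg) hw
      rw [show g * p * g⁻¹ = (g * c.U (ux (f.a p)) * g⁻¹) * (g * ((c.U (ux (f.a p)))⁻¹ * p) * g⁻¹)
        by group, f.a_mul _ (sa_conj hg u1) _ h1.1, h1.2.2, add_zero]
  have hsq : ∀ x, nm q (f.a (g * c.U (ux x) * g⁻¹)) = γ (nm q x) := fun x => by
    obtain ⟨u1, u2, -, -⟩ := f.mU (ux x)
    have := f.sq _ (sa_conj hg u1)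
    rw [f.sa_nrm0 hW hg u1 u2, hc, add_zero, zero_mul, add_zero,
      show g * c.U (ux x) * g⁻¹ * (g * c.U (ux x) * g⁻¹) = g * (c.U (ux x) * c.U (ux x)) * g⁻¹ by
        group, ← map_mul, um_sq, hux] at this
    exact c.z_inj.1 (this.symm.trans (hγ _))
  obtain ⟨l, φ, -, h1, -⟩ := semi (fun x => f.a (g * c.U (ux x) * g⁻¹)) γ (fun x y => by
      obtain ⟨u1, u2, u3, -⟩ := f.mU (ux x)
      obtain ⟨v1, v2, v3, -⟩ := f.mU (ux y)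
      have := key _ (mul_mem u1 v1) (by rw [f.e_mul _ u1 _ v1, u2, v2, add_zero])
      rw [f.a_mul _ u1 _ v1, u3, v3, hux, hux] at this
      rw [← this, ← f.a_mul _ (sa_conj hg u1) _ (sa_conj hg v1)]
      congr 1; group)
    (fun x y => c.z_inj.1 (by rw [← hγ, c.z_add, c.z_add, ← hγ, ← hγ]; group)) hsq (fun e => by
      have h1 := hsq 1
      have h2 := hγ 1
      rw [e, nm_zero, nm_one] at h1
      rw [← h1, c.z_zero, mul_inv_eq_one, mul_eq_left, c.z_eq_one] at h2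
      exact one_ne_zero h2)
  exact ⟨l, φ, fun p hp h => (key p hp h).trans (h1 _)⟩

theorem sa_exists (hc : f.cc = 0) {s : G} (hs : s ∈ f.P) (h : c.Tc s) (ha : f.a s ≠ 0) :
    ∃ y ∈ f.saY, f.sad y ≠ 0 := by
  obtain ⟨g, hg, r, hr, -, rfl⟩ := f.exists_nrm hs h
  obtain ⟨l, φ, hl⟩ := f.sa_semi hW hc hg
  obtain ⟨h, η, hh, -, hη⟩ := c.exists_h1
  obtain ⟨i, hi⟩ := aut_pow φ
  have hj := sa_sc_pow hh (2 ^ i)
  rw [← hi] at hj
  have hN : ∀ {h l}, c.Sc h l → h ∈ normalizer (f.P : Set G) := fun hh =>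
    f.sa_nrmP (w := 1) (φ := RingEquiv.refl F) (c.Ht hh.1) fun u => by simpa using hh.2 u
  have hk : ∀ p ∈ f.P, f.e (g * h * g⁻¹ * p * (g * h * g⁻¹)⁻¹) = f.e p ∧
      (f.e p = 0 → f.a (g * h * g⁻¹ * p * (g * h * g⁻¹)⁻¹) = φ η * f.a p) := fun p hp => by
    have h1 := sa_conj' hg hp
    obtain ⟨h2, h3, h4, -⟩ := f.sa_act hh h1
    constructor
    · have h5 := mul_mem (inv_mem h1) h2
      rw [show g * h * g⁻¹ * p * (g * h * g⁻¹)⁻¹ =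
        p * (g * ((g⁻¹ * p * g)⁻¹ * (h * (g⁻¹ * p * g) * h⁻¹)) * g⁻¹) by group,
        f.e_mul _ hp _ (sa_conj hg h5), f.sa_nrm0 hW hg h5 (by
          rw [f.e_mul _ (inv_mem h1) _ h2, f.e_inv h1, h3, k0_add_self]), add_zero]
    · intro e
      have h5 : f.e (g⁻¹ * p * g) = 0 := by simpa using f.sa_nrm0 hW (inv_mem hg) hp e
      have h6 := hl _ h1 h5
      rw [show g * (g⁻¹ * p * g) * g⁻¹ = p by group] at h6
      rw [show g * h * g⁻¹ * p * (g * h * g⁻¹)⁻¹ = g * (h * (g⁻¹ * p * g) * h⁻¹) * g⁻¹ by group,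
        hl _ h2 (h3.trans h5), h4, h6, map_mul]
      ring
  have hy : g * h * g⁻¹ * (h ^ 2 ^ i)⁻¹ ∈ f.saY := by
    refine ⟨mul_mem (mul_mem (mul_mem hg (hN hh)) (inv_mem hg)) (inv_mem (hN hj)),
      fun o ho => ?_, fun p hp => ?_⟩
    · have h1 := c.OA _ (f.sa_nrmO (inv_mem hg) ho) _ (c.HA hh.1)
      have h2 : Commute (g * h * g⁻¹) o := by
        calc g * h * g⁻¹ * o = g * (h * (g⁻¹ * o * g⁻¹⁻¹)) * g⁻¹ := by group
          _ = _ := by rw [← h1]; group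
      exact h2.mul_left (Commute.inv_left (c.OA o ho _ (c.HA hj.1)).symm)
    · have h1 := sa_conj' (hN hj) hp
      obtain ⟨-, h2, h3, -⟩ := f.sa_act hj h1
      rw [show h ^ 2 ^ i * ((h ^ 2 ^ i)⁻¹ * p * h ^ 2 ^ i) * (h ^ 2 ^ i)⁻¹ = p by group] at h2 h3
      rw [show g * h * g⁻¹ * (h ^ 2 ^ i)⁻¹ * p * (g * h * g⁻¹ * (h ^ 2 ^ i)⁻¹)⁻¹ =
        g * h * g⁻¹ * ((h ^ 2 ^ i)⁻¹ * p * h ^ 2 ^ i) * (g * h * g⁻¹)⁻¹ by group]
      exact ⟨(hk _ h1).1.trans h2.symm, fun e => ((hk _ h1).2 (h2.symm.trans e)).trans h3.symm⟩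
  refine ⟨_, hy, fun e => ?_⟩
  obtain ⟨x, hx, o, ho, e1⟩ := f.sa_ker hc hy e
  obtain ⟨r', hr', e2⟩ := f.eP _ hs
  obtain ⟨r1, r2, -⟩ := f.mR r' hr'
  have h1 : f.a (g * h * g⁻¹ * r' * (g * h * g⁻¹)⁻¹) = 0 := by
    have h2 := c.RA r' hr' _ (c.HA hj.1)
    have h3 := f.Oc o ho r' r1
    have : g * h * g⁻¹ * r' * (g * h * g⁻¹)⁻¹ = x * r' * x⁻¹ := by
      calc _ = g * h * g⁻¹ * (h ^ 2 ^ i)⁻¹ * (h ^ 2 ^ i * r') * (g * h * g⁻¹)⁻¹ := by group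
        _ = g * h * g⁻¹ * (h ^ 2 ^ i)⁻¹ * r' * (g * h * g⁻¹ * (h ^ 2 ^ i)⁻¹)⁻¹ := by
          rw [← h2]; group
        _ = x * (o * r') * o⁻¹ * x⁻¹ := by rw [e1]; group
        _ = _ := by rw [h3]; group
    rw [this, (f.sa_conjP hx r1).2, r2]
  have h2 := mul_mem (inv_mem r1) hs
  have h3 := (hk _ h2).2 (by rw [f.e_mul _ (inv_mem r1) _ hs, f.e_inv r1, e2, k0_add_self])
  have hgN := mul_mem (mul_mem hg (hN hh)) (inv_mem hg)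
  have h4 : g * r * g⁻¹ = (g * h * g⁻¹ * r' * (g * h * g⁻¹)⁻¹) *
      (g * h * g⁻¹ * (r'⁻¹ * (g * r * g⁻¹)) * (g * h * g⁻¹)⁻¹) := by
    calc g * r * g⁻¹ = g * (r * h) * h⁻¹ * g⁻¹ := by group
      _ = _ := by rw [c.RA r hr h (c.HA hh.1)]; group
  have h5 := f.a_mul _ (sa_conj hgN r1) _ (sa_conj hgN h2)
  rw [← h4, h1, h3, f.a_mul _ (inv_mem r1) _ hs, f.a_inv r1, r2, zero_add, zero_add] at h5
  exact hη (φ.injective (((mul_eq_right₀ ha).1 h5.symm).trans (map_one φ).symm))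

end Fr1

theorem Fr1.st2a {c : Ctx G F q} (f : Fr1 c) (hc : f.cc = 0)
    (hW : ∀ g ∈ normalizer (f.P : Set G), g ∈ normalizer (f.W : Set G)) {s : G} (hs : s ∈ f.P)
    (h : c.Tc s) (ha : f.a s ≠ 0) : Nonempty (Raw2 f) := by
  obtain ⟨y0, hy0, hd0⟩ := f.sa_exists hW hc hs h ha
  obtain ⟨h, η, hh, hη, hη1⟩ := c.exists_h1
  obtain ⟨P2, hP2, hpg, hsurj, hker⟩ := gen2 (M := F) CharTwo.add_self_eq_zero
    (fun p hp => (f.sa_le hp).1) f.pg (fun y hy x hx => sa_conj hy.1 hx) c.Oodd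
    (fun y hy => hy.2.1) f.sad (fun y hy y' hy' => f.sad_mul hy hy') (fun x hx => (f.sa_le hx).2)
    fun y hy => f.sa_ker hc hy
  let S : AddSubgroup F :=
    { carrier := {x | ∃ y ∈ f.saY, f.sad y = x}
      zero_mem' := ⟨1, one_mem _, (f.sa_le (one_mem _)).2⟩
      add_mem' := fun ⟨y, hy, e⟩ ⟨y', hy', e'⟩ => ⟨_, mul_mem hy hy', by rw [f.sad_mul hy hy', e, e']⟩
      neg_mem' := fun hx => by rwa [CharTwo.neg_eq] }
  have hS : S = ⊤ := irr S (fun k x ⟨y, hy, e⟩ => by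
      by_cases hk : k = 0
      · rw [hk, ZeroMemClass.coe_zero, zero_mul]; exact zero_mem _
      · obtain ⟨h0, -, h1⟩ := c.exists_h0 k hk
        exact ⟨_, (f.sa_scY h1 hy).1, e ▸ (f.sa_scY h1 hy).2⟩) hη hη1
    (fun x ⟨y, hy, e⟩ => ⟨_, (f.sa_scY hh hy).1, e ▸ (f.sa_scY hh hy).2⟩) ⟨y0, hy0, rfl⟩ hd0
  have hcj : ∀ {g y}, g ∈ normalizer (f.P : Set G) → y ∈ P2 → g * y * g⁻¹ ∈ f.saY →
      g * y * g⁻¹ ∈ P2 := fun {g y} hg hy h1 => (hP2 _).2 ⟨h1, by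
    rw [show g * y * g⁻¹ * (g * y * g⁻¹) = g * (y * y) * g⁻¹ by group]
    exact sa_conj hg ((hP2 y).1 hy).2⟩
  refine ⟨⟨P2 ⊓ centralizer f.W, f.sad, hpg.to_inf_left,
    fun y hy y' hy' => f.sad_mul ((hP2 y).1 hy.1).1 ((hP2 y').1 hy'.1).1, fun x => ?_,
    fun y => ⟨fun ⟨hy, e⟩ => ⟨hker y hy.1 e, (f.sa_e0 (hker y hy.1 e)).2 fun w hw =>
      (hy.2 w hw).symm⟩, fun ⟨hy, e⟩ => ⟨⟨(hP2 y).2 ⟨(f.sa_le hy).1, mul_mem hy hy⟩, fun w hw =>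
      ((f.sa_e0 hy).1 e w hw).symm⟩, (f.sa_le hy).2⟩⟩,
    fun y hy w hw => (hy.2 w hw).symm,
    fun y hy p hp => ⟨sa_conj ((hP2 y).1 hy.1).1.1 hp, ((hP2 y).1 hy.1).1.2.2 p hp⟩,
    fun _ _ => rfl, fun g hg w l φ h1 y hy => ?_⟩⟩
  · have h1 : η + 1 ≠ 0 := fun e => hη1 (CharTwo.add_eq_zero.1 e)
    obtain ⟨y, hy, e⟩ : x / (η + 1) ∈ S := hS ▸ AddSubgroup.mem_top _
    obtain ⟨p, hp, e'⟩ := hsurj y hy
    have hpY := ((hP2 p).1 hp).1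
    obtain ⟨h2, h3⟩ := f.sa_scY hh hpY
    have hN := f.sa_nrmP (w := 1) (φ := RingEquiv.refl F) (c.Ht hh.1) fun u => by
      simpa using hh.2 u
    refine ⟨h * p * h⁻¹ * p⁻¹, ⟨P2.mul_mem (hcj hN hp h2) (P2.inv_mem hp), fun w hw => ?_⟩, ?_⟩
    · have h4 := f.sa_h1W hh hη (sa_conj' (hW p hpY.1) hw)
      have h5 := f.sa_h1W hh hη hw
      calc w * (h * p * h⁻¹ * p⁻¹) = (w * h) * p * h⁻¹ * p⁻¹ := by group
        _ = h * p * h⁻¹ * (h * (p⁻¹ * w * p)) * h⁻¹ * p⁻¹ := by rw [← h5]; group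
        _ = _ := by rw [h4]; group
    · have h4 := f.sad_mul hpY (inv_mem hpY)
      rw [mul_inv_cancel, (f.sa_le (one_mem _)).2, eq_comm, CharTwo.add_eq_zero] at h4
      rw [f.sad_mul h2 (inv_mem hpY), h3, ← h4, e', e]
      field_simp
  · obtain ⟨h2, h3⟩ := f.sa_actY hg h1 ((hP2 y).1 hy.1).1
    have hN := f.sa_nrmP hg h1
    refine ⟨⟨hcj hN hy.1 h2, fun w hw => ?_⟩, h3⟩
    have h4 := hy.2 _ (sa_conj' (hW g hN) hw)
    calc w * (g * y * g⁻¹) = g * (g⁻¹ * w * g * y) * g⁻¹ := by group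
      _ = _ := by rw [h4]; group

end Cfsg.Agent.GMS
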