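import Cfsg.Agent.GMS.Calc
import Cfsg.Agent.GMS.FldC
import Cfsg.Agent.H50.Maschke
import Cfsg.Agent.H49.Quot

/-! Project GMS: coordinates on `Y`, the hermitian pencil. -/

set_option autoImplicit false
set_option linter.unusedSectionVars false

namespace Cfsg.Agent.GMS

section
open Subgroup H49

variable {G : Type*} [Group G] [Finite G]

theorem sb_maschke {Y P P' H : Subgroup G} (h1 : Y ≤ P) (h2 : P ≤ P') (hn : P' ≤ 𝒩(Y))
    (hsq : ∀ x ∈ P', x * x ∈ Y) (ho : Odd (Nat.card H)) (hY : H ≤ 𝒩(Y)) (hP : H ≤ 𝒩(P))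
    (hP' : H ≤ 𝒩(P')) : ∃ Y' : Subgroup G, Y' ≤ P' ∧ H ≤ 𝒩(Y') ∧ P ⊓ Y' ≤ Y ∧
      ∀ x ∈ P', ∃ p ∈ P, ∃ v ∈ Y', x = p * v := by
  have e2 : ∀ a ∈ quo P' Y, a * a = 1 := by
    rintro _ ⟨x, hx, rfl⟩
    rw [← map_mul, coset_eq_one_iff]
    exact hsq _ hx
  have hi : ∀ a ∈ quo P' Y, a⁻¹ = a := fun a ha => inv_eq_of_mul_eq_one_right (e2 a ha)
  have hV : IsElementaryAbelian 2 (quo P' Y) :=
    ⟨abelian_iff.2 (le_cent_iff.2 fun a ha x hx => by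
      rw [← hi _ (mul_mem hx ha), mul_inv_rev, hi a ha, hi x hx]),
      fun a ha => by rw [sq, e2 a ha]⟩
  obtain ⟨W, w1, w2, w3, w4⟩ := H50.maschke hV (quo_norm Y hP')
    (Nat.Coprime.coprime_dvd_left (card_quo_dvd _ _) ho.coprime_two_right) (quo_mono Y h2)
    (quo_norm Y hP)
  have hPY := h2.trans hn
  have hle : quoPre Y W ≤ P' := (quoPre_le_iff (h1.trans h2) hn).2 w1
  refine ⟨quoPre Y W, hle, norm_quoPre hY w2, ?_, fun x hx => ?_⟩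
  · rw [← quoPre_quo_of_le h1 hPY, ← quoPre_inf, w3, quoPre_bot]
  · have e : P ⊔ quoPre Y W = P' := by
      rw [← quoPre_quo_of_le (h1.trans h2) hn, ← w4, quoPre_sup, quoPre_quo_of_le h1 hPY]
    refine (mem_sup_of_norm_left (norm_of_quo_norm (hle.trans hn) h1 hPY
      (norm_of_cent (le_cent_of_abelian hV.1 (quo_mono Y hle) (quo_mono Y h2))))).1 (e ▸ hx)

/-- equivariant extension of an additive map -/
theorem sb_ext {M : Type*} [AddCommGroup M] {Y P P' H : Subgroup G} (h1 : Y ≤ P) (h2 : P ≤ P')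
    (hn : ∀ x ∈ P', ∀ y ∈ Y, x * y * x⁻¹ ∈ Y) (hsq : ∀ x ∈ P', x * x ∈ Y) (ho : Odd (Nat.card H))
    (hY : ∀ x ∈ H, ∀ y ∈ Y, x * y * x⁻¹ ∈ Y) (hP : ∀ x ∈ H, ∀ y ∈ P, x * y * x⁻¹ ∈ P)
    (hP' : ∀ x ∈ H, ∀ y ∈ P', x * y * x⁻¹ ∈ P') (a : G → M)
    (ha : ∀ p ∈ P, ∀ p' ∈ P, a (p * p') = a p + a p') (h0 : ∀ y ∈ Y, a y = 0)
    (hc : ∀ x ∈ P', ∀ p ∈ P, x * p * x⁻¹ ∈ P ∧ a (x * p * x⁻¹) = a p) :
    ∃ a' : G → M, (∀ p ∈ P', ∀ p' ∈ P', a' (p * p') = a' p + a' p') ∧ (∀ p ∈ P, a' p = a p) ∧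
      ∀ h ∈ H, ∀ μ : M → M, (∀ p ∈ P, a (h * p * h⁻¹) = μ (a p)) →
        ∀ y ∈ P', a' (h * y * h⁻¹) = μ (a' y) := by
  classical
  obtain ⟨C, c1, c2, c3, c4⟩ := sb_maschke h1 h2 (le_norm_iff.2 hn) hsq ho (le_norm_iff.2 hY)
    (le_norm_iff.2 hP) (le_norm_iff.2 hP')
  choose! π hπ ν hν e using c4
  have key : ∀ p ∈ P, ∀ v ∈ C, a (π (p * v)) = a p := fun p hp v hv => by
    have hx := mul_mem (h2 hp) (c1 hv)
    have e1 : (π (p * v))⁻¹ * p = ν (p * v) * v⁻¹ := by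
      rw [inv_mul_eq_iff_eq_mul, ← mul_assoc, ← e _ hx, mul_inv_cancel_right]
    have h3 := mul_mem (inv_mem (hπ _ hx)) hp
    have h4 := ha _ (hπ _ hx) _ h3
    rw [mul_inv_cancel_left, h0 _ (c3 (Subgroup.mem_inf.2 ⟨h3, e1 ▸ C.mul_mem (hν _ hx) (C.inv_mem hv)⟩)), add_zero] at h4
    exact h4.symm
  refine ⟨fun y => a (π y), fun x hx y hy => ?_, fun p hp => by simpa using key p hp 1 (one_mem _),
    fun h hh μ hμ y hy => ?_⟩
  · obtain ⟨h3, h4⟩ := hc _ (c1 (hν x hx)) _ (hπ y hy)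
    have e1 : x * y = π x * (ν x * π y * (ν x)⁻¹) * (ν x * ν y) := by
      conv_lhs => rw [e x hx, e y hy]
      group
    show a (π (x * y)) = _
    rw [e1, key _ (mul_mem (hπ x hx) h3) _ (mul_mem (hν x hx) (hν y hy)), ha _ (hπ x hx) _ h3, h4]
  · have e1 : h * y * h⁻¹ = h * π y * h⁻¹ * (h * ν y * h⁻¹) := by
      conv_lhs => rw [e y hy]
      group
    show a (π (h * y * h⁻¹)) = _
    rw [e1, key _ (hP h hh _ (hπ y hy)) _ (conj_mem_of_norm c2 hh (hν y hy)), hμ _ (hπ y hy)]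

end

open Subgroup H10 H91
open H42 hiding SylIn

variable {G : Type*} [Group G] [Finite G] {F : Type*} [Field F] [Fintype F] [CharP F 2] {q : ℕ}
  [hF : Fact (Fintype.card F = q ^ 2)] {c : Ctx G F q} {f : Fr1 c}

theorem sb_act {h : G} {l : F} (hh : c.Sc h l) {p : G} (hp : p ∈ f.P) :
    h * p * h⁻¹ ∈ f.P ∧ f.e (h * p * h⁻¹) = f.e p ∧ f.a (h * p * h⁻¹) = l * f.a p ∧
      f.b (h * p * h⁻¹) = nm q l * f.b p :=
  f.act h (c.Ht hh.1) 1 l (RingEquiv.refl F) (fun u => by simpa using hh.2 u) p hp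

theorem sb_actW {h : G} {l : F} (hh : c.Sc h l) {w : G} (hw : w ∈ f.W) : h * w * h⁻¹ ∈ f.W :=
  ⟨(sb_act hh hw.1).1, (sb_act hh hw.1).2.1.trans hw.2.1,
    by rw [(sb_act hh hw.1).2.2.1, hw.2.2, mul_zero]⟩

theorem sb_sc {h : G} (hh : h ∈ c.H) : ∃ l, c.Sc h l := (c.Hact h hh).imp fun _ h1 => ⟨hh, h1.2⟩

theorem sb_zW (m : K0 F q) : c.z m ∈ f.W := ⟨(f.mZ m).1, (f.mZ m).2.1, (f.mZ m).2.2.1⟩

theorem sb_Wsq (hc : f.cc = 0) {w : G} (hw : w ∈ f.W) : w * w = 1 := by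
  rw [f.sq w hw.1, hw.2.1, hw.2.2, hc]; simp

theorem sb_rw {x w : G} (hx : x ∈ c.R) (hw : w ∈ f.W) : x * w * x⁻¹ = w * c.z (f.e x * f.b w) := by
  obtain ⟨h1, h2, h3⟩ := f.mR x hx
  rw [f.comm x h1 w hw.1, h2, h3, mul_assoc _ _ x⁻¹, f.z_comm _ (inv_mem h1)]
  simp [mul_assoc]

namespace Raw2

variable (r : Raw2 f)

theorem sb_P0 {y : G} (hy : y ∈ r.Y) (h : r.d y = 0) : y ∈ f.P ∧ f.e y = 0 := (r.ker y).1 ⟨hy, h⟩

theorem sb_W {w : G} (hw : w ∈ f.W) : w ∈ r.Y ∧ r.d w = 0 := (r.ker w).2 ⟨hw.1, hw.2.1⟩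

theorem sb_U (u : UM F q) : c.U u ∈ r.Y ∧ r.d (c.U u) = 0 := (r.ker _).2 ⟨(f.mU u).1, (f.mU u).2.1⟩

theorem sb_inv {y : G} (hy : y ∈ r.Y) : r.d y⁻¹ = r.d y := by
  have := r.d_mul _ hy _ (inv_mem hy)
  rw [mul_inv_cancel, (r.sb_W (one_mem _)).2, eq_comm, CharTwo.add_eq_zero] at this
  exact this.symm

theorem sb_scY {h : G} {l : F} (hh : c.Sc h l) {y : G} (hy : y ∈ r.Y) :
    h * y * h⁻¹ ∈ r.Y ∧ r.d (h * y * h⁻¹) = l * r.d y :=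
  r.act h (c.Ht hh.1) 1 l (RingEquiv.refl F) (fun u => by simpa using hh.2 u) y hy

theorem sb_R {x y : G} (hx : x ∈ c.R) (hy : y ∈ r.Y) :
    x * y * x⁻¹ ∈ r.Y ∧ r.d (x * y * x⁻¹) = r.d y := by
  simpa using r.act x (c.Rc x hx _ c.tR) 1 1 (RingEquiv.refl F)
    (fun u => by rw [c.RA x hx _ (c.UA u)]; simp) y hy

theorem sb_c0 {y y' : G} (hy : y ∈ r.Y) (hy' : y' ∈ r.Y) :
    y * y' * y⁻¹ * y'⁻¹ ∈ f.P ∧ f.e (y * y' * y⁻¹ * y'⁻¹) = 0 :=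
  r.sb_P0 (mul_mem (mul_mem (mul_mem hy hy') (inv_mem hy)) (inv_mem hy')) (by
    rw [r.d_mul _ (mul_mem (mul_mem hy hy') (inv_mem hy)) _ (inv_mem hy'),
      r.d_mul _ (mul_mem hy hy') _ (inv_mem hy), r.d_mul _ hy _ hy', r.sb_inv hy, r.sb_inv hy',
      add_right_comm (r.d y), CharTwo.add_self_eq_zero, zero_add, CharTwo.add_self_eq_zero])

theorem sb_comm {y y' : G} (hy : y ∈ r.Y) (hy' : y' ∈ r.Y) : y * y' * y⁻¹ * y'⁻¹ ∈ f.W := by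
  let A : G → G → F := fun y y' => f.a (y * y' * y⁻¹ * y'⁻¹)
  have a1 : ∀ x ∈ r.Y, ∀ x' ∈ r.Y, ∀ y ∈ r.Y, A (x * x') y = A x y + A x' y :=
    fun x hx x' hx' y hy => by
      obtain ⟨h1, h2⟩ := r.sb_c0 hx' hy
      obtain ⟨h3, -, h4⟩ := r.triv x hx _ h1
      show f.a _ = f.a _ + f.a _
      rw [show x * x' * y * (x * x')⁻¹ * y⁻¹ = x * (x' * y * x'⁻¹ * y⁻¹) * x⁻¹ * (x * y * x⁻¹ * y⁻¹)
        by group, f.a_mul _ h3 _ (r.sb_c0 hx hy).1, h4 h2, add_comm]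
  have a2 : ∀ x ∈ r.Y, ∀ y ∈ r.Y, A x y = A y x := fun x hx y hy => by
    show f.a _ = f.a _
    rw [← f.a_inv (r.sb_c0 hx hy).1]; congr 1; group
  have a3 : ∀ x ∈ r.Y, ∀ x' ∈ r.Y, r.d x = r.d x' → ∀ y ∈ r.Y, A x y = A x' y :=
    fun x hx x' hx' e y hy => by
      have h1 := mul_mem (inv_mem hx) hx'
      obtain ⟨h2, h3⟩ := r.sb_P0 h1 (by
        rw [r.d_mul _ (inv_mem hx) _ hx', r.sb_inv hx, e, CharTwo.add_self_eq_zero])
      obtain ⟨h4, -, h5⟩ := r.triv y hy _ (inv_mem h2)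
      have h6 : A (x⁻¹ * x') y = 0 := by
        show f.a _ = 0
        rw [show x⁻¹ * x' * y * (x⁻¹ * x')⁻¹ * y⁻¹ = x⁻¹ * x' * (y * (x⁻¹ * x')⁻¹ * y⁻¹) by group,
          f.a_mul _ h2 _ h4, h5 ((f.e_inv h2).trans h3), f.a_inv h2, CharTwo.add_self_eq_zero]
      have := a1 x hx _ h1 y hy
      rw [mul_inv_cancel_left, h6, add_zero] at this
      exact this.symm
  choose yx hY hd using r.surj
  have a4 : ∀ x ∈ r.Y, ∀ y ∈ r.Y, A (yx (r.d x)) (yx (r.d y)) = A x y := fun x hx y hy => by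
    rw [a3 _ (hY _) x hx (hd _) _ (hY _), a2 x hx _ (hY _), a3 _ (hY _) y hy (hd _) x hx, a2 y hy x hx]
  have a5 : ∀ x x' y, A (yx (x + x')) (yx y) = A (yx x) (yx y) + A (yx x') (yx y) :=
    fun x x' y => by
      rw [← a1 _ (hY _) _ (hY _) _ (hY _)]
      exact a3 _ (hY _) _ (mul_mem (hY _) (hY _)) (by rw [r.d_mul _ (hY _) _ (hY _), hd, hd, hd]) _
        (hY _)
  have a6 : ∀ x, A (yx x) (yx x) = 0 := fun x => by
    show f.a _ = 0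
    rw [mul_inv_cancel_right, mul_inv_cancel, f.a_one]
  have a7 : ∀ {h l}, c.Sc h l → ∀ x y, A (yx (l * x)) (yx (l * y)) = l * A (yx x) (yx y) :=
    fun {h l} hh x y => by
      have := a4 _ (r.sb_scY hh (hY x)).1 _ (r.sb_scY hh (hY y)).1
      rw [(r.sb_scY hh (hY x)).2, (r.sb_scY hh (hY y)).2, hd, hd] at this
      rw [this, ← (sb_act hh (r.sb_c0 (hY x) (hY y)).1).2.2.1]
      show f.a _ = f.a _
      congr 1; group
  obtain ⟨h, η, hh, hη, hη1⟩ := c.exists_h1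
  have := bil0 c.q4 (fun x y => A (yx x) (yx y)) a5 (fun x y y' => by
      show A _ _ = A _ _ + A _ _
      rw [a2 _ (hY _) _ (hY _), a5, a2 _ (hY y) _ (hY _), a2 _ (hY y') _ (hY _)]) a6
    (fun k x y => by
      by_cases hk : k = 0
      · simp [hk, a6]
      · obtain ⟨h0, -, h1⟩ := c.exists_h0 k hk
        exact a7 h1 x y) hη hη1 (a7 hh) (r.d y) (r.d y')
  exact ⟨(r.sb_c0 hy hy').1, (r.sb_c0 hy hy').2, (a4 y hy y' hy').symm.trans this⟩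

theorem sb_sq (hc : f.cc = 0) {y : G} (hy : y ∈ r.Y) : y * y ∈ f.W := by
  obtain ⟨h1, h2⟩ := r.sb_P0 (mul_mem hy hy) (by rw [r.d_mul _ hy _ hy, CharTwo.add_self_eq_zero])
  refine ⟨h1, h2, by_contra fun h0 => ?_⟩
  obtain ⟨x, hx⟩ := cm_surj (q := q) h0 1
  obtain ⟨u, rfl⟩ := exists_um (q := q) x
  obtain ⟨u1, u2, u3, -⟩ := f.mU u
  have hw := r.sb_comm hy (r.sb_U u).1
  have h3 := r.cen y hy _ hw
  have h4 : y * y * c.U u = c.U u * (y * y) := by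
    calc y * y * c.U u = y * (y * c.U u * y⁻¹ * (c.U u)⁻¹) * c.U u * y := by group
      _ = (y * c.U u * y⁻¹ * (c.U u)⁻¹) * (y * c.U u * y⁻¹ * (c.U u)⁻¹) * (c.U u * (y * y)) := by
        rw [h3]; group
      _ = _ := by rw [sb_Wsq hc hw, one_mul]
  rw [f.comm_iff h1 u1, h2, u2, u3, hx] at h4
  simp at h4

theorem sb_exists_a (hc : f.cc = 0) : ∃ a : G → F,
    (∀ y ∈ r.Y, ∀ y' ∈ r.Y, a (y * y') = a y + a y') ∧ (∀ p ∈ r.Y, r.d p = 0 → a p = f.a p) ∧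
      ∀ h l, c.Sc h l → ∀ y ∈ r.Y, a (h * y * h⁻¹) = l * a y := by
  let P0 : Subgroup G :=
    { carrier := {y | y ∈ r.Y ∧ r.d y = 0}
      one_mem' := r.sb_W (one_mem _)
      mul_mem' := fun hx hy => ⟨mul_mem hx.1 hy.1, by rw [r.d_mul _ hx.1 _ hy.1, hx.2, hy.2, add_zero]⟩
      inv_mem' := fun hx => ⟨inv_mem hx.1, (r.sb_inv hx.1).trans hx.2⟩ }
  obtain ⟨a, h1, h2, h3⟩ := sb_ext (Y := f.W) (P := P0) (P' := r.Y) (fun w hw => r.sb_W hw)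
    (fun _ h => h.1) (fun x hx w hw => by rw [r.cen x hx w hw, mul_inv_cancel_right]; exact hw)
    (fun x hx => r.sb_sq hc hx) c.Hodd (fun h hh w hw => (sb_sc hh).elim fun _ h1 => sb_actW h1 hw)
    (fun h hh y hy => (sb_sc hh).elim fun _ h1 =>
      ⟨(r.sb_scY h1 hy.1).1, by rw [(r.sb_scY h1 hy.1).2, hy.2, mul_zero]⟩)
    (fun h hh y hy => (sb_sc hh).elim fun _ h1 => (r.sb_scY h1 hy).1) f.a
    (fun p hp p' hp' => f.a_mul _ (r.sb_P0 hp.1 hp.2).1 _ (r.sb_P0 hp'.1 hp'.2).1)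
    (fun w hw => hw.2.2) fun x hx p hp => by
      obtain ⟨h1, h2⟩ := r.sb_P0 hp.1 hp.2
      obtain ⟨h3, h4, h5⟩ := r.triv x hx p h1
      exact ⟨(r.ker _).2 ⟨h3, h4.trans h2⟩, h5 h2⟩
  exact ⟨a, h1, fun p hp h => h2 p ⟨hp, h⟩, fun h l hh => h3 h hh.1 (l * ·) fun p hp =>
    (sb_act hh (r.sb_P0 hp.1 hp.2).1).2.2.1⟩

include r in
theorem sb_exists_k (hc : f.cc = 0) : ∃ k : G → K0 F q,
    (∀ y ∈ f.W, ∀ y' ∈ f.W, k (y * y') = k y + k y') ∧ (∀ m, k (c.z m) = m) ∧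
      ∀ h l, c.Sc h l → ∀ y ∈ f.W, k (h * y * h⁻¹) = nm q l * k y := by
  choose! k0 hk0 using fun y (hy : y ∈ c.Z) => c.mem_Z.1 hy
  have hz : ∀ m, k0 (c.z m) = m := fun m => c.z_inj.1 (hk0 _ (c.mem_Z.2 ⟨m, rfl⟩)).symm
  have hh : ∀ {h l}, c.Sc h l → ∀ m, h * c.z m * h⁻¹ = c.z (nm q l * m) := fun hh m => by
    rw [Ctx0.z, hh.2, sl_zz, kf_refl]; rfl
  obtain ⟨k, h1, h2, h3⟩ := sb_ext (Y := ⊥) (P := c.Z) (P' := f.W) bot_le
    (fun y hy => by obtain ⟨m, rfl⟩ := c.mem_Z.1 hy; exact sb_zW m)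
    (fun x _ y hy => by rw [mem_bot.1 hy]; simp) (fun x hx => mem_bot.2 (sb_Wsq hc hx)) c.Hodd
    (fun x _ y hy => by rw [mem_bot.1 hy]; simp)
    (fun h hh' y hy => (sb_sc hh').elim fun l h1 => by
      obtain ⟨m, rfl⟩ := c.mem_Z.1 hy; exact c.mem_Z.2 ⟨_, hh h1 m⟩)
    (fun h hh w hw => (sb_sc hh).elim fun _ h1 => sb_actW h1 hw) k0
    (fun p hp p' hp' => by
      obtain ⟨m, rfl⟩ := c.mem_Z.1 hp
      obtain ⟨m', rfl⟩ := c.mem_Z.1 hp'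
      rw [← c.z_add, hz, hz, hz])
    (fun y hy => by rw [mem_bot.1 hy, ← c.z_zero, hz]) fun x hx p hp => by
      obtain ⟨m, rfl⟩ := c.mem_Z.1 hp
      rw [← f.z_comm m hx.1, mul_inv_cancel_right]
      exact ⟨hp, rfl⟩
  exact ⟨k, h1, fun m => (h2 _ (c.mem_Z.2 ⟨m, rfl⟩)).trans (hz m), fun h l hl =>
    h3 h hl.1 (nm q l * ·) fun p hp => by
      obtain ⟨m, rfl⟩ := c.mem_Z.1 hp
      rw [hh hl, hz, hz]⟩

variable {a : G → F} (a1 : ∀ y ∈ r.Y, ∀ y' ∈ r.Y, a (y * y') = a y + a y')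
  (a2 : ∀ p ∈ r.Y, r.d p = 0 → a p = f.a p)
include a1 a2

theorem sb_aU (u : UM F q) : a (c.U u) = u.x :=
  (a2 _ (r.sb_U u).1 (r.sb_U u).2).trans (f.mU u).2.2.1

theorem sb_ainv {y : G} (hy : y ∈ r.Y) : a y⁻¹ = a y := by
  have := a1 _ hy _ (inv_mem hy)
  rw [mul_inv_cancel, a2 _ (one_mem _) (r.sb_W (one_mem _)).2, f.a_one, eq_comm,
    CharTwo.add_eq_zero] at this
  exact this.symm

omit a1 in
theorem sb_memW {y : G} (hy : y ∈ r.Y) (h1 : r.d y = 0) (h2 : a y = 0) : y ∈ f.W :=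
  ⟨(r.sb_P0 hy h1).1, (r.sb_P0 hy h1).2, (a2 y hy h1).symm.trans h2⟩

theorem sb_surj (x x' : F) : ∃ y ∈ r.Y, r.d y = x ∧ a y = x' := by
  obtain ⟨y, hy, e⟩ := r.surj x
  obtain ⟨u, hu⟩ := exists_um (q := q) (a y + x')
  exact ⟨y * c.U u, mul_mem hy (r.sb_U u).1, by rw [r.d_mul _ hy _ (r.sb_U u).1, (r.sb_U u).2, e,
    add_zero], by rw [a1 _ hy _ (r.sb_U u).1, r.sb_aU a1 a2, hu, CharTwo.add_cancel_left]⟩

theorem sb_quad (hc : f.cc = 0) (a3 : ∀ h l, c.Sc h l → ∀ y ∈ r.Y, a (h * y * h⁻¹) = l * a y)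
    {k : G → K0 F q} (k1 : ∀ y ∈ f.W, ∀ y' ∈ f.W, k (y * y') = k y + k y')
    (k2 : ∀ m, k (c.z m) = m) (k3 : ∀ h l, c.Sc h l → ∀ y ∈ f.W, k (h * y * h⁻¹) = nm q l * k y) :
    ∃ (α : K0 F q) (β : F), ∀ y ∈ r.Y,
      k (y * y) = α * nm q (r.d y) + cm q (r.d y) (β * a y) + nm q (a y) := by
  choose yx hY hd ha using r.sb_surj a1 a2
  have s1 : ∀ y ∈ r.Y, yx (r.d y) (a y) * yx (r.d y) (a y) = y * y := fun y hy => by
    have h0 := hY (r.d y) (a y)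
    have hw := r.sb_memW a2 (mul_mem (inv_mem hy) h0)
      (by rw [r.d_mul _ (inv_mem hy) _ h0, r.sb_inv hy, hd, CharTwo.add_self_eq_zero])
      (by rw [a1 _ (inv_mem hy) _ h0, r.sb_ainv a1 a2 hy, ha, CharTwo.add_self_eq_zero])
    calc _ = y * (y⁻¹ * yx (r.d y) (a y) * y) * (y⁻¹ * yx (r.d y) (a y)) := by group
      _ = y * y * ((y⁻¹ * yx (r.d y) (a y)) * (y⁻¹ * yx (r.d y) (a y))) := by
        rw [← r.cen y hy _ hw]; group
      _ = _ := by rw [sb_Wsq hc hw, mul_one]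
  have hcW : ∀ x ∈ r.Y, ∀ y ∈ r.Y, x⁻¹ * y * x * y⁻¹ ∈ f.W := fun x hx y hy => by
    simpa using r.sb_comm (inv_mem hx) hy
  have s2 : ∀ x ∈ r.Y, ∀ y ∈ r.Y,
      k (x * y * (x * y)) = k (x * x) + k (y * y) + k (x⁻¹ * y * x * y⁻¹) := fun x hx y hy => by
    rw [show x * y * (x * y) = x * x * (x⁻¹ * y * x * y⁻¹) * (y * y) by group,
      k1 _ (mul_mem (r.sb_sq hc hx) (hcW x hx y hy)) _ (r.sb_sq hc hy),
      k1 _ (r.sb_sq hc hx) _ (hcW x hx y hy), add_right_comm]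
  have s3 : ∀ d x d' x', yx (d + d') (x + x') * yx (d + d') (x + x') =
      yx d x * yx d' x' * (yx d x * yx d' x') := fun d x d' x' => by
    rw [← s1 _ (mul_mem (hY d x) (hY d' x')), r.d_mul _ (hY _ _) _ (hY _ _), a1 _ (hY _ _) _ (hY _ _),
      hd, hd, ha, ha]
  have s4 : ∀ {h l}, c.Sc h l → ∀ d x, k (yx (l * d) (l * x) * yx (l * d) (l * x)) =
      nm q l * k (yx d x * yx d x) := fun {h l} hh d x => by
    have := s1 _ (r.sb_scY hh (hY d x)).1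
    rw [(r.sb_scY hh (hY d x)).2, a3 h l hh _ (hY d x), hd, ha] at this
    rw [this, ← k3 h l hh _ (r.sb_sq hc (hY d x))]
    congr 1; group
  obtain ⟨h, η, hh, hη, hη1⟩ := c.exists_h1
  obtain ⟨α, γ, β, e⟩ := quad2 c.q4 (fun d x => k (yx d x * yx d x))
    (fun d x d' x' => k ((yx d x)⁻¹ * yx d' x' * yx d x * (yx d' x')⁻¹))
    (fun d x d' x' => by
      show k _ = _
      rw [s3, s2 _ (hY _ _) _ (hY _ _)])
    (fun d x d' x' v v' => by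
      show k _ = k _ + k _
      have h0 := hY (d + d') (x + x')
      have h1 := mul_mem (hY d x) (hY d' x')
      have hw := r.sb_memW a2 (mul_mem (inv_mem h1) h0)
        (by rw [r.d_mul _ (inv_mem h1) _ h0, r.sb_inv h1, r.d_mul _ (hY _ _) _ (hY _ _), hd, hd, hd,
          CharTwo.add_self_eq_zero])
        (by rw [a1 _ (inv_mem h1) _ h0, r.sb_ainv a1 a2 h1, a1 _ (hY _ _) _ (hY _ _), ha, ha, ha,
          CharTwo.add_self_eq_zero])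
      rw [← k1 _ (hcW _ (hY _ _) _ (hY _ _)) _ (hcW _ (hY _ _) _ (hY _ _))]
      congr 1
      have e1 := r.cen _ (mul_mem (mul_mem (inv_mem h1) (hY v v')) h1) _ hw
      have e2 := r.cen _ (inv_mem (hY d' x')) _ (hcW _ (hY d x) _ (hY v v'))
      generalize yx (d + d') (x + x') = y0 at *
      generalize yx d x = y1 at *
      generalize yx d' x' = y2 at *
      generalize yx v v' = y3 at *
      calc y0⁻¹ * y3 * y0 * y3⁻¹
          = ((y1 * y2)⁻¹ * y0)⁻¹ * ((y1 * y2)⁻¹ * y3 * (y1 * y2) * ((y1 * y2)⁻¹ * y0)) * y3⁻¹ := by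
            group
        _ = y2⁻¹ * (y1⁻¹ * y3 * y1 * y3⁻¹) * (y3 * y2 * y3⁻¹) := by rw [e1]; group
        _ = _ := by rw [e2]; group)
    (fun m d x => by
      by_cases hm : m = 0
      · have := s1 1 (one_mem _)
        rw [(r.sb_W (one_mem _)).2, a2 _ (one_mem _) (r.sb_W (one_mem _)).2, f.a_one] at this
        simp only [hm, ZeroMemClass.coe_zero, zero_mul]
        rw [this, mul_one, ← c.z_zero, k2]; simp
      · obtain ⟨h0, -, h1⟩ := c.exists_h0 m hm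
        exact (s4 h1 d x).trans (by rw [nm_k0])) hη hη1
    fun d x => (s4 hh d x).trans (by rw [hη, one_mul])
  have e' : ∀ y ∈ r.Y, k (y * y) = α * nm q (r.d y) + cm q (r.d y) (β * a y) + γ * nm q (a y) :=
    fun y hy => by rw [← e, s1 y hy]
  obtain ⟨u, hu⟩ := exists_um (q := q) (1 : F)
  have := e' _ (r.sb_U u).1
  rw [← map_mul, um_sq, (r.sb_U u).2, r.sb_aU a1 a2, hu, nm_one, nm_zero, cm_zero_left] at this
  have hγ : γ = 1 := by simpa using this.symm.trans (k2 1)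
  exact ⟨α, β, fun y hy => by rw [e' y hy, hγ, one_mul]⟩

theorem sb_ta {y : G} (hy : y ∈ r.Y) : a (c.t * y * c.t⁻¹) = a y + r.d y := by
  obtain ⟨h1, h2⟩ := r.sb_R c.tR hy
  obtain ⟨ht, t1, -⟩ := f.mR _ c.tR
  obtain ⟨h3, -, -⟩ := r.triv y hy _ ht
  have h4 := a1 _ h1 _ (inv_mem hy)
  rw [a2 _ (mul_mem h1 (inv_mem hy)) (by
      rw [r.d_mul _ h1 _ (inv_mem hy), h2, r.sb_inv hy, CharTwo.add_self_eq_zero]),
    r.sb_ainv a1 a2 hy, show c.t * y * c.t⁻¹ * y⁻¹ = c.t * (y * c.t * y⁻¹)⁻¹ by group,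
    f.a_mul _ ht _ (inv_mem h3), f.a_inv h3, r.dt y hy, t1, zero_add] at h4
  rw [h4, add_comm, CharTwo.add_cancel_right]

end Raw2

theorem Raw2.st2b {c : Ctx G F q} {f : Fr1 c} (r : Raw2 f) (hc : f.cc = 0) : Nonempty (Fr2 c) := by
  obtain ⟨a0, b1, b2, b3⟩ := r.sb_exists_a hc
  obtain ⟨k, k1, k2, k3⟩ := r.sb_exists_k hc
  obtain ⟨α, β, e0⟩ := r.sb_quad b1 b2 hc b3 k1 k2 k3
  set a : G → F := fun y => a0 y + cj F q β * r.d y with ha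
  have a1 : ∀ y ∈ r.Y, ∀ y' ∈ r.Y, a (y * y') = a y + a y' := fun y hy y' hy' => by
    simp only [ha, b1 y hy y' hy', r.d_mul y hy y' hy']; ring
  have a2 : ∀ p ∈ r.Y, r.d p = 0 → a p = f.a p := fun p hp h => by simp [ha, h, b2 p hp h]
  have e1 : ∀ y ∈ r.Y, k (y * y) = nm q (a y) + (α + nm q β) * nm q (r.d y) := fun y hy => by
    rw [e0 y hy]
    simp only [ha]
    rw [nm_add, nm_mul, nm_cj, cm_comm (a0 y), cm_mul_left, H10.cj_cj]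
    linear_combination (exp := 1) -(k0_add_self (nm q β * nm q (r.d y)))
  have hr : ∀ x ∈ c.R, ∀ w ∈ f.W, f.b (x * w * x⁻¹) = f.b w ∧
      k (x * w * x⁻¹) = k w + f.e x * f.b w := fun x hx w hw => by
    rw [sb_rw hx hw, f.b_mul _ hw.1 _ (f.mZ _).1, (f.mZ _).2.2.2, k1 _ hw _ (sb_zW _), k2, add_zero]
    exact ⟨rfl, rfl⟩
  have e2 : ∀ x ∈ c.R, ∀ y ∈ r.Y, nm q (a (x * y * x⁻¹)) = nm q (a y) + f.e x * f.b (y * y) :=
    fun x hx y hy => by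
      have h1 := e1 _ (r.sb_R hx hy).1
      rw [show x * y * x⁻¹ * (x * y * x⁻¹) = x * (y * y) * x⁻¹ by group, (hr x hx _ (r.sb_sq hc hy)).2,
        e1 y hy, (r.sb_R hx hy).2, add_right_comm] at h1
      exact (add_right_cancel h1).symm
  have e3 : ∀ y ∈ r.Y, f.b (y * y) = nm q (r.d y) + cm q (r.d y) (a y) := fun y hy => by
    have := e2 _ c.tR y hy
    rw [r.sb_ta a1 a2 hy, nm_add, f.et, one_mul, add_assoc, cm_comm] at this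
    exact (add_left_cancel this).symm
  have hW : ∀ {y}, y ∈ r.Y → r.d y = 0 → a y = 0 → y ∈ f.W := fun hy h1 h2 => r.sb_memW a2 hy h1 h2
  refine ⟨⟨r.Y, r.d, a, f.b, k, α + nm q β, fun x hx => ?_, r.pg, r.d_mul, a1,
    fun y hy h1 h2 y' hy' h3 h4 => f.b_mul _ (hW hy h1 h2).1 _ (hW hy' h3 h4).1,
    fun y hy h1 h2 y' hy' h3 h4 => k1 _ (hW hy h1 h2) _ (hW hy' h3 h4),
    fun y hy h1 h2 h3 h4 => ?_, r.sb_surj a1 a2, fun m m' => ?_,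
    fun u => ⟨(r.sb_U u).1, (r.sb_U u).2, r.sb_aU a1 a2 u⟩, fun m => ⟨(f.mZ m).2.2.2, k2 m⟩,
    fun w hw h1 h2 y hy => (r.cen y hy w (hW hw h1 h2)).symm, fun y hy => ⟨e3 y hy, e1 y hy⟩,
    fun y hy => r.sb_ta a1 a2 hy, fun w hw h1 h2 => by simpa [f.et] using hr _ c.tR w (hW hw h1 h2),
    r.act, fun h l hh y hy => ⟨?_, fun h1 h2 =>
      ⟨(sb_act hh (hW hy h1 h2).1).2.2.2, k3 h l hh y (hW hy h1 h2)⟩⟩⟩⟩
  · obtain ⟨y, hy, y1, y2⟩ := r.sb_surj a1 a2 1 0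
    have key : ∀ v : F, nm q (a (x * y * x⁻¹)) + cm q (a (x * y * x⁻¹)) v =
        f.e x + cm q (f.e x : F) v := fun v => by
      obtain ⟨u, rfl⟩ := exists_um (q := q) v
      have h1 := mul_mem hy (r.sb_U u).1
      have := e2 x hx _ h1
      rw [e3 _ h1, show x * (y * c.U u) * x⁻¹ = x * y * x⁻¹ * (x * c.U u) * x⁻¹ by group,
        c.RA x hx _ (c.UA u), show x * y * x⁻¹ * (c.U u * x) * x⁻¹ = x * y * x⁻¹ * c.U u by group,
        a1 _ (r.sb_R hx hy).1 _ (r.sb_U u).1, a1 _ hy _ (r.sb_U u).1, r.d_mul _ hy _ (r.sb_U u).1,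
        (r.sb_U u).2, r.sb_aU a1 a2, y1, y2, nm_add, zero_add, add_zero, nm_one, mul_add, mul_one,
        ← cm_smul_left, mul_one] at this
      linear_combination (exp := 1) this
    have h1 := key 0
    rw [cm_zero_right, cm_zero_right, add_zero, add_zero] at h1
    have h2 : a (x * y * x⁻¹) + f.e x = 0 := by_contra fun h0 => by
      obtain ⟨v, hv⟩ := cm_surj (q := q) h0 1
      have := key v
      rw [h1, add_left_cancel_iff] at this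
      rw [cm_add_left, this, k0_add_self] at hv
      exact zero_ne_one hv
    rw [CharTwo.add_eq_zero.1 h2, nm_k0, sq] at h1
    obtain ⟨ht, -, -⟩ := f.mR _ c.tR
    by_cases h3 : f.e x = 0
    · exact Or.inl (f.eR x hx h3)
    · have := f.eR _ (mul_mem hx c.tR) (by
        rw [f.e_mul _ (f.mR x hx).1 _ ht, (mul_eq_left₀ h3).1 h1, f.et, k0_add_self])
      exact Or.inr (mul_right_cancel (this.trans c.t2.symm))
  · obtain ⟨m, rfl⟩ := f.ker y (hW hy h1 h2).1 (hW hy h1 h2).2.1 (hW hy h1 h2).2.2 h3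
    rw [← k2 m, h4, c.z_zero]
  · obtain ⟨w, hw, h1, h2, h3⟩ := f.surj m
    have h4 : w ∈ f.W := ⟨hw, h1, h2⟩
    have h5 := mul_mem h4 (sb_zW (k w + m'))
    exact ⟨_, (r.sb_W h5).1, (r.sb_W h5).2, (a2 _ (r.sb_W h5).1 (r.sb_W h5).2).trans h5.2.2,
      by rw [f.b_mul _ hw _ (f.mZ _).1, (f.mZ _).2.2.2, h3, add_zero],
      by rw [k1 _ h4 _ (sb_zW _), k2, CharTwo.add_cancel_left]⟩
  · simp only [ha, b3 h l hh y hy, (r.sb_scY hh hy).2]; ring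

end Cfsg.Agent.GMS
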