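import Cfsg.Agent.GMS.Lam
import Cfsg.Agent.GMS.LA

set_option autoImplicit false
set_option linter.unusedSectionVars false

namespace Cfsg.Agent.GMS

open Subgroup H10 H91
open H42 hiding SylIn

variable {G : Type*} [Group G] [Finite G] {F : Type*} [Field F] [Fintype F] [CharP F 2] {q : ℕ}
  [hF : Fact (Fintype.card F = q ^ 2)]

namespace Fr1

variable {c : Ctx G F q} (f : Fr1 c)

/-- the coordinates of `P/Z` -/
def t1co (p : G) : K0 F q × F × K0 F q := (f.e p, f.a p, f.b p)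

theorem t1_mul {p p' : G} (hp : p ∈ f.P) (hp' : p' ∈ f.P) : f.t1co (p * p') = f.t1co p + f.t1co p' := by
  simp only [t1co, f.e_mul p hp p' hp', f.a_mul p hp p' hp', f.b_mul p hp p' hp', Prod.mk_add_mk]

theorem t1_z (k : K0 F q) : f.t1co (c.z k) = 0 := by
  obtain ⟨-, h1, h2, h3⟩ := f.mZ k
  simp only [t1co, h1, h2, h3, Prod.mk_zero_zero]

theorem t1_surj (hR : ∀ k, ∃ r ∈ c.R, f.e r = k) (v : K0 F q × F × K0 F q) : ∃ p ∈ f.P, f.t1co p = v := by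
  obtain ⟨r, hr, e⟩ := hR v.1
  obtain ⟨p, hp, h1, h2, h3⟩ := f.exists_p hr v.2.1 v.2.2
  exact ⟨p, hp, by simp only [t1co, h1, h2, h3, e]⟩

theorem t1_cj {g p : G} (hg : g ∈ normalizer (f.P : Set G)) (hp : p ∈ f.P) : g * p * g⁻¹ ∈ f.P :=
  (mem_normalizer_iff.1 hg p).1 hp

theorem t1_wd {g p p' : G} (hg : g ∈ normalizer (f.P : Set G)) (hp : p ∈ f.P) (hp' : p' ∈ f.P)
    (h : f.t1co p = f.t1co p') : f.t1co (g * p * g⁻¹) = f.t1co (g * p' * g⁻¹) := by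
  obtain ⟨k, rfl⟩ := f.eq_mul_z hp hp' (congrArg (·.1) h) (congrArg (·.2.1) h) (congrArg (·.2.2) h)
  obtain ⟨k', hk⟩ := f.nrm_Z hg k
  rw [← conj_mul, hk, f.t1_mul (f.t1_cj hg hp') (f.mZ k').1, t1_z, add_zero]

theorem t1_inner {w p : G} (hw : w ∈ f.P) (hp : p ∈ f.P) : f.t1co (w * p * w⁻¹) = f.t1co p := by
  have := f.t1_mul (f.t1_cj (le_normalizer hw) hp) hw
  rw [inv_mul_cancel_right, f.t1_mul hw hp, add_comm] at this
  exact (add_right_cancel this).symm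

/-- the permutations of the coordinates induced by `N(P)` -/
def t1G : Subgroup (Equiv.Perm (K0 F q × F × K0 F q)) where
  carrier := {π | ∃ g ∈ normalizer (f.P : Set G), ∀ p ∈ f.P, f.t1co (g * p * g⁻¹) = π (f.t1co p)}
  one_mem' := ⟨1, one_mem _, fun p _ => by simp⟩
  mul_mem' := by
    rintro π ρ ⟨g, hg, h⟩ ⟨g', hg', h'⟩
    refine ⟨g * g', mul_mem hg hg', fun p hp => ?_⟩
    rw [Equiv.Perm.mul_apply, ← h' p hp, ← h _ (f.t1_cj hg' hp)]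
    congr 1; group
  inv_mem' := by
    rintro π ⟨g, hg, h⟩
    refine ⟨g⁻¹, inv_mem hg, fun p hp => ?_⟩
    rw [Equiv.Perm.eq_inv_iff_eq, ← h _ (f.t1_cj (inv_mem hg) hp)]
    congr 1; group

theorem t1_ex (hR : ∀ k, ∃ r ∈ c.R, f.e r = k) {g : G} (hg : g ∈ normalizer (f.P : Set G)) :
    ∃ π ∈ f.t1G, ∀ p ∈ f.P, f.t1co (g * p * g⁻¹) = π (f.t1co p) := by
  choose s hs hs' using f.t1_surj hR
  have key : ∀ g ∈ normalizer (f.P : Set G), ∀ v,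
      f.t1co (g⁻¹ * s (f.t1co (g * s v * g⁻¹)) * g⁻¹⁻¹) = v := fun g hg v => by
    rw [f.t1_wd (inv_mem hg) (hs _) (f.t1_cj hg (hs v)) (hs' _), ← hs' v, hs' v]
    rw [show g⁻¹ * (g * s v * g⁻¹) * g⁻¹⁻¹ = s v by group, hs']
  have h : ∀ p ∈ f.P, f.t1co (g * p * g⁻¹) = f.t1co (g * s (f.t1co p) * g⁻¹) := fun p hp =>
    f.t1_wd hg hp (hs _) (hs' _).symm
  exact ⟨⟨fun v => f.t1co (g * s v * g⁻¹), fun v => f.t1co (g⁻¹ * s v * g⁻¹⁻¹), key g hg,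
    fun v => by simpa using key g⁻¹ (inv_mem hg) v⟩, ⟨g, hg, h⟩, h⟩

theorem t1_V (hc : f.cc = 0) {n w : G} (hn : n ∈ normalizer (f.P : Set G))
    (hR : n ∈ normalizer (c.R : Set G)) (hQ : n ∈ normalizer (c.Q : Set G)) (hw : w ∈ f.W) :
    n * w * n⁻¹ ∈ f.W := by
  obtain ⟨wP, we, wa⟩ := hw
  have yP := f.t1_cj hn wP
  have a0 : f.a (n * w * n⁻¹) = 0 := by_contra fun ha => by
    obtain ⟨x, hx⟩ := cm_surj (q := q) ha 1
    obtain ⟨u, rfl⟩ := exists_um (q := q) x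
    obtain ⟨h1, h2, h3⟩ := f.mem_Q.1 ((mem_normalizer_iff.1 (inv_mem hQ) _).1 (⟨u, rfl⟩ : c.U u ∈ c.Q))
    have e1 := (f.comm_iff wP h1).2 (by
      rw [we, wa, h2, zero_mul, zero_mul, add_zero, add_zero]; exact k0_ext (by simp))
    have e2 : n * w * n⁻¹ * c.U u = c.U u * (n * w * n⁻¹) := by
      calc n * w * n⁻¹ * c.U u = n * (w * (n⁻¹ * c.U u * n⁻¹⁻¹)) * n⁻¹ := by group
        _ = _ := by rw [e1]; group
    obtain ⟨m1, m2, m3, m4⟩ := f.mU u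
    rw [f.comm_iff yP m1, m2, m3, m4, hx] at e2
    simp at e2
  refine ⟨yP, by_contra fun he => ?_, a0⟩
  have e1 := f.sq _ yP
  rw [conj_mul, f.sq _ wP, hc, we, wa, a0, nm_eq_zero.2 rfl, zero_add, zero_add, zero_add, zero_add,
    zero_mul, c.z_zero, mul_one, mul_inv_cancel, eq_comm, c.z_eq_one, mul_eq_zero] at e1
  obtain ⟨r, hr, k, e⟩ := c.mem_V.1 (f.mem_V.2 ⟨yP, a0, e1.resolve_left he⟩)
  obtain ⟨k', hk⟩ := f.nrm_Z (inv_mem hn) k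
  have hr' := (mem_normalizer_iff.1 (inv_mem hR) r).1 hr
  have e2 : w = n⁻¹ * r * n⁻¹⁻¹ * c.z k' := by rw [← hk, conj_mul, ← e]; group
  rw [e2, f.e_mul _ (f.mR _ hr').1 _ (f.mZ k').1, (f.mZ k').2.1, add_zero] at we
  rw [e, conj_eq_one_iff.1 (f.eR _ hr' we), one_mul] at he
  exact he (f.mZ k).2.1

end Fr1

theorem Fr1.tail1 {c : Ctx G F q} (f : Fr1 c) (hc : f.cc = 0) (hR : ∀ k, ∃ r ∈ c.R, f.e r = k)
    {s : G} (hs : s ∈ f.P) (h : c.Tc s) (ha : f.a s ≠ 0) {g : G}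
    (hg : g ∈ normalizer (f.P : Set G)) : g ∈ normalizer (f.W : Set G) := by
  obtain ⟨g₀, hg₀, r, hr, -, rfl⟩ := f.exists_nrm hs h
  obtain ⟨π₀, hπ₀, h₀⟩ := f.t1_ex hR hg₀
  obtain ⟨π, hπ, h₁⟩ := f.t1_ex hR hg
  have cR : ∀ r ∈ c.R, f.t1co r = (f.e r, 0, 0) := fun r hr => by
    simp only [Fr1.t1co, (f.mR r hr).2.1, (f.mR r hr).2.2]
  have key := la c.q4 f.t1G ?_ ?_ ?_ ?_ hπ₀ (e₀ := f.e r) (by rwa [← cR r hr, ← h₀ r (f.mR r hr).1]) π hπ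
  · refine calc_nrm fun w hw => ?_
    obtain ⟨b, hb⟩ := key (f.b w)
    have := h₁ w hw.1
    rw [show f.t1co w = (0, 0, f.b w) by simp only [Fr1.t1co, hw.2.1, hw.2.2], hb] at this
    exact ⟨f.t1_cj hg hw.1, congrArg (·.1) this, congrArg (·.2.1) this⟩
  · rintro ρ ⟨n, hn, e⟩ v v'
    obtain ⟨p, hp, rfl⟩ := f.t1_surj hR v
    obtain ⟨p', hp', rfl⟩ := f.t1_surj hR v'
    rw [← f.t1_mul hp hp', ← e _ (mul_mem hp hp'), ← e p hp, ← e p' hp', ← conj_mul,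
      f.t1_mul (f.t1_cj hn hp) (f.t1_cj hn hp')]
  · rintro ρ ⟨n, hn, e⟩
    choose γ hγ using f.nrm_Z hn
    refine ⟨γ, fun x y => c.z_inj.1 (by rw [← hγ, c.z_add, c.z_add, ← hγ, ← hγ, conj_mul]), fun v => ?_⟩
    obtain ⟨p, hp, rfl⟩ := f.t1_surj hR v
    have e1 := f.sq _ (f.t1_cj hn hp)
    rw [conj_mul, f.sq _ hp, hγ, hc, zero_add, zero_add, c.z_inj] at e1
    rw [← e p hp]; exact e1.symm
  · intro k hk
    obtain ⟨n, hn, e⟩ := c.Hex k hk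
    have a := f.act n (c.Ht hn) 1 _ (RingEquiv.refl F) fun u => by rw [e, one_mul, inv_one, mul_one]
    obtain ⟨ρ, hρ, e'⟩ := f.t1_ex hR (calc_nrm fun p hp => (a p hp).1)
    refine ⟨ρ, hρ, fun x y z => ?_⟩
    obtain ⟨p, hp, e''⟩ := f.t1_surj hR (x, y, z)
    obtain ⟨-, a1, a2, a3⟩ := a p hp
    rw [← e'', ← e' p hp, Fr1.t1co, a1, a2, a3, show f.e p = x from congrArg (·.1) e'',
      show f.a p = y from congrArg (·.2.1) e'', show f.b p = z from congrArg (·.2.2) e'']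
    rfl
  · rintro ρ ⟨n, hn, e⟩ hV b
    obtain ⟨e', he⟩ := hV (f.e c.t)
    rw [← cR _ c.tR, ← e _ (f.mR _ c.tR).1] at he
    obtain ⟨w, hw, n1, n2, -⟩ := f.stab_V hn c.tR c.t1 (f.mem_V.2 ⟨f.t1_cj hn (f.mR _ c.tR).1,
      congrArg (·.2.1) he, congrArg (·.2.2) he⟩)
    obtain ⟨p, hp, p1, p2, p3⟩ := f.surj b
    obtain ⟨-, y1, y2⟩ := f.t1_V hc (mul_mem (le_normalizer hw.1) hn) n1 n2 (⟨hp, p1, p2⟩ : p ∈ f.W)
    refine ⟨f.b (w * n * p * (w * n)⁻¹), ?_⟩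
    rw [show ((0, 0, b) : K0 F q × F × K0 F q) = f.t1co p by simp only [Fr1.t1co, p1, p2, p3], ← e p hp,
      ← f.t1_inner hw.1 (f.t1_cj hn hp), show w * (n * p * n⁻¹) * w⁻¹ = w * n * p * (w * n)⁻¹ by group,
      Fr1.t1co, y1, y2]

end Cfsg.Agent.GMS
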