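import Cfsg.Agent.GMS.Tail2

/-! Project GMS: the case `|R| = q`, `Z` is strongly closed (notes/GMS.md, Tail3). -/

set_option autoImplicit false
set_option linter.unusedSectionVars false

namespace Cfsg.Agent.GMS

open Subgroup H10 H91
open H42 hiding SylIn
open H70 (conj_mem_of_mem_norm conj_mem_of_mem_norm')

variable {G : Type*} [Group G] [Finite G] {F : Type*} [Field F] [Fintype F] [CharP F 2] {q : ℕ}
  [hF : Fact (Fintype.card F = q ^ 2)]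

/-- counting with an additive surjection -/
theorem t3_cnt {A : Type*} [AddCommGroup A] {P D : Subgroup G} (hD : D ≤ P) (π : G → A)
    (hπ : ∀ x ∈ P, ∀ y ∈ P, π (x * y) = π x + π y) (hs : ∀ a, ∃ y ∈ P, π y = a)
    (h0 : ∀ y ∈ D, π y = 0) {n : ℕ} (h : Nat.card P ≤ n * Nat.card D) : Nat.card A ≤ n := by
  let φ : P →* Multiplicative A := MonoidHom.mk' (fun y => Multiplicative.ofAdd (π y))
    fun y y' => by rw [← ofAdd_add, coe_mul, hπ _ y.2 _ y'.2]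
  have hs' : Function.Surjective φ := fun m => by
    obtain ⟨w, hw, h⟩ := hs m.toAdd
    exact ⟨⟨w, hw⟩, by simp [φ, h]⟩
  have h1 := φ.ker.card_mul_index
  rw [index_ker, MonoidHom.range_eq_top.2 hs', card_top, Nat.card_congr Multiplicative.toAdd] at h1
  have h2 : Nat.card (D.subgroupOf P) ≤ Nat.card φ.ker :=
    Subgroup.card_le_of_le fun y hy => by simpa [φ, MonoidHom.mem_ker] using h0 _ hy
  rw [H49.card_subgroupOf_of_le hD] at h2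
  have h3 : 0 < Nat.card φ.ker := Nat.card_pos
  refine Nat.le_of_mul_le_mul_left ?_ h3
  rw [h1, mul_comm]
  exact h.trans (Nat.mul_le_mul_left _ h2)

namespace Fr1

variable {c : Ctx G F q} (f : Fr1 c)

/-- `e = 0` -/
def t3P0 : Subgroup G where
  carrier := {y | y ∈ f.P ∧ f.e y = 0}
  one_mem' := ⟨one_mem _, f.e_one⟩
  mul_mem' hx hy := ⟨mul_mem hx.1 hy.1, by rw [f.e_mul _ hx.1 _ hy.1, hx.2, hy.2, add_zero]⟩
  inv_mem' hx := ⟨inv_mem hx.1, by rw [f.e_inv hx.1, hx.2]⟩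

theorem t3_z {y : G} (hy : y ∈ f.P) (k : K0 F q) : f.e (y * c.z k) = f.e y ∧
    f.a (y * c.z k) = f.a y ∧ f.b (y * c.z k) = f.b y := by
  obtain ⟨z0, z1, z2, z3⟩ := f.mZ k
  rw [f.e_mul _ hy _ z0, f.a_mul _ hy _ z0, f.b_mul _ hy _ z0, z1, z2, z3]
  simp

/-- `P` is weakly closed in `S` -/
theorem t3_wc {S : Subgroup G} (sw : ∀ g ∈ S, g ∉ f.Ph → ∃ l φ μ ν, f.Swp g l φ μ ν)
    (i2 : ∀ g ∈ S, ∀ g' ∈ S, g ∉ f.Ph → g' ∉ f.Ph → g * g' ∈ f.Ph) {g : G}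
    (h : ∀ p ∈ f.P, g * p * g⁻¹ ∈ S) : g ∈ normalizer (f.P : Set G) := by
  refine f.PP fun p hp => by_contra fun hP => ?_
  have hZ : ∀ k, ∃ k', g * c.z k * g⁻¹ = c.z k' := fun k => c.mem_Z.1 (f.l0s i2 (M := c.Q)
    (fun y hy => (f.mem_Q.1 hy).1) c.ZQ (fun y hy => h y (f.mem_Q.1 hy).1) (.inl ⟨fun x => by
      obtain ⟨u, hu⟩ := exists_um (q := q) x
      exact ⟨_, ⟨u, rfl⟩, (f.mU u).2.2.1.trans hu⟩, fun y hy y' hy' => by
      rw [(f.mem_Q.1 hy).2.1, (f.mem_Q.1 hy').2.1]; simp⟩) k)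
  have cz : ∀ p ∈ f.P, ∀ x ∈ H49.cj g f.P, ∃ k, g * p * g⁻¹ * x * (g * p * g⁻¹)⁻¹ = x * c.z k :=
    fun p hp x hx => by
    obtain ⟨x0, h0, rfl⟩ := H49.mem_cj'.1 hx
    obtain ⟨k', e'⟩ := hZ (cm q (f.a p) (f.a x0) + f.e p * f.b x0 + f.e x0 * f.b p)
    refine ⟨k', ?_⟩
    rw [← e', show g * p * g⁻¹ * (g * x0 * g⁻¹) * (g * p * g⁻¹)⁻¹ = g * (p * x0 * p⁻¹) * g⁻¹ by group,
      f.ci_conj hp h0]
    group
  obtain ⟨l, φ, μ, ν, -, -, -, hs⟩ := sw _ (h p hp) hP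
  have fb : ∀ x ∈ f.P ⊓ H49.cj g f.P, f.b x + μ * kf φ (f.e x) = 0 := fun x hx => by
    obtain ⟨k, e⟩ := cz p hp x hx.2
    rw [← (hs x hx.1).2.2.2, e, (f.t3_z hx.1 k).2.2, k0_add_self]
  have out : ∀ x ∈ f.Ph ⊓ H49.cj g f.P, x ∉ f.P → ∃ p' ∈ f.P, ∃ s, c.Ex s ∧ x = p' * s :=
    fun x hx hP => f.outer hx.1 hP (by
      obtain ⟨p, hp, rfl⟩ := H49.mem_cj'.1 hx.2
      rw [show g * p * g⁻¹ * (g * p * g⁻¹) = g * (p * p) * g⁻¹ by group, f.sq p hp]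
      obtain ⟨k', e⟩ := hZ _
      rw [e]; exact (f.mZ k').1)
  have c1 := ci_two (E := H49.cj g f.P) (A := f.Ph) fun a ha b hb aP bP => by
    obtain ⟨a0, h0, rfl⟩ := H49.mem_cj'.1 ha
    obtain ⟨b0, h1, rfl⟩ := H49.mem_cj'.1 hb
    exact i2 _ (h _ h0) _ (h _ h1) aP bP
  rw [H49.card_cj] at c1
  have q4 := c.q4
  have ad : ∀ x ∈ f.P, ∀ y ∈ f.P, f.b (x * y) + μ * kf φ (f.e (x * y)) =
      f.b x + μ * kf φ (f.e x) + (f.b y + μ * kf φ (f.e y)) := fun x hx y hy => by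
    rw [f.b_mul _ hx _ hy, f.e_mul _ hx _ hy, kf_add]; ring
  by_cases hle : f.Ph ⊓ H49.cj g f.P ≤ f.P
  · have := t3_cnt hle (fun x => f.b x + μ * kf φ (f.e x)) ad (fun k => by
      obtain ⟨w, hw, e, -, b⟩ := f.surj k
      exact ⟨w, hw, by simp [e, b]⟩) (fun y hy => fb y ⟨hle hy, hy.2⟩) c1
    rw [card_k0] at this
    omega
  obtain ⟨y, hy, yP⟩ := SetLike.not_le_iff_exists.1 hle
  obtain ⟨p', hp', s, hs', e⟩ := out y hy yP
  have fx : ∀ x ∈ f.P ⊓ H49.cj g f.P, cm q 1 (f.a x) = 0 := fun x hx => by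
    obtain ⟨y0, h0, rfl⟩ := H49.mem_cj'.1 hy.2
    obtain ⟨k, e1⟩ := cz y0 h0 x hx.2
    obtain ⟨x0, -, x2, -⟩ := f.calc_ex hs' hx.1
    have e2 := congrArg f.a e1
    rw [e, show p' * s * x * (p' * s)⁻¹ = p' * (s * x * s⁻¹) * p'⁻¹ by group,
      f.ci_conj hp' x0, f.ci_a_z x0, f.ci_a_z hx.1, x2] at e2
    exact k0_ext (by simp [e2, CharTwo.add_self_eq_zero])
  have c2 := ci_two (E := f.Ph ⊓ H49.cj g f.P) (A := f.P) fun a ha b hb aP bP => by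
    obtain ⟨p1, hp1, s1, hs1, e1⟩ := out a ha aP
    obtain ⟨p2, hp2, s2, hs2, e2⟩ := out b hb bP
    rw [e1, e2, show p1 * s1 * (p2 * s2) = p1 * (s1 * p2 * s1⁻¹) * (s1 * s2) by group]
    exact mul_mem (mul_mem hp1 (f.TP hs1.1 hp2)) (f.mem_V.1 (c.ex_mul hs1 hs2)).1
  have := t3_cnt (D := f.P ⊓ (f.Ph ⊓ H49.cj g f.P)) (n := 4) inf_le_left
    (fun x => (f.b x + μ * kf φ (f.e x), cm q 1 (f.a x))) (fun x hx y hy => by
      rw [ad x hx y hy, f.a_mul _ hx _ hy, cm_add_right]; rfl) (fun k => by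
      obtain ⟨x, hx⟩ := cm_surj (q := q) (one_ne_zero (α := F)) k.2
      obtain ⟨w, hw, e, a, b⟩ := f.ci_p0 x k.1
      exact ⟨w, hw, by simp [e, a, b, hx]⟩)
    (fun y hy => Prod.ext (fb y ⟨hy.1, hy.2.2⟩) (fx y ⟨hy.1, hy.2.2⟩)) (by omega)
  rw [Nat.card_prod, card_k0] at this
  nlinarith

/-- swapping involutions -/
theorem t3_sw (hR : ∀ k, ∃ r ∈ c.R, f.e r = k) {s : G} {l : F} {φ : F ≃+* F} {μ ν : K0 F q}
    (h : f.Swp s l φ μ ν) (h2 : s * s = 1) : nm q l = 1 ∧ (φ = RingEquiv.refl F ∧ l = 1 ∨ φ = sg F q) ∧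
      (∀ k, s * c.z k * s⁻¹ = c.z k) ∧ ∀ k, ∃ r ∈ c.R, μ * f.e r ^ 2 = k ∧
        s * (r * (s * r * s⁻¹)) * s⁻¹ = r * (s * r * s⁻¹) * c.z k := by
  obtain ⟨l0, mn, hz, hs⟩ := h
  have ss : ∀ x, s * (s * x * s⁻¹) * s⁻¹ = x := fun x => by
    rw [show s * (s * x * s⁻¹) * s⁻¹ = s * s * x * (s * s)⁻¹ by group, h2]; simp
  have aa : ∀ x, l * φ (l * φ x) = x := fun x => by
    obtain ⟨y, hy, -, a, -⟩ := f.ci_p0 x 0
    rw [← a, ← (hs y hy).2.2.1, ← (hs _ (hs y hy).1).2.2.1, ss]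
  have a1 := aa 1
  rw [map_one, mul_one] at a1
  have hφ := aut_sq (q := q) (φ := φ) fun x => by
    have := aa x
    rwa [map_mul, ← mul_assoc, a1, one_mul] at this
  have l1 : nm q l = 1 ∧ (φ = RingEquiv.refl F ∧ l = 1 ∨ φ = sg F q) := by
    rcases hφ with rfl | rfl
    · have : l = 1 := eq_one_of_pow (k := 1) (by rw [pow_one, pow_two]; exact a1)
      exact ⟨by rw [this, nm_one], .inl ⟨rfl, this⟩⟩
    · exact ⟨k0_ext (by rw [coe_nm, mul_comm]; exact a1), .inr rfl⟩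
  have kid : ∀ k : K0 F q, kf φ k = k := fun k => by rcases hφ with rfl | rfl <;> simp
  have m0 : μ ≠ 0 := fun e => by rw [e, zero_mul, l1.1] at mn; exact zero_ne_one mn
  refine ⟨l1.1, l1.2, fun k => by rw [hz, l1.1, one_mul, kid], fun k => ?_⟩
  obtain ⟨m, hm⟩ := sq_surj (k / μ)
  obtain ⟨r, hr, e⟩ := hR m
  obtain ⟨r0, r1, r2⟩ := f.mR r hr
  obtain ⟨s0, s1, s2, s3⟩ := hs r r0
  have e1 : μ * f.e r ^ 2 = k := by rw [e, hm, mul_div_cancel₀ _ m0]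
  refine ⟨r, hr, e1, ?_⟩
  rw [← conj_mul, ss, f.comm _ s0 _ r0, r1, r2, s3, kid, ← e1]
  congr 2
  simp; ring

end Fr1

theorem Fr1.tail3 {c : Ctx G F q} (f : Fr1 c) (hc : f.cc = 0) (hR : ∀ k, ∃ r ∈ c.R, f.e r = k)
    (h0 : ∀ s ∈ f.P, c.Tc s → f.a s = 0) : c.SCB := by
  obtain ⟨S, PS, hS, sw, i2⟩ := f.tail2a hc hR h0
  have PPh : f.P ≤ f.Ph := le_sup_left
  have ZP : c.Z ≤ f.P := fun x hx => by obtain ⟨k, rfl⟩ := c.mem_Z.1 hx; exact (f.mZ k).1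
  have hT : SylIn 2 S ⊤ := sylIn_of_maximal le_top hS.isPGroup fun H hH h1 _ => by_contra fun h2 => by
    obtain ⟨g, hg, gP⟩ := SetLike.exists_of_lt (H42.lt_inf_normalizer hH (lt_of_le_not_ge h1 h2))
    have gn := f.t3_wc sw i2 fun p hp => (mem_normalizer_iff.1 hg.2 p).1 (PS (PPh hp))
    exact gP ((hS.eq_of_le (H := H ⊓ normalizer (f.P : Set G)) hH.to_inf_left (le_inf h1 hS.le)
      inf_le_right).le ⟨hg.1, gn⟩)
  obtain ⟨z0, ⟨zZ, zC⟩, z1⟩ := (Subgroup.bot_or_exists_ne_one _).resolve_left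
    (H49.inf_center_ne_bot_of_nilpotent (N := c.Z) (K := S) hS.isPGroup.isNilpotent
      (ZP.trans (PPh.trans PS)) (fun g hg => calc_nrm fun x hx => by
        obtain ⟨k, rfl⟩ := c.mem_Z.1 hx
        exact c.mem_Z.2 (f.nrm_Z (hS.le hg) k)) fun e => one_ne_zero (c.z_eq_one.1
          (mem_bot.1 (e ▸ c.bs_z_mem 1))))
  replace zZ : z0 ∈ c.Z := zZ
  have zc : ∀ y ∈ S, y * z0 = z0 * y := fun y hy => mem_centralizer_iff.1 zC y hy
  have cz : ∀ x ∈ c.Z, x ≠ 1 → IsConj z0 x := fun x hx x1 => by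
    have : ∀ x ∈ c.Z, x ≠ 1 → IsConj (c.z 1) x := fun x hx x1 => by
      obtain ⟨k, rfl⟩ := c.mem_Z.1 hx
      obtain ⟨u, -, -, hu⟩ := c.z_conj (mt c.z_eq_one.2 x1)
      exact isConj_iff.2 ⟨u, hu⟩
    exact (this _ zZ z1).symm.trans (this x hx x1)
  have sq1 : ∀ s, IsConj z0 s → s * s = 1 := fun s hs => by
    obtain ⟨v, rfl⟩ := isConj_iff.1 hs
    obtain ⟨k, rfl⟩ := c.mem_Z.1 zZ
    rw [conj_mul, c.z_sq, mul_one, mul_inv_cancel]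
  have L1 : ∀ s, IsConj z0 s → ∃ h, h * s * h⁻¹ = z0 ∧ ∀ y ∈ S, y * s = s * y → h * y * h⁻¹ ∈ S :=
    fun s hs => by
    obtain ⟨v, rfl⟩ := isConj_iff.1 hs
    obtain ⟨a, ha, e⟩ := (hT.of_le (B := centralizer {z0}) (fun y hy =>
      mem_centralizer_singleton_iff.2 (zc y hy)) le_top).exists_conj_mem
      (H := H49.cj v⁻¹ S ⊓ centralizer {z0}) (H49.isPGroup_cj.2 hS.isPGroup).to_inf_left inf_le_right
    rw [mem_centralizer_singleton_iff] at ha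
    refine ⟨a * v⁻¹, by
      rw [show a * v⁻¹ * (v * z0 * v⁻¹) * (a * v⁻¹)⁻¹ = a * z0 * a⁻¹ by group, ha,
        mul_inv_cancel_right], fun y hy hc => ?_⟩
    have := e (v⁻¹ * y * v⁻¹⁻¹) ⟨H49.conj_mem_cj.2 hy, mem_centralizer_singleton_iff.2 (by
      calc _ = v⁻¹ * (y * (v * z0 * v⁻¹)) * v := by group
        _ = _ := by rw [hc]; group)⟩
    rwa [show a * (v⁻¹ * y * v⁻¹⁻¹) * a⁻¹ = a * v⁻¹ * y * (a * v⁻¹)⁻¹ by group] at this
  have L2 : ∀ s, IsConj z0 s → ∀ M ≤ f.P, (∀ k, c.z k * s = s * c.z k) →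
      c.Z ≤ M → (((∀ x, ∃ y ∈ M, y * s = s * y ∧ f.a y = x) ∧ ∀ y ∈ M, ∀ y' ∈ M, y * s = s * y →
        y' * s = s * y' → f.e y * f.b y' + f.e y' * f.b y = 0) ∨
      ((∀ k k', ∃ y ∈ M, y * s = s * y ∧ f.e y = k ∧ f.b y = k') ∧ ∀ y ∈ M, ∀ y' ∈ M, y * s = s * y →
        y' * s = s * y' → cm q (f.a y) (f.a y') = 0)) → s ∈ c.Z := fun s hs M hM hz ZM alt => by
    obtain ⟨h, e, hh⟩ := L1 s hs
    have mc := @mem_centralizer_singleton_iff G _ s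
    have hn : h ∈ normalizer (c.Z : Set G) := calc_nrm fun x hx => by
      obtain ⟨k, rfl⟩ := c.mem_Z.1 hx
      refine f.l0s i2 (M := M ⊓ centralizer {s}) (inf_le_left.trans hM) (fun x hx => ⟨ZM hx, ?_⟩)
        (fun y hy => hh y (PS (PPh (hM hy.1))) (mc.1 hy.2)) (alt.imp ?_ ?_) k
      · obtain ⟨k, rfl⟩ := c.mem_Z.1 hx
        exact mc.2 (hz k)
      · exact fun a => ⟨fun x => (a.1 x).imp fun y h => ⟨⟨h.1, mc.2 h.2.1⟩, h.2.2⟩,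
          fun y hy y' hy' => a.2 y hy.1 y' hy'.1 (mc.1 hy.2) (mc.1 hy'.2)⟩
      · exact fun a => ⟨fun k k' => (a.1 k k').imp fun y h => ⟨⟨h.1, mc.2 h.2.1⟩, h.2.2⟩,
          fun y hy y' hy' => a.2 y hy.1 y' hy'.1 (mc.1 hy.2) (mc.1 hy'.2)⟩
    exact (mem_normalizer_iff.1 hn s).2 (e ▸ zZ)
  have L3 : ∀ s ∈ f.P, IsConj z0 s → s ∈ c.Z := fun s hs cs => by
    refine L2 s cs f.t3P0 (fun _ h => h.1) (fun k => f.z_comm k hs) (fun x hx => ?_)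
      (.inl ⟨fun x => ?_, fun y hy y' hy' _ _ => by rw [hy.2, hy'.2]; simp⟩)
    · obtain ⟨k, rfl⟩ := c.mem_Z.1 hx
      exact ⟨(f.mZ k).1, (f.mZ k).2.1⟩
    have h2 := sq1 s cs
    rw [f.sq s hs, c.z_eq_one, hc, zero_add] at h2
    obtain ⟨y, hy, a1, a2, a3⟩ := f.ci_p0 x (cm q x (f.a s) / f.e s)
    refine ⟨y, ⟨hy, a1⟩, (f.comm_iff hy hs).2 ?_, a2⟩
    by_cases he : f.e s = 0
    · rw [he, zero_mul, add_zero, nm_eq_zero] at h2
      simp [a1, he, h2]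
    · simp [a1, a2, a3, mul_div_cancel₀ _ he, k0_add_self]
  have L4 : ∀ s ∈ f.Ph, IsConj z0 s → s ∈ c.Z := fun s hs cs => by
    by_cases hP : s ∈ f.P
    · exact L3 s hP cs
    obtain ⟨p, hp, w, hw, s0, h0, e⟩ := f.outer_nf hs hP (sq1 s cs)
    obtain ⟨-, ε, hε⟩ := f.exists_ef h0
    have cj1 : ∀ y ∈ f.P, s0 * w * y * (s0 * w)⁻¹ = s0 * y * s0⁻¹ * c.z (f.e y * f.b w) := fun y hy => by
      rw [show s0 * w * y * (s0 * w)⁻¹ = s0 * (w * y * w⁻¹) * s0⁻¹ by group, f.ci_conj hw.1 hy,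
        ← conj_mul, calc_ex_z h0, hw.2.1, hw.2.2, cm_zero_left, zero_mul, zero_add, zero_add]
    have fa : ∀ y ∈ f.P, y * (s0 * w) = s0 * w * y → ∃ m : K0 F q, f.a y = m := fun y hy h => by
      have := congrArg f.a (cj1 y hy)
      rw [← h, mul_inv_cancel_right, f.ci_a_z (f.calc_ex h0 hy).1, (f.calc_ex h0 hy).2.2.1] at this
      exact fix_iff.1 this.symm
    have := L2 (s0 * w) (cs.trans (isConj_iff.2 ⟨p, e⟩)) f.P le_rfl (fun k => by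
      rw [mul_assoc, ← f.z_comm k hw.1, ← mul_assoc, ← mul_assoc, c.bs_ex_z h0]) ZP
      (.inr ⟨fun k k' => ?_, fun y hy y' hy' h h' => ?_⟩)
    · rw [← e] at this
      exact absurd ((mul_mem_cancel_left hp).1 ((mul_mem_cancel_right (inv_mem hp)).1 (ZP this))) hP
    · obtain ⟨m, hm⟩ := sq_surj (ε * k' + k * f.b w)
      obtain ⟨r, hr, er⟩ := hR k
      obtain ⟨y, hy, a1, a2, a3⟩ := f.exists_p hr (m : F) k'
      refine ⟨y, hy, ?_, a1.trans er, a3⟩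
      rw [eq_comm, ← mul_inv_eq_iff_eq_mul, cj1 y hy, hε y hy (by rw [a2, cj_k0]), mul_assoc, ← c.z_add,
        a1, a2, a3, er, nm_k0, hm, add_assoc, k0_add_self, c.z_zero, mul_one]
    · obtain ⟨m, e1⟩ := fa y hy h
      obtain ⟨m', e2⟩ := fa y' hy' h'
      rw [e1, e2, cm_k0]
  have LA : ∀ s ∈ S, s ∉ f.Ph → s * s = 1 → ∀ x ∈ c.Z, ∃ y ∈ f.P, y * s * y⁻¹ = x * s :=
    fun s hs sP h2 x hx => by
    obtain ⟨k, rfl⟩ := c.mem_Z.1 hx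
    obtain ⟨l, φ, μ, ν, h⟩ := sw s hs sP
    obtain ⟨r, hr, -, e⟩ := (f.t3_sw hR h h2).2.2.2 k
    refine ⟨(r * (s * r * s⁻¹))⁻¹, inv_mem (mul_mem (f.mR r hr).1 (h.2.2.2 _ (f.mR r hr).1).1), ?_⟩
    generalize r * (s * r * s⁻¹) = x at e
    rw [← inv_mul_cancel_left x (c.z k), ← e]; group
  have L5 : ∀ s ∈ S, IsConj z0 s → s ∈ c.Z := fun s hs cs => by
    by_cases sP : s ∈ f.Ph
    · exact L4 s sP cs
    exfalso
    have h2 := sq1 s cs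
    obtain ⟨l, φ, μ, ν, h⟩ := sw s hs sP
    obtain ⟨l1, hφ, hz, hr⟩ := f.t3_sw hR h h2
    obtain ⟨-, -, -, h⟩ := h
    have ss : ∀ x, s * (s * x * s⁻¹) * s⁻¹ = x := fun x => by
      rw [show s * (s * x * s⁻¹) * s⁻¹ = s * s * x * (s * s)⁻¹ by group, h2]; simp
    rcases hφ with ⟨rfl, rfl⟩ | rfl
    · refine sP (PPh (ZP (L2 s cs f.P le_rfl (fun k => (mul_inv_eq_iff_eq_mul.1 (hz k)).symm) ZP
        (.inl ⟨fun x => ?_, fun y hy y' hy' e e' => ?_⟩))))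
      · obtain ⟨y, hy, a1, a2, a3⟩ := f.ci_p0 x 0
        obtain ⟨y0, y1, y2, y3⟩ := h y hy
        obtain ⟨d, hd⟩ := f.eq_mul_z y0 hy (by simp [y1, a1, a3]) (by simp [y2]) (by simp [y3, a1, a3])
        obtain ⟨r, rR, -, e⟩ := hr d
        obtain ⟨r0, r1, -⟩ := f.mR r rR
        obtain ⟨s0, -, s2, -⟩ := h r r0
        refine ⟨y * (r * (s * r * s⁻¹)), mul_mem hy (mul_mem r0 s0), ?_, by
          rw [f.a_mul _ hy _ (mul_mem r0 s0), f.a_mul _ r0 _ s0, s2, r1, a2]; simp⟩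
        rw [eq_comm, ← mul_inv_eq_iff_eq_mul, ← conj_mul, hd, e, ← f.z_comm d (mul_mem r0 s0),
          mul_assoc, ← mul_assoc (c.z d), c.z_sq, one_mul]
      · have b := (h y hy).2.2.2
        have b' := (h y' hy').2.2.2
        rw [← e, mul_inv_cancel_right] at b
        rw [← e', mul_inv_cancel_right] at b'
        rw [b, b', kf_refl, kf_refl]
        linear_combination k0_add_self (μ * f.e y * f.e y')
    obtain ⟨a, ha⟩ : ∃ a : F, a + l * H10.cj F q a ≠ 0 := by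
      by_contra hn
      push Not at hn
      have h1 := hn 1
      rw [map_one, mul_one, CharTwo.add_eq_zero] at h1
      obtain ⟨x, hx⟩ := tr_surj (1 : K0 F q)
      have := hn x
      rw [← h1, one_mul, hx] at this
      exact one_ne_zero this
    obtain ⟨r, rR, er, -⟩ := hr (nm q (a + l * H10.cj F q a))
    obtain ⟨y, hy, a1, a2, a3⟩ := f.exists_p rR a 0
    obtain ⟨y0, y1, y2, y3⟩ := h y hy
    rw [a3, kf_zero, mul_zero] at y1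
    rw [a2, sg_apply] at y2
    rw [a1, kf_sg] at y3
    have x0 := mul_mem hy y0
    have xs : s * (y * (s * y * s⁻¹)) * s⁻¹ = y * (s * y * s⁻¹) := by
      rw [← conj_mul, ss]
      refine (f.comm_iff y0 hy).2 ?_
      rw [nm_add, nm_mul, l1, nm_cj, one_mul, k0_add_self, zero_add] at er
      rw [y1, y2, y3, a1, a2, cm_comm, ← er]
      linear_combination k0_add_self (μ * f.e r ^ 2)
    have xa : f.a (y * (s * y * s⁻¹)) ≠ 0 := by rwa [f.a_mul _ hy _ y0, y2, a2]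
    obtain ⟨d, hd⟩ : ∃ d, y⁻¹ = y * c.z d := f.eq_mul_z (inv_mem hy) hy (f.e_inv hy) (f.a_inv hy)
      (f.b_inv hy)
    obtain ⟨y', -, e'⟩ := LA s hs sP h2 _ (c.bs_z_mem d)
    have cx : IsConj z0 (y * (s * y * s⁻¹) * s) := (cs.trans (isConj_iff.2 ⟨y', e'⟩)).trans
      (isConj_iff.2 ⟨y, by
        rw [hd, ← mul_inv_eq_iff_eq_mul.1 (hz d), ← f.z_comm d hy]
        calc _ = y * s * (c.z d * c.z d) * y := by group
          _ = _ := by rw [c.z_sq]; group⟩)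
    generalize y * (s * y * s⁻¹) = x at x0 xs xa cx
    obtain ⟨g, e, hg⟩ := L1 s cs
    have m := hg x (PS (PPh x0)) (mul_inv_eq_iff_eq_mul.1 xs).symm
    have c1 : IsConj z0 (g * x * g⁻¹ * z0) := cx.trans (isConj_iff.2 ⟨g, by rw [← e]; group⟩)
    have zS := PS (PPh (ZP zZ))
    have c2 : IsConj z0 (g * x * g⁻¹) := by
      by_cases hP : g * x * g⁻¹ * z0 ∈ f.Ph
      · refine cz _ ((mul_mem_cancel_right zZ).1 (L4 _ hP c1)) fun e => xa ?_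
        rw [show x = g⁻¹ * (g * x * g⁻¹) * g by group, e, mul_one, inv_mul_cancel, f.a_one]
      · obtain ⟨v, -, e⟩ := LA _ (mul_mem m zS) hP (sq1 _ c1) _ zZ
        rw [zc _ m, ← mul_assoc z0 z0, sq1 z0 (IsConj.refl _), one_mul, ← zc _ m] at e
        exact c1.trans (isConj_iff.2 ⟨v, e⟩)
    obtain ⟨k, rfl⟩ := c.mem_Z.1 (L3 x x0 (c2.trans (isConj_iff.2 ⟨g⁻¹, by group⟩)))
    exact xa (f.mZ k).2.2.1
  obtain ⟨S', hS'⟩ := hT.exists_sylow_top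
  refine ⟨S', c.Z, le_rfl, ⟨⟨⟨fun x y => Subtype.ext ?_⟩⟩, fun x hx => ?_⟩, ?_⟩
  · exact f.comm_iff (ZP x.2) (ZP y.2) |>.2 (by
      obtain ⟨k, e⟩ := c.mem_Z.1 x.2
      simp [e, (f.mZ k).2.1, (f.mZ k).2.2.1, (f.mZ k).2.2.2])
  · obtain ⟨k, rfl⟩ := c.mem_Z.1 hx
    rw [pow_two, c.z_sq]
  rw [hS']
  refine ⟨ZP.trans (PPh.trans PS), fun x hx g hg => ?_⟩
  by_cases x1 : x = 1
  · rw [x1, mul_one, mul_inv_cancel]; exact one_mem _
  exact L5 _ hg ((cz x hx x1).trans (isConj_iff.2 ⟨g, rfl⟩))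

end Cfsg.Agent.GMS
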