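import Cfsg.Agent.GMS.FldB
import Cfsg.Agent.H50.U3J
import Cfsg.Agent.H20.U3Syl
import Cfsg.Agent.S2692

/-! Project GMS: the frame of `PSU₃(q)`, `q` even, and its automorphisms. -/

set_option autoImplicit false
set_option linter.unusedSectionVars false

namespace Cfsg.Agent.GMS

open Subgroup H10 H91
open H42 hiding SylIn

variable {G : Type*} [Group G] [Finite G] {F : Type*} [Field F] [Fintype F] [CharP F 2] {q : ℕ}
  [hF : Fact (Fintype.card F = q ^ 2)]

namespace ModP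

open Matrix
open H50.U3J hiding sl zz sl_mul sl_one
open scoped MatrixGroups

local notation "σ" => H10.cj F q
local notation "MM" => Matrix (Fin 3) (Fin 3) F

theorem exists_two_pow (F : Type*) [Field F] [Fintype F] [CharP F 2] (q : ℕ)
    [hF : Fact (Fintype.card F = q ^ 2)] : ∃ n : ℕ, 0 < n ∧ q = 2 ^ n := by
  obtain ⟨p, k, hp, hc, hk, e⟩ := exists_char_pow_of_card_sq (F := F) hF.out
  have : p = 2 := CharP.eq F hc ‹CharP F 2›
  exact ⟨k, hk, this ▸ e⟩

variable (q) in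
/-- unitary matrices for the antidiagonal form -/
def Un (g : MM) : Prop := gᵀ * Jm F * g.map σ = Jm F

theorem Un.mul {g h : MM} (hg : Un q g) (hh : Un q h) : Un q (g * h) := by
  unfold Un at *
  calc _ = hᵀ * (gᵀ * Jm F * g.map σ) * h.map σ := by
        simp only [transpose_mul, Matrix.map_mul, Matrix.mul_assoc]
    _ = _ := by rw [hg, hh]

theorem map_J (φ : F ≃+* F) : (Jm F).map φ = Jm F := by
  ext i j; fin_cases i <;> fin_cases j <;> simp [Jm]

theorem map_map_cj (φ : F ≃+* F) (g : MM) : (g.map φ).map σ = (g.map σ).map φ := by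
  ext i j; simp [map_cj]

theorem mm_ (φ : F ≃+* F) (A B : MM) : (A * B).map φ = A.map φ * B.map φ :=
  Matrix.map_mul (f := (φ : F →+* F))

theorem Un.map {g : MM} (hg : Un q g) (φ : F ≃+* F) : Un q (g.map φ) := by
  unfold Un at *
  have := congrArg (fun M : MM => M.map φ) hg
  simp only [map_J] at this
  rw [mm_, mm_, map_J, ← map_map_cj] at this
  exact this

theorem Un.inv {g h : MM} (hg : Un q g) (e : g * h = 1) : Un q h := by
  unfold Un at *
  calc _ = (g * h)ᵀ * Jm F * (g * h).map σ := by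
        conv_lhs => rw [← hg]
        simp only [transpose_mul, Matrix.map_mul, Matrix.mul_assoc]
    _ = _ := by rw [e]; simp

theorem Un.exists_inv {g : MM} (hg : Un q g) : ∃ h : MM, g * h = 1 ∧ h * g = 1 := by
  have h1 : (Jm F * (g.map σ) * Jm F)ᵀ * g = 1 := by
    rw [← transpose_transpose g, ← transpose_mul, transpose_transpose, ← Matrix.mul_assoc,
      ← Matrix.mul_assoc, hg, Jm_mul_Jm, transpose_one]
  exact ⟨_, mul_eq_one_comm.1 h1, h1⟩

theorem det_map (φ : F ≃+* F) (g : MM) : (g.map φ).det = φ g.det :=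
  (RingHom.map_det (φ : F →+* F) g).symm

theorem Un.exists_conj {g : MM} (hg : Un q g) (φ : F ≃+* F) (s : SJ F q) :
    ∃ s' : SJ F q, mm s' * g = g * (mm s).map φ := by
  obtain ⟨h, h1, h2⟩ := hg.exists_inv
  refine ⟨mkJ (g * (mm s).map φ * h) ((hg.mul (Un.map (mm_form s) φ)).mul (hg.inv h1)) ?_, ?_⟩
  · rw [det_mul, det_mul, det_map, mm_det, map_one, mul_one, ← det_mul, h1, det_one]
  · change g * (mm s).map φ * h * g = _
    rw [Matrix.mul_assoc, h2, Matrix.mul_one]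

theorem exists_lift (hq : 4 ≤ q) : ∃ π : SJ F q →* PSU 3 F q, Function.Surjective π ∧
    (∀ g, π g = 1 ↔ IsSc g) ∧ ∀ β : MulAut (PSU 3 F q), ∃ (g : MM) (φ : F ≃+* F), Un q g ∧
      ∀ s s' : SJ F q, mm s' * g = g * (mm s).map φ → β (π s) = π s' := by
  obtain ⟨d, hd⟩ := exists_trace_eq_one F q
  let P : SL(3, F) := ⟨!![1, 0, d; 0, 1, 0; 1, 0, σ d], by simp [det_fin_three]; grind⟩
  let sl : SL(3, F) → MM := H50.U3J.sl
  have hP : (sl P)ᵀ * (sl P).map σ = Jm F := by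
    ext i j
    fin_cases i <;> fin_cases j <;>
      simp [P, sl, H50.U3J.sl, Jm, Matrix.mul_apply, Fin.sum_univ_three, H10.cj_cj] <;> grind
  have h1 : (sl P) * sl P⁻¹ = 1 := by
    rw [← H50.U3J.sl_mul, mul_inv_cancel, H50.U3J.sl_one]
  have h2 : sl P⁻¹ * (sl P) = 1 := by
    rw [← H50.U3J.sl_mul, inv_mul_cancel, H50.U3J.sl_one]
  have hP' : (sl P⁻¹)ᵀ * Jm F * (sl P⁻¹).map σ = 1 := by
    rw [← hP]
    calc _ = (sl P * sl P⁻¹)ᵀ * (sl P * sl P⁻¹).map σ := by
          simp only [transpose_mul, Matrix.map_mul, Matrix.mul_assoc]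
      _ = 1 := by rw [h1]; simp
  have key : ∀ g : SL(3, F), g ∈ SJ F q ↔ P * g * P⁻¹ ∈ SU 3 F q := by
    intro g
    rw [mem_SU_iff, isIsom_iff]
    show (sl g)ᵀ * Jm F * (sl g).map σ = Jm F ↔
      (sl P * sl g * sl P⁻¹)ᵀ * (sl P * sl g * sl P⁻¹).map σ = 1
    generalize sl P⁻¹ = P' at h1 h2 hP'
    generalize (sl P) = P at hP h1 h2
    generalize (sl g) = g
    have e : (P * g * P')ᵀ * (P * g * P').map σ = P'ᵀ * (gᵀ * Jm F * g.map σ) * P'.map σ := by
      rw [← hP]; simp only [transpose_mul, Matrix.map_mul, Matrix.mul_assoc]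
    rw [e]
    constructor
    · intro h
      rw [h, hP']
    · intro h
      calc _ = (P' * P)ᵀ * (gᵀ * Jm F * g.map σ) * (P' * P).map σ := by rw [h2]; simp
        _ = Pᵀ * (P'ᵀ * (gᵀ * Jm F * g.map σ) * P'.map σ) * P.map σ := by
            simp only [transpose_mul, Matrix.map_mul, Matrix.mul_assoc]
        _ = _ := by rw [h, Matrix.mul_one, hP]
  let ψ : SJ F q →* SU 3 F q :=
    ((MulAut.conj P).toMonoidHom.comp (SJ F q).subtype).codRestrict _ fun g => (key g).1 g.2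
  have hψ : ∀ g, sm (ψ g) = (sl P) * mm g * sl P⁻¹ := fun g => rfl
  refine ⟨(QuotientGroup.mk' _).comp ψ, (QuotientGroup.mk'_surjective _).comp fun g => ?_,
    fun g => ?_, fun β => ?_⟩
  · refine ⟨⟨P⁻¹ * g * P, (key _).2 ?_⟩, Subtype.ext ?_⟩
    · convert g.2 using 1; group
    · show P * (P⁻¹ * g * P) * P⁻¹ = g
      group
  · rw [MonoidHom.comp_apply, QuotientGroup.mk'_apply, QuotientGroup.eq_one_iff,
      mem_center_SU_iff (by norm_num), hψ]
    refine exists_congr fun c => ⟨fun h => ?_, fun h => ?_⟩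
    · calc mm g = sl P⁻¹ * ((sl P) * mm g * sl P⁻¹) * (sl P) := by
            rw [← Matrix.mul_assoc, ← Matrix.mul_assoc, h2, Matrix.mul_assoc, h2]; simp
        _ = _ := by rw [h]; simp [h2]
    · rw [h]; simp [h1]
  obtain ⟨n, hn, e⟩ := exists_two_pow F q
  obtain ⟨δ, φ', φ, ⟨g0, hg0, hδ⟩, hφ, rfl⟩ :=
    S2692.result e hn hF.out le_rfl (by omega) β
  rw [mem_GU_iff, isIsom_iff] at hg0
  have h3 : (sl P).map φ * (sl P⁻¹).map φ = 1 := by rw [← mm_, h1]; simp
  refine ⟨sl P⁻¹ * g0.1 * (sl P).map φ, φ, ?_, fun s s' hs => ?_⟩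
  · calc _ = ((sl P).map φ)ᵀ * (g0.1ᵀ * ((sl P⁻¹)ᵀ * Jm F * (sl P⁻¹).map σ) * g0.1.map σ) *
          ((sl P).map φ).map σ := by simp only [transpose_mul, Matrix.map_mul, Matrix.mul_assoc]
      _ = ((sl P)ᵀ * (sl P).map σ).map φ := by
          rw [hP', Matrix.mul_one, hg0, Matrix.mul_one, mm_, map_map_cj]; rfl
      _ = _ := by rw [hP, map_J]
  · let S : SU 3 F q := ⟨⟨(sm (ψ s)).map φ, by rw [det_map, sm_det, map_one]⟩, by
      refine (isIsom_iff _).2 ?_
      change ((sm (ψ s))ᵀ).map φ * ((sm (ψ s)).map φ).map σ = 1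
      rw [map_map_cj, ← mm_, (isIsom_iff _).1 (sm_isIsom (ψ s))]; simp⟩
    change δ (φ' (QuotientGroup.mk (ψ s))) = QuotientGroup.mk (ψ s')
    rw [hφ (ψ s) S rfl]
    refine hδ S (ψ s') ?_
    change sm (ψ s') = g0.1 * (sm (ψ s)).map φ * (g0⁻¹).1
    rw [hψ, hψ, mm_, mm_]
    calc _ = sl P * (mm s' * (sl P⁻¹ * g0.1 * (sl P).map φ)) * ((sl P⁻¹).map φ * (g0⁻¹).1) := by
          simp only [Matrix.mul_assoc]
          rw [← Matrix.mul_assoc ((sl P).map φ), h3, Matrix.one_mul, Units.mul_inv, Matrix.mul_one]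
      _ = _ := by
          rw [hs]
          simp only [← Matrix.mul_assoc]
          rw [h1, Matrix.one_mul]

/-- the diagonal similitude -/
def Dm (q : ℕ) [Fact (Fintype.card F = q ^ 2)] (l : F) : MM :=
  !![H10.cj F q l, 0, 0; 0, 1, 0; 0, 0, l⁻¹]

theorem un_Dm {l : F} (hl : l ≠ 0) : Un q (Dm q l) := by
  have h2 := (cj_ne_zero (q := q)).2 hl
  ext i j
  fin_cases i <;> fin_cases j <;>
    simp [Dm, Jm, Matrix.mul_apply, Fin.sum_univ_three, H10.cj_cj, hl, h2]

/-- `s'` is the twist of `s` -/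
def Tw (l : F) (φ : F ≃+* F) (s s' : SJ F q) : Prop := mm s' * Dm q l = Dm q l * (mm s).map φ

theorem tw_uu {l : F} (hl : l ≠ 0) (φ : F ≃+* F) (u : UM F q) : Tw l φ (uu u) (uu (sl l φ u)) := by
  ext i j
  rw [mm_uu, mm_uu]
  fin_cases i <;> fin_cases j <;>
    simp [Dm, Matrix.mul_apply, Fin.sum_univ_three, map_cj] <;> field_simp

theorem tri {g : MM} (hg : Un q g) (h1 : g 1 0 = 0) (h2 : g 2 0 = 0) (h3 : g 2 1 = 0) :
    ∃ (w : UM F q) (l c : F), l ≠ 0 ∧ c ≠ 0 ∧ g = c • (mm (uu w) * Dm q l) := by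
  have e := fun i j => congrFun (congrFun hg i) j
  have c02 := e 0 2
  have c11 := e 1 1
  have c12 := e 1 2
  have c22 := e 2 2
  simp [h1, h2, h3, Jm, Matrix.mul_apply, Fin.sum_univ_three] at c02 c11 c12 c22
  have c02' := congrArg σ c02
  have c12' := congrArg σ c12
  simp only [map_mul, map_add, H10.cj_cj, map_one, map_zero] at c02' c12'
  have hb : g 1 1 ≠ 0 := by rintro h; rw [h] at c11; simp at c11
  have ha : σ (g 0 0) ≠ 0 := by rintro h; rw [h] at c02'; simp at c02'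
  refine ⟨⟨g 1 2 * σ (g 0 0), g 0 2 * σ (g 0 0), ?_⟩, g 1 1 * σ (g 0 0), g 1 1,
    mul_ne_zero hb ha, hb, ?_⟩
  · simp only [map_mul, H10.cj_cj]; grind
  · ext i j
    rw [mm_uu]
    fin_cases i <;> fin_cases j <;>
      simp [Dm, h1, h2, h3, Matrix.mul_apply, Fin.sum_univ_three, H10.cj_cj] <;> grind

/-- the embedding of `SL₂(q)` -/
def jj : SL(2, K0 F q) →* SJ F q := MonoidHom.mk' (fun m => mkJ
    !![(m 0 0 : F), 0, (m 0 1 : F); 0, 1, 0; (m 1 0 : F), 0, (m 1 1 : F)] (by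
      have := congrArg (fun x : K0 F q => (x : F)) m.det_coe
      rw [det_fin_two] at this
      push_cast at this
      ext i j
      fin_cases i <;> fin_cases j <;>
        simp [Jm, Matrix.mul_apply, Fin.sum_univ_three, cj_k0] <;> grind) (by
      have := congrArg (fun x : K0 F q => (x : F)) m.det_coe
      rw [det_fin_two] at this
      push_cast at this
      simp [det_fin_three]; grind))
  fun a b => mm_inj (by
    ext i j
    rw [H50.U3J.mul_apply']
    fin_cases i <;> fin_cases j <;> simp [mkJ, mm, H50.U3J.sl, Matrix.mul_apply, Fin.sum_univ_two])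

theorem mm_jj (m : SL(2, K0 F q)) : mm (jj m) =
    !![(m 0 0 : F), 0, (m 0 1 : F); 0, 1, 0; (m 1 0 : F), 0, (m 1 1 : F)] := rfl

theorem exists_jj {s : SJ F q} (h01 : mm s 0 1 = 0) (h10 : mm s 1 0 = 0) (h12 : mm s 1 2 = 0)
    (h21 : mm s 2 1 = 0) (h11 : mm s 1 1 = 1) (h00 : σ (mm s 0 0) = mm s 0 0)
    (h02 : σ (mm s 0 2) = mm s 0 2) (h20 : σ (mm s 2 0) = mm s 2 0)
    (h22 : σ (mm s 2 2) = mm s 2 2) : ∃ m, jj m = s := by
  have hd := mm_det s
  rw [det_fin_three] at hd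
  refine ⟨⟨!![⟨_, h00⟩, ⟨_, h02⟩; ⟨_, h20⟩, ⟨_, h22⟩], ?_⟩, mm_inj ?_⟩
  · rw [det_fin_two]
    apply Subtype.ext
    simp only [h01, h10, h12, h21, h11] at hd
    simp
    linear_combination hd
  · refine (mm_jj _).trans ?_
    ext i j
    fin_cases i <;> fin_cases j <;> simp [*]

theorem tw_jj {l : F} (hl : σ l * l = 1) (m : SL(2, K0 F q)) : Tw l (sg F q) (jj m) (jj m) := by
  have h : l⁻¹ = σ l := inv_eq_of_mul_eq_one_left hl
  ext i j
  rw [mm_jj]
  fin_cases i <;> fin_cases j <;>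
    simp [Dm, Matrix.mul_apply, Fin.sum_univ_three, cj_k0, h, mul_comm]

theorem act_eq (l : Fˣ) (u : UM F q) :
    act l u = sl (σ l * σ l / l) (RingEquiv.refl F) u := by
  have h1 := l.ne_zero
  have h2 := (cj_ne_zero (q := q)).2 h1
  ext
  · simp [act, sq]
  · simp only [act, sl_y, map_div₀, map_mul, H10.cj_cj, RingEquiv.refl_apply]
    field_simp

section

variable {π : SJ F q →* PSU 3 F q} (hπ : ∀ g, π g = 1 ↔ IsSc g)
include hπ

theorem pi_eq {s s' : SJ F q} (h : π s = π s') : ∃ c : F, c ^ 3 = 1 ∧ mm s = c • mm s' := by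
  obtain ⟨c, hc⟩ := (hπ (s * s'⁻¹)).1 (by rw [map_mul, map_inv, h, mul_inv_cancel])
  have := mm_det (s * s'⁻¹)
  rw [hc, det_smul, det_one, mul_one, Fintype.card_fin] at this
  refine ⟨c, this, ?_⟩
  rw [← inv_mul_cancel_right s s', mm_mul, hc, smul_mul_assoc, Matrix.one_mul]

theorem U_inj : Function.Injective (π.comp uu) := by
  rw [injective_iff_map_eq_one]
  intro u hu
  obtain ⟨c, -, hc⟩ := pi_eq hπ (hu.trans (map_one π).symm)
  have e := fun i j => congrFun (congrFun hc i) j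
  have h1 := e 1 2
  have h2 := e 0 2
  simp [mm_uu, mm_one] at h1 h2
  exact UM.ext h1 h2

theorem jj_inj : Function.Injective (π.comp jj) := by
  rw [injective_iff_map_eq_one]
  intro m hm
  obtain ⟨c, -, hc⟩ := pi_eq hπ (hm.trans (map_one π).symm)
  have e := fun i j => congrFun (congrFun hc i) j
  have h1 := e 1 1
  have h2 := e 0 0
  have h3 := e 0 2
  have h4 := e 2 0
  have h5 := e 2 2
  simp [mm_jj, mm_one] at h1 h2 h3 h4 h5
  ext i j
  fin_cases i <;> fin_cases j <;> simp [*]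

/-- the normal form of an automorphism meeting `Q` -/
theorem nf (hl : ∀ β : MulAut (PSU 3 F q), ∃ (g : MM) (φ : F ≃+* F), Un q g ∧
      ∀ s s' : SJ F q, mm s' * g = g * (mm s).map φ → β (π s) = π s')
    (β : MulAut (PSU 3 F q)) {u v : UM F q} (hu : u ≠ 1) (h : β (π (uu u)) = π (uu v)) :
    ∃ w l φ, l ≠ 0 ∧ ∀ s s', Tw l φ s s' → β (π s) = π (uu w) * π s' * (π (uu w))⁻¹ := by
  obtain ⟨b, v', hb, h'⟩ : ∃ (b : K0 F q) (v' : UM F q), b ≠ 0 ∧
      β (π (uu (zz b))) = π (uu v') := by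
    by_cases hx : u.x = 0
    · obtain ⟨b, rfl⟩ := exists_zz hx
      exact ⟨b, v, fun h0 => hu (h0 ▸ zz_zero), h⟩
    · exact ⟨nm q u.x, v * v, fun h0 => hx (nm_eq_zero.1 h0), by
        rw [← um_sq, map_mul, map_mul, map_mul, h, map_mul, map_mul]⟩
  obtain ⟨g, φ, hg, hβ⟩ := hl β
  obtain ⟨s', hs'⟩ := hg.exists_conj φ (uu (zz b))
  obtain ⟨c, hc3, hc⟩ := pi_eq hπ ((hβ _ _ hs').symm.trans h')
  have hv : v' * v' = 1 := U_inj hπ (by
    change π (uu (v' * v')) = π (uu 1)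
    rw [map_mul, map_mul, ← h', ← map_mul, ← map_mul, ← map_mul, ← zz_add, k0_add_self, zz_zero,
      map_one, map_one, map_one])
  obtain ⟨b', rfl⟩ := exists_zz (UM.sq_eq_one_iff.1 hv)
  obtain ⟨g', hg1, hg2⟩ := hg.exists_inv
  have hb0 : φ b ≠ 0 := (map_ne_zero φ).2 fun h0 => hb (Subtype.ext h0)
  have hc1 : c = 1 := by
    have h1 : mm s' = g * (mm (uu (zz b) : SJ F q)).map φ * g' := by
      rw [← hs', Matrix.mul_assoc, hg1, Matrix.mul_one]
    have h2 := congrArg trace h1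
    rw [trace_mul_cycle, hg2, Matrix.one_mul, hc, trace_smul, mm_uu, mm_uu] at h2
    simp [trace, Fin.sum_univ_three] at h2
    grind
  rw [hc, hc1, one_smul, mm_uu, mm_uu] at hs'
  have e := fun i j => congrFun (congrFun hs' i) j
  have e22 := e 2 2
  have e12 := e 1 2
  have e01 := e 0 1
  have e02 := e 0 2
  simp [Matrix.mul_apply, Fin.sum_univ_three, hb0] at e22 e12 e01 e02
  have h21 : g 2 1 = 0 := by
    have := congrFun (congrFun hg 0) 1
    have h0 := congrFun (congrFun hg 0) 2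
    simp [e22, e12, Jm, Matrix.mul_apply, Fin.sum_univ_three] at this h0
    rcases this with h | h
    · rw [h] at h0; simp at h0
    · exact h
  obtain ⟨w, l, d, hl0, hd, rfl⟩ := tri hg e12 e22 h21
  refine ⟨w, l, φ, hl0, fun s s₁ hs => ?_⟩
  rw [← map_inv, ← map_mul, ← map_mul]
  refine hβ _ _ ?_
  rw [Matrix.mul_smul, Matrix.smul_mul, Matrix.mul_assoc (mm (uu w)), ← hs, ← Matrix.mul_assoc,
    ← Matrix.mul_assoc, ← mm_mul, ← mm_mul, inv_mul_cancel_right]

end

theorem nf_sg {w : UM F q} {l l' : F} {φ : F ≃+* F} (hl : σ l * l = 1)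
    (h : ∀ u, w * sl l' φ u * w⁻¹ = sl l (sg F q) u) : l' = l ∧ φ = sg F q ∧ w.x = 0 := by
  have h1 : ∀ x, l' * φ x = l * σ x := fun x => by
    obtain ⟨u, rfl⟩ := exists_um (q := q) x
    have := congrArg UM.x (h u)
    rwa [conj_x] at this
  have h2 : l' = l := by simpa using h1 1
  have h0 : l ≠ 0 := by rintro rfl; simp at hl
  subst h2
  have h3 : φ = sg F q := RingEquiv.ext fun x => mul_left_cancel₀ h0 (h1 x)
  subst h3
  refine ⟨rfl, rfl, UM.mem_center_iff.1 (mem_center_iff.2 fun v => ?_)⟩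
  have h4 := h (sl l' (sg F q) v)
  have h5 : sl l' (sg F q) (sl l' (sg F q) v) = v := by
    ext
    · simp only [sl_x, sg_apply, map_mul, H10.cj_cj]; linear_combination v.x * hl
    · simp only [sl_y, sg_apply, map_mul, H10.cj_cj, hl, one_mul]
  rw [h5, mul_inv_eq_iff_eq_mul] at h4
  exact h4.symm

end ModP

open ModP Matrix in
open H50.U3J hiding sl zz sl_mul sl_one in
theorem exists_pfr (hq : 4 ≤ q) : Nonempty (PFr (PSU 3 F q) F q) := by
  obtain ⟨π, hs, hπ, hl⟩ := exists_lift (F := F) hq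
  obtain ⟨n, hn, e⟩ := exists_two_pow F q
  have z1 : zz (1 : K0 F q) ≠ 1 := fun h => one_ne_zero (zz_inj (h.trans zz_zero.symm))
  have Hact : ∀ (l : Fˣ) u, π (dd l) * π (uu u) * (π (dd l))⁻¹ =
      π (uu (sl (cj F q l * cj F q l / l) (RingEquiv.refl F) u)) := fun l u => by
    rw [← map_inv, ← map_mul, ← map_mul, dd_conj_uu, act_eq]
  have ZL : ∀ b : K0 F q, π (uu (zz b)) ∈ (π.comp jj).range := fun b => by
    obtain ⟨m, hm⟩ := exists_jj (s := uu (zz b)) (map_zero (cj F q)) rfl rfl rfl rfl (map_one _) b.2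
      (map_zero _) (map_one _)
    exact ⟨m, congrArg π hm⟩
  have sgf : ∀ (β : MulAut (PSU 3 F q)) (l : F), cj F q l * l = 1 →
      (∀ u, β (π (uu u)) = π (uu (sl l (sg F q) u))) → ∃ b, ∀ s s', Tw l (sg F q) s s' →
        β (π s) = π (uu (zz b)) * π s' * (π (uu (zz b)))⁻¹ := fun β l h1 h => by
    obtain ⟨w, l', φ, h0, hβ⟩ := nf hπ hl β z1 (h _)
    obtain ⟨rfl, rfl, h2⟩ := nf_sg (w := w) (l' := l') (φ := φ) h1 fun u => U_inj hπ (by
      have := hβ _ _ (tw_uu h0 φ u)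
      rw [h, ← map_inv, ← map_mul, ← map_mul, ← map_inv, ← map_mul, ← map_mul] at this
      exact this.symm)
    obtain ⟨b, rfl⟩ := exists_zz h2
    exact ⟨b, hβ⟩
  refine ⟨{ U := π.comp uu, H := (π.comp dd).range, L := (π.comp jj).range, Uinj := U_inj hπ
            syl := ?_, act := fun β h => ?_, ker := fun β h => ?_, ti := fun β u v hu h u' => ?_
            Hc := isCyclic_of_surjective _ (MonoidHom.rangeRestrict_surjective _)
            Hodd := ?_, Hact := ?_, Hex := fun k hk => ?_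
            Le := ⟨(MonoidHom.ofInjective (jj_inj hπ)).symm⟩, ZL := ZL, HL := fun l h0 => ?_
            H1L := ?_, fL := fun β l h1 h => ?_, Lmax := fun β l h1 h hL m hm => ?_ }⟩
  · obtain ⟨P⟩ := (inferInstance : Nonempty (Sylow 2 (PSU 3 F q)))
    obtain ⟨f⟩ := H20.sylow_equiv_UM_even e P
    have f' := MonoidHom.ofInjective (U_inj hπ)
    exact (H91.sylIn_top P).of_card_le le_top (IsPGroup.of_equiv (fun a => ⟨2, H20.um_pow_four a⟩) f')
      (by rw [← Nat.card_congr f.toEquiv, ← Nat.card_congr f'.toEquiv])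
  · obtain ⟨v, hv⟩ := h (zz 1)
    obtain ⟨w, l, φ, h0, hβ⟩ := nf hπ hl β z1 hv
    exact ⟨w, l, φ, h0, fun u => by rw [map_mul, map_mul, map_inv]; exact hβ _ _ (tw_uu h0 φ u)⟩
  · obtain ⟨v, hv, -⟩ := h (zz 1)
    obtain ⟨w, l, φ, h0, hβ⟩ := nf hπ hl β z1 hv
    have h1 : ∀ x, l * φ x = x := fun x => by
      obtain ⟨u, rfl⟩ := exists_um (q := q) x
      obtain ⟨v, h2, h3⟩ := h u
      have := hβ _ _ (tw_uu h0 φ u)
      rw [← map_inv, ← map_mul, ← map_mul, ← map_inv, ← map_mul, ← map_mul] at this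
      rw [U_inj hπ (h2.symm.trans this), conj_x, sl_x] at h3
      exact h3
    have h2 : l = 1 := by simpa using h1 1
    subst h2
    refine ⟨w, fun m => ?_⟩
    obtain ⟨s, rfl⟩ := hs m
    refine hβ s s ?_
    have h3 : (mm s).map φ = mm s := by ext i j; simpa using h1 (mm s i j)
    have h4 : Dm q (1 : F) = 1 := by
      ext i j; fin_cases i <;> fin_cases j <;> simp [Dm]
    rw [Tw, h3, h4, Matrix.mul_one, Matrix.one_mul]
  · obtain ⟨w, l, φ, h0, hβ⟩ := nf hπ hl β hu h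
    exact ⟨w * sl l φ u' * w⁻¹, by
      rw [map_mul, map_mul, map_inv]; exact hβ _ _ (tw_uu h0 φ u')⟩
  · refine Odd.of_dvd_nat ?_ (card_range_dvd (π.comp dd))
    rw [Nat.card_units, Nat.card_eq_fintype_card, hF.out, e, ← pow_mul]
    exact Nat.Even.sub_odd (Nat.one_le_two_pow) (Nat.even_pow.2 ⟨even_two, by omega⟩) odd_one
  · rintro _ ⟨l, rfl⟩
    have h2 := (cj_ne_zero (q := q)).2 l.ne_zero
    exact ⟨_, div_ne_zero (mul_ne_zero h2 h2) l.ne_zero, Hact l⟩
  · refine ⟨_, ⟨Units.mk0 _ ((cj_ne_zero (q := q)).2 hk), rfl⟩, fun u => ?_⟩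
    have := Hact (Units.mk0 _ ((cj_ne_zero (q := q)).2 hk)) u
    rw [Units.val_mk0, H10.cj_cj] at this
    exact this
  · have h1 : (l : F) ≠ 0 := fun h => h0 (Subtype.ext h)
    refine ⟨_, ⟨Units.mk0 _ h1, rfl⟩, ?_, fun u => ?_⟩
    · obtain ⟨m, hm⟩ := exists_jj (s := dd (Units.mk0 _ h1)) rfl rfl rfl rfl
        (by simp [mm_dd, cj_k0, h1]) l.2 (map_zero _) (map_zero _) (by simp [mm_dd, cj_k0])
      exact ⟨m, congrArg π hm⟩
    · have := Hact (Units.mk0 _ h1) u
      rw [Units.val_mk0, cj_k0, mul_div_cancel_right₀ _ h1] at this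
      exact this
  · rintro _ ⟨l, rfl⟩ h _ ⟨m, rfl⟩
    have h1 := Hact l (zz 1)
    have h2 : π (dd l) * π (uu (zz 1)) = π (uu (zz 1)) * π (dd l) := h 1
    rw [h2, mul_inv_cancel_right] at h1
    have h3 := congrArg UM.y (U_inj hπ h1)
    have h4 := l.ne_zero
    have h5 := (cj_ne_zero (q := q)).2 h4
    simp only [zz_y, sl_y, map_div₀, map_mul, H10.cj_cj, RingEquiv.refl_apply, OneMemClass.coe_one] at h3
    have h6 : (cj F q l)⁻¹ = l := by field_simp at h3 ⊢; grind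
    change π (dd l) * π (jj m) = π (jj m) * π (dd l)
    rw [← map_mul, ← map_mul]
    congr 1
    apply mm_inj
    ext i j
    rw [H50.U3J.mul_apply', H50.U3J.mul_apply', mm_dd, mm_jj, h6]
    fin_cases i <;> fin_cases j <;> simp [mul_comm]
  · obtain ⟨b, hb⟩ := sgf β l h1 h
    refine ⟨b, fun x hx => ?_⟩
    obtain ⟨m, hm⟩ := mul_mem (mul_mem (ZL b) hx) (inv_mem (ZL b))
    have h2 := hb _ _ (tw_jj h1 m)
    have h3 : π (uu (zz b)) * π (uu (zz b)) = 1 := by
      rw [← map_mul, ← map_mul, ← zz_add, k0_add_self, zz_zero, map_one, map_one]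
    change π (jj m) = _ at hm
    rw [hm] at h2
    refine h2.trans ?_
    calc _ = (π (uu (zz b)) * π (uu (zz b))) * x * (π (uu (zz b)) * π (uu (zz b)))⁻¹ := by group
      _ = x := by rw [h3]; group
  · obtain ⟨b, hb⟩ := sgf β l h1 h
    have hi : l⁻¹ = cj F q l := inv_eq_of_mul_eq_one_left h1
    have h0 : l ≠ 0 := by rintro rfl; simp at h1
    have h0' := (cj_ne_zero (q := q)).2 h0
    obtain ⟨m0, hm0⟩ := exists_jj (s := (tt : SJ F q)) rfl rfl rfl rfl rfl (map_zero _) (map_one _)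
      (map_one _) (map_zero _)
    have h2 := hb _ _ (tw_jj h1 m0)
    have h2' : β (π (jj m0)) = π (jj m0) := hL _ ⟨m0, rfl⟩
    rw [h2', hm0, eq_mul_inv_iff_mul_eq, ← map_mul, ← map_mul] at h2
    obtain ⟨c, -, hc⟩ := pi_eq hπ h2
    have h3 := congrFun (congrFun hc 2) 2
    simp [tt_mul_apply, mul_tt_apply, mm_uu, Fin.rev] at h3
    obtain ⟨s, rfl⟩ := hs m
    obtain ⟨s', hs'⟩ := (un_Dm h0).exists_conj (sg F q) s
    have h4 := hb s s' hs'
    rw [hm, h3, zz_zero, map_one, map_one, one_mul, inv_one, mul_one] at h4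
    obtain ⟨c, hc3, hc⟩ := pi_eq hπ h4.symm
    rw [hc] at hs'
    have e := fun i j => congrFun (congrFun hs' i) j
    have e00 := e 0 0
    have e02 := e 0 2
    have e20 := e 2 0
    have e22 := e 2 2
    have e11 := e 1 1
    simp [Dm, hi, Matrix.mul_apply, Fin.sum_univ_three] at e00 e02 e20 e22 e11
    have f00 : cj F q (mm s 0 0) = c * mm s 0 0 := mul_left_cancel₀ h0' (by grind)
    have f02 : cj F q (mm s 0 2) = c * mm s 0 2 := mul_left_cancel₀ h0' (by grind)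
    have f20 : cj F q (mm s 2 0) = c * mm s 2 0 := mul_left_cancel₀ h0' (by grind)
    have f22 : cj F q (mm s 2 2) = c * mm s 2 2 := mul_left_cancel₀ h0' (by grind)
    have c00 := col s 0 0
    have c22 := col s 2 2
    have c11 := col s 1 1
    have r00 := col s⁻¹ 0 0
    have r22 := col s⁻¹ 2 2
    simp only [inv_apply', H10.cj_cj] at r00 r22
    simp [Jm, Fin.rev, f00, f02, f20, f22] at c00 c22 c11 r00 r22
    have nz : ∀ x : F, x * cj F q x = 0 → x = 0 := fun x hx =>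
      (mul_eq_zero.1 hx).elim id cj_eq_zero.1
    have g10 : mm s 1 0 = 0 := nz _ (by grind)
    have g12 : mm s 1 2 = 0 := nz _ (by grind)
    have g21 : mm s 2 1 = 0 := nz _ (by grind)
    have g01 : mm s 0 1 = 0 := nz _ (by grind)
    simp only [g01, g21, zero_mul, zero_add, add_zero, ← e11] at c11
    have hc0 : c * mm s 1 1 ≠ 0 := fun h => by rw [mul_left_comm, ← mul_assoc] at c11; grind
    have k1 : (c * mm s 1 1) * cj F q (c * mm s 1 1) = 1 := by
      rw [e11, H10.cj_cj, ← e11]; grind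
    have k3 : (c * mm s 1 1) ^ 3 = 1 := eq_one_of_pow (k := 1) (by grind)
    have hsc := isSc_dd (q := q) (l := Units.mk0 _ hc0) k1 k3
    obtain ⟨d, hd⟩ := id hsc
    have hd0 : c * mm s 1 1 = d :=
      (congrFun (congrFun hd 0) 0).trans (by rw [Matrix.smul_apply, one_apply_eq, smul_eq_mul, mul_one])
    have hds : ∀ i j, mm (dd (Units.mk0 _ hc0) * s) i j = d * mm s i j := fun i j => by
      rw [mm_mul, hd]; simp
    have hd1 : cj F q d = mm s 1 1 := by rw [← hd0, e11, H10.cj_cj]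
    obtain ⟨m, hm⟩ := exists_jj (s := dd (Units.mk0 _ hc0) * s) (by rw [hds, g01, mul_zero])
      (by rw [hds, g10, mul_zero]) (by rw [hds, g12, mul_zero]) (by rw [hds, g21, mul_zero])
      (by rw [hds, ← hd0, mul_comm, c11]) (by rw [hds, map_mul, hd1, f00, ← hd0]; ring)
      (by rw [hds, map_mul, hd1, f02, ← hd0]; ring) (by rw [hds, map_mul, hd1, f20, ← hd0]; ring)
      (by rw [hds, map_mul, hd1, f22, ← hd0]; ring)
    refine ⟨m, ?_⟩
    change π (jj m) = _
    rw [hm, map_mul, (hπ _).2 hsc, one_mul]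

end Cfsg.Agent.GMS
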