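import Cfsg.Agent.GMS.FldB

set_option autoImplicit false
set_option linter.unusedSectionVars false

namespace Cfsg.Agent.GMS

open Subgroup H10 H91
open H42 hiding SylIn

variable {G : Type*} [Group G] [Finite G] {F : Type*} [Field F] [Fintype F] [CharP F 2] {q : ℕ}
  [hF : Fact (Fintype.card F = q ^ 2)]

namespace PQ

variable (p : PQ G F q)

theorem W_le : p.W ≤ p.Y := fun _ h => h.1
theorem kW (j : Bool) {w w' : G} (hw : w ∈ p.W) (hw' : w' ∈ p.W) :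
    p.k j (w * w') = p.k j w + p.k j w' := p.k_mul j w hw.1 hw.2 w' hw'.1 hw'.2
theorem k_one (j : Bool) : p.k j 1 = 0 := by
  have := p.kW j (one_mem _) (one_mem _)
  rwa [mul_one, left_eq_add] at this
theorem cW {w y : G} (hw : w ∈ p.W) (hy : y ∈ p.Y) : w * y = y * w := p.cen w hw.1 hw.2 y hy
theorem sq_mem {y : G} (hy : y ∈ p.Y) : y * y ∈ p.W :=
  ⟨mul_mem hy hy, fun j => by rw [p.x_mul j _ hy _ hy, CharTwo.add_self_eq_zero]⟩
theorem W_sq {w : G} (hw : w ∈ p.W) : w * w = 1 :=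
  p.ker _ (mul_mem hw.1 hw.1) (p.sq_mem hw.1).2 fun j => by rw [p.sq w hw.1, hw.2, nm_zero]
theorem W_inv {w : G} (hw : w ∈ p.W) : w⁻¹ = w := inv_eq_of_mul_eq_one_right (p.W_sq hw)
theorem S_le : p.S ≤ normalizer (p.Y : Set G) := p.syl.le
theorem cjY {g y : G} (hg : g ∈ normalizer (p.Y : Set G)) (hy : y ∈ p.Y) : g * y * g⁻¹ ∈ p.Y :=
  (hg y).1 hy
theorem x_conj (j : Bool) {u y : G} (hu : u ∈ p.Y) (hy : y ∈ p.Y) :
    p.x j (u * y * u⁻¹) = p.x j y := by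
  rw [p.x_mul j _ (mul_mem hu hy) _ (inv_mem hu), p.x_mul j _ hu _ hy, p.x_inv j hu, add_comm,
    ← add_assoc, CharTwo.add_self_eq_zero, zero_add]

theorem comm {y y' : G} (hy : y ∈ p.Y) (hy' : y' ∈ p.Y) : y * y' * y⁻¹ * y'⁻¹ ∈ p.W ∧
    ∀ j, p.k j (y * y' * y⁻¹ * y'⁻¹) = cm q (p.x j y) (p.x j y') := by
  have h1 : y * y' * y⁻¹ ∈ p.Y := mul_mem (mul_mem hy hy') (inv_mem hy)
  have hc : y * y' * y⁻¹ * y'⁻¹ ∈ p.W := ⟨mul_mem h1 (inv_mem hy'), fun j => by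
    rw [p.x_mul j _ h1 _ (inv_mem hy'), p.x_conj j hy hy', p.x_inv j hy',
      CharTwo.add_self_eq_zero]⟩
  refine ⟨hc, fun j => ?_⟩
  have e : y * y * (y' * y') = y * y' * y⁻¹ * y'⁻¹ * (y * y' * (y * y')) := by
    calc _ = y * (y * y' * y⁻¹ * y'⁻¹) * (y' * y * y') := by group
      _ = _ := by rw [← p.cW hc hy]; group
  have h2 := congrArg (p.k j) e
  rw [p.kW j (p.sq_mem hy) (p.sq_mem hy'), p.kW j hc (p.sq_mem (mul_mem hy hy')), p.sq _ hy,
    p.sq _ hy', p.sq _ (mul_mem hy hy'), p.x_mul j _ hy _ hy', nm_add] at h2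
  exact CharTwo.add_eq_zero.1 (by linear_combination -h2)
theorem W_ext {w w' : G} (hw : w ∈ p.W) (hw' : w' ∈ p.W) (h : ∀ j, p.k j w = p.k j w') :
    w = w' := by
  have := p.ker _ (mul_mem hw hw').1 (mul_mem hw hw').2 fun j => by
    rw [p.kW j hw hw', h, k0_add_self]
  rw [← p.W_inv hw']; exact eq_inv_of_mul_eq_one_left this
theorem sq_iff {y : G} (hy : y ∈ p.Y) : y * y = 1 ↔ y ∈ p.W :=
  ⟨fun h => ⟨hy, fun j => nm_eq_zero.1 (by rw [← p.sq y hy, h, p.k_one])⟩, p.W_sq⟩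
theorem cjW {g w : G} (hg : g ∈ normalizer (p.Y : Set G)) (hw : w ∈ p.W) : g * w * g⁻¹ ∈ p.W :=
  (p.sq_iff (p.cjY hg hw.1)).1 (by rw [conj_mul, p.W_sq hw]; group)
theorem nrm_W {g : G} (hg : g ∈ normalizer (p.Y : Set G)) : g ∈ normalizer (p.W : Set G) :=
  mem_normalizer_of_conj_mem fun _ hw => p.cjW hg hw
theorem comm_of {y y' : G} (hy : y ∈ p.Y) (hy' : y' ∈ p.Y)
    (h : ∀ j, cm q (p.x j y) (p.x j y') = 0) : y * y' = y' * y := by
  have := p.W_ext (p.comm hy hy').1 (one_mem _) fun j => by rw [(p.comm hy hy').2, h, p.k_one]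
  rwa [mul_inv_eq_one, mul_inv_eq_iff_eq_mul] at this
theorem exY (j : Bool) (v : F) : ∃ y ∈ p.Y, p.x j y = v ∧ p.x (!j) y = 0 := by
  obtain ⟨y, hy, h⟩ := p.surj fun i => if i = j then v else 0
  exact ⟨y, hy, by simp [h], by simp [h]⟩
theorem exW (j : Bool) (m : K0 F q) : ∃ w ∈ p.W, p.k j w = m ∧ p.k (!j) w = 0 := by
  obtain ⟨y, hy, h0, h⟩ := p.surjW fun i => if i = j then m else 0
  exact ⟨y, ⟨hy, h0⟩, by simp [h], by simp [h]⟩
theorem both {P : Bool → Prop} (j : Bool) (h1 : P j) (h2 : P (!j)) (i : Bool) : P i := by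
  cases i <;> cases j <;> assumption

theorem act_zero {g y : G} (hg : g ∈ normalizer (p.Y : Set G)) (hy : y ∈ p.Y) {j : Bool}
    (h : p.x j y = 0) : ∃ i, p.x i (g * y * g⁻¹) = 0 := by
  by_contra hh
  push Not at hh
  obtain ⟨w, hw, h1, -⟩ := p.exW j 1
  choose v hv using fun i => cm_surj (hh i) (p.k i (g * w * g⁻¹))
  obtain ⟨u, hu, e⟩ := p.surj v
  have h2 := p.comm (p.cjY hg hy) hu
  have h3 := p.W_ext h2.1 (p.cjW hg hw) fun i => by rw [h2.2, e, hv]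
  have hu' : g⁻¹ * u * g⁻¹⁻¹ ∈ p.Y := p.cjY (inv_mem hg) hu
  have h4 := (p.comm hy hu').2 j
  rw [h, cm_zero_left, show y * (g⁻¹ * u * g⁻¹⁻¹) * y⁻¹ * (g⁻¹ * u * g⁻¹⁻¹)⁻¹ =
    g⁻¹ * (g * y * g⁻¹ * u * (g * y * g⁻¹)⁻¹ * u⁻¹) * g by group, h3,
    show g⁻¹ * (g * w * g⁻¹) * g = w by group, h1] at h4
  exact one_ne_zero h4

theorem act_of {g : G} (hg : g ∈ normalizer (p.Y : Set G)) {π : Bool → Bool}
    (hπ : ∀ j, π (!j) = !π j) (h : ∀ y ∈ p.Y, ∀ j, p.x j y = 0 → p.x (π j) (g * y * g⁻¹) = 0) :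
    ∃ l φ, p.Act g π l φ := by
  choose u hu u1 u2 using p.exY
  choose z hz z1 z2 using p.exW
  have ha : ∀ j, ∀ y ∈ p.Y, p.x (π j) (g * y * g⁻¹) = p.x (π j) (g * u j (p.x j y) * g⁻¹) := by
    intro j y hy
    have := h _ (mul_mem hy (hu j (p.x j y))) j (by
      rw [p.x_mul j _ hy _ (hu _ _), u1, CharTwo.add_self_eq_zero])
    rwa [← conj_mul, p.x_mul _ _ (p.cjY hg hy) _ (p.cjY hg (hu _ _)), CharTwo.add_eq_zero] at this
  have hk : ∀ j, ∀ w ∈ p.W, p.k (π j) (g * w * g⁻¹) = p.k (π j) (g * z j (p.k j w) * g⁻¹) := by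
    intro j w hw
    have hw' := mul_mem hw (hz j (p.k j w))
    obtain ⟨a, e⟩ := nm_surj (p.k (!j) (w * z j (p.k j w)))
    have e1 : w * z j (p.k j w) = u (!j) a * u (!j) a :=
      p.W_ext hw' (p.sq_mem (hu _ _)) (both j (by
        have := u2 (!j) a
        rw [Bool.not_not] at this
        rw [p.kW j hw (hz _ _), z1, k0_add_self, p.sq _ (hu _ _), this, nm_zero])
        (by rw [p.sq _ (hu _ _), u1, e]))
    have := p.sq _ (p.cjY hg (hu (!j) a)) (π j)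
    rwa [h _ (hu _ _) j (by simpa using u2 (!j) a), nm_zero, conj_mul, ← e1, ← conj_mul,
      p.kW _ (p.cjW hg hw) (p.cjW hg (hz _ _)), CharTwo.add_eq_zero] at this
  have := fun j => semi (fun v => p.x (π j) (g * u j v * g⁻¹)) (fun m => p.k (π j) (g * z j m * g⁻¹))
    (fun v v' => by
      have := ha j _ (mul_mem (hu j v) (hu j v'))
      rw [p.x_mul j _ (hu _ _) _ (hu _ _), u1, u1] at this
      rw [← this, ← conj_mul, p.x_mul _ _ (p.cjY hg (hu _ _)) _ (p.cjY hg (hu _ _))])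
    (fun m m' => by
      have := hk j _ (mul_mem (hz j m) (hz j m'))
      rw [p.kW j (hz _ _) (hz _ _), z1, z1] at this
      rw [← this, ← conj_mul, p.kW _ (p.cjW hg (hz _ _)) (p.cjW hg (hz _ _))])
    (fun v => by
      have := hk j _ (p.sq_mem (hu j v))
      rw [p.sq _ (hu _ _), u1] at this
      rw [← this, ← conj_mul, p.sq _ (p.cjY hg (hu _ _))])
    (fun e => by
      have h1 : g * u j 1 * g⁻¹ ∈ p.W :=
        ⟨p.cjY hg (hu _ _), both (π j) e (hπ j ▸ h _ (hu _ _) _ (u2 _ _))⟩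
      have h2 := (((p.nrm_W hg) _).2 h1).2 j
      rw [u1] at h2
      exact one_ne_zero h2)
  choose l φ h1 h2 h3 using this
  exact ⟨l, φ, h1, fun y hy j => by rw [ha j y hy, h2], fun w hw j => by rw [hk j w hw, h3]⟩

theorem act {g : G} (hg : g ∈ normalizer (p.Y : Set G)) :
    ∃ l φ, p.Act g id l φ ∨ p.Act g not l φ := by
  have h1 : ∀ j, ∃ i, ∀ y ∈ p.Y, p.x j y = 0 → p.x i (g * y * g⁻¹) = 0 := fun j => by
    by_contra hh
    push Not at hh
    obtain ⟨a, ha, a1, a2⟩ := hh false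
    obtain ⟨b, hb, b1, b2⟩ := hh true
    have a3 : p.x true (g * a * g⁻¹) = 0 := by
      obtain ⟨i, hi⟩ := p.act_zero hg ha a1
      cases i; exacts [absurd hi a2, hi]
    have b3 : p.x false (g * b * g⁻¹) = 0 := by
      obtain ⟨i, hi⟩ := p.act_zero hg hb b1
      cases i; exacts [hi, absurd hi b2]
    obtain ⟨i, hi⟩ := p.act_zero hg (mul_mem ha hb) (j := j)
      (by rw [p.x_mul j _ ha _ hb, a1, b1, add_zero])
    rw [← conj_mul, p.x_mul i _ (p.cjY hg ha) _ (p.cjY hg hb)] at hi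
    cases i
    · exact a2 (by rwa [b3, add_zero] at hi)
    · exact b2 (by rwa [a3, zero_add] at hi)
  choose π hπ using h1
  have hne : π false ≠ π true := fun e => by
    obtain ⟨y, hy, y1, -⟩ := p.exY (π true) 1
    have hy' : g⁻¹ * y * g⁻¹⁻¹ ∈ p.Y := p.cjY (inv_mem hg) hy
    obtain ⟨a, ha, a1, a2⟩ := p.exY true (p.x true (g⁻¹ * y * g⁻¹⁻¹))
    have h2 := hπ true _ (mul_mem hy' ha) (by
      rw [p.x_mul _ _ hy' _ ha, a1, CharTwo.add_self_eq_zero])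
    rw [← conj_mul, p.x_mul _ _ (p.cjY hg hy') _ (p.cjY hg ha), ← e, hπ false a ha a2, add_zero,
      show g * (g⁻¹ * y * g⁻¹⁻¹) * g⁻¹ = y by group, e, y1] at h2
    exact one_ne_zero h2
  have e : π = id ∨ π = not := by
    cases h1 : π false <;> cases h2 : π true
    · exact absurd (h1.trans h2.symm) hne
    · exact Or.inl (funext (both false h1 h2))
    · exact Or.inr (funext (both false h1 h2))
    · exact absurd (h1.trans h2.symm) hne
  rcases e with rfl | rfl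
  · obtain ⟨l, φ, h⟩ := p.act_of hg (π := id) (fun _ => rfl) fun y hy j => hπ j y hy
    exact ⟨l, φ, Or.inl h⟩
  · obtain ⟨l, φ, h⟩ := p.act_of hg (π := not) (fun _ => rfl) fun y hy j => hπ j y hy
    exact ⟨l, φ, Or.inr h⟩

variable {p} in
theorem Act.mul {g g' : G} {π π' : Bool → Bool} {l l' : Bool → F} {φ φ' : Bool → F ≃+* F}
    (h : p.Act g π l φ) (h' : p.Act g' π' l' φ') (hg' : g' ∈ normalizer (p.Y : Set G)) :
    p.Act (g * g') (π ∘ π') (fun j => l (π' j) * φ (π' j) (l' j))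
      fun j => (φ' j).trans (φ (π' j)) := by
  have e : ∀ y, g * g' * y * (g * g')⁻¹ = g * (g' * y * g'⁻¹) * g⁻¹ := fun y => by group
  refine ⟨fun j => mul_ne_zero (h.1 _) ((map_ne_zero _).2 (h'.1 j)), fun y hy j => ?_,
    fun w hw j => ?_⟩
  · rw [e, Function.comp, h.2.1 _ (p.cjY hg' hy), h'.2.1 y hy, map_mul, mul_assoc]; rfl
  · rw [e, Function.comp, h.2.2 _ (p.cjW hg' hw), h'.2.2 w hw, kf_mul, kf_nm, nm_mul, mul_assoc,
      kf_trans]

theorem act_Y {y : G} (hy : y ∈ p.Y) : p.Act y id (fun _ => 1) fun _ => RingEquiv.refl F :=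
  ⟨fun _ => one_ne_zero, fun u hu j => by simp [p.x_conj j hy hu], fun w hw j => by
    simp [← p.cW hw hy]⟩

variable {p} in
theorem Act.not_ns {g : G} {l : Bool → F} {φ : Bool → F ≃+* F} (h : p.Act g not l φ) :
    ¬ p.NS g := fun ⟨l', φ', h'⟩ => by
  obtain ⟨y, hy, y1, y2⟩ := p.exY false 1
  have h1 := h.2.1 y hy true
  have h2 := h'.2.1 y hy false
  simp only [Bool.not_true, id, Bool.not_false] at h1 h2 y2
  rw [h1, y1, y2] at h2
  exact h'.1 false (by simpa using h2.symm)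

theorem act_not {g : G} (hg : g ∈ normalizer (p.Y : Set G)) (h : ¬ p.NS g) :
    ∃ l φ, p.Act g not l φ := by
  obtain ⟨l, φ, h1⟩ := p.act hg
  exact ⟨l, φ, h1.resolve_left fun h2 => h ⟨l, φ, h2⟩⟩

theorem ns_mul {g g' : G} (hg : g ∈ normalizer (p.Y : Set G)) (hg' : g' ∈ normalizer (p.Y : Set G))
    (h : ¬ p.NS g) (h' : ¬ p.NS g') : p.NS (g * g') := by
  obtain ⟨l, φ, h1⟩ := p.act_not hg h
  obtain ⟨l', φ', h2⟩ := p.act_not hg' h'
  have := h1.mul h2 hg'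
  rw [show not ∘ not = id from funext Bool.not_not] at this
  exact ⟨_, _, this⟩

/-- a 2-element acting as a scalar acts trivially -/
theorem scal {g : G} (hg : g ∈ p.S) {j : Bool} {m : F}
    (h : ∀ y ∈ p.Y, p.x j (g * y * g⁻¹) = m * p.x j y) : m = 1 := by
  have h1 : ∀ n : ℕ, ∀ y ∈ p.Y, p.x j (g ^ n * y * (g ^ n)⁻¹) = m ^ n * p.x j y := fun n => by
    induction n with
    | zero => simp
    | succ n ih =>
      intro y hy
      rw [show g ^ (n + 1) * y * (g ^ (n + 1))⁻¹ = g ^ n * (g * y * g⁻¹) * (g ^ n)⁻¹ by group,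
        ih _ (p.cjY (p.S_le hg) hy), h y hy, pow_succ, mul_assoc]
  obtain ⟨k, hk⟩ := p.syl.isPGroup ⟨g, hg⟩
  obtain ⟨y, hy, y1, -⟩ := p.exY j 1
  have := h1 (2 ^ k) y hy
  rw [show g ^ 2 ^ k = 1 from congrArg Subtype.val hk] at this
  exact eq_one_of_pow (k := k) (by simpa [y1] using this.symm)

/-- the elements of `S` not swapping the factors form a subgroup of index at most two whose
commutators lie in `Y` -/
theorem exists_S0 : ∃ S₀ : Subgroup G, (∀ g, g ∈ S₀ ↔ g ∈ p.S ∧ p.NS g) ∧ p.Y ≤ S₀ ∧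
    (∀ g ∈ p.S, ∀ g' ∈ p.S, g ∉ S₀ → g' ∉ S₀ → g * g' ∈ S₀) ∧
    ∀ g ∈ S₀, ∀ g' ∈ S₀, g * g' * g⁻¹ * g'⁻¹ ∈ p.Y := by
  refine ⟨{ carrier := {g | g ∈ p.S ∧ p.NS g}
            one_mem' := ⟨one_mem _, _, _, p.act_Y (one_mem _)⟩
            mul_mem' := fun ⟨a, _, _, h⟩ ⟨b, _, _, h'⟩ => ⟨mul_mem a b, _, _, h.mul h' (p.S_le b)⟩
            inv_mem' := fun {g} ⟨a, _, _, h⟩ => ⟨inv_mem a, by_contra fun hn => ?_⟩ },
    fun _ => Iff.rfl, fun y hy => ⟨p.YS hy, _, _, p.act_Y hy⟩, fun g hg g' hg' h h' =>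
      ⟨mul_mem hg hg', p.ns_mul (p.S_le hg) (p.S_le hg') (fun e => h ⟨hg, e⟩) fun e => h' ⟨hg', e⟩⟩,
    fun g ⟨hg, l, φ, h⟩ g' ⟨hg', l', φ', h'⟩ => ?_⟩
  · obtain ⟨l', φ', h'⟩ := p.act_not (inv_mem (p.S_le a)) hn
    have := h.mul h' (inv_mem (p.S_le a))
    rw [mul_inv_cancel] at this
    exact Act.not_ns this ⟨_, _, p.act_Y (one_mem _)⟩
  have hc := mul_mem (mul_mem (mul_mem hg hg') (inv_mem hg)) (inv_mem hg')
  have h1 := h.mul h' (p.S_le hg')
  have h2 := h'.mul h (p.S_le hg)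
  have key : ∀ j, ∀ y ∈ p.Y, p.x j (g * g' * g⁻¹ * g'⁻¹ * y * (g * g' * g⁻¹ * g'⁻¹)⁻¹) =
      l j * φ j (l' j) / (l' j * φ' j (l j)) * p.x j y := fun j y hy => by
    have hy' := p.cjY (inv_mem (p.S_le (mul_mem hg' hg))) hy
    have e1 := h1.2.1 _ hy' j
    have e2 := h2.2.1 _ hy' j
    simp only [Function.comp, id, RingEquiv.trans_apply] at e1 e2
    rw [show g' * g * ((g' * g)⁻¹ * y * (g' * g)⁻¹⁻¹) * (g' * g)⁻¹ = y by group] at e2
    rw [show g * g' * g⁻¹ * g'⁻¹ * y * (g * g' * g⁻¹ * g'⁻¹)⁻¹ =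
      g * g' * ((g' * g)⁻¹ * y * (g' * g)⁻¹⁻¹) * (g * g')⁻¹ by group, e1, e2, aut_comm (φ j),
      ← mul_assoc (_ / _), div_mul_cancel₀ _ (show l' j * φ' j (l j) ≠ 0 from h2.1 j)]
  exact p.faith _ hc fun y hy j => by rw [key j y hy, p.scal hc (key j), one_mul]
/-- an element fixing a non-trivial element of a factor of `W` does not swap -/
theorem ns_of_fix {g w : G} (hg : g ∈ normalizer (p.Y : Set G)) (hw : w ∈ p.W) (h1 : w ≠ 1)
    {j : Bool} (hj : p.k j w = 0) (h : g * w = w * g) : p.NS g := by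
  by_contra hn
  obtain ⟨l, φ, h2⟩ := p.act_not hg hn
  have := h2.2.2 w hw j
  rw [h, mul_inv_cancel_right, hj, kf_zero, mul_zero] at this
  exact h1 (p.ker w hw.1 hw.2 (both j hj this))
/-- types: non-swapping elements of `S` with square in `Y`, or centralizing `W` -/
theorem types {g : G} (hg : g ∈ p.S) {l : Bool → F} {φ : Bool → F ≃+* F} (h : p.Act g id l φ)
    (h2 : g * g ∈ p.Y ∨ ∀ w ∈ p.W, g * w = w * g) : (∀ w ∈ p.W, g * w = w * g) ∧
    ∀ j, (l j = 1 ∧ φ j = RingEquiv.refl F) ∨ (nm q (l j) = 1 ∧ φ j = sg F q) := by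
  have key : ∀ j, (l j = 1 ∧ φ j = RingEquiv.refl F) ∨ (nm q (l j) = 1 ∧ φ j = sg F q) := by
    intro j
    have sc : φ j = RingEquiv.refl F → l j = 1 := fun e =>
      p.scal hg (j := j) fun y hy => by simpa [e] using h.2.1 y hy j
    rcases h2 with h2 | h2
    · have h3 : ∀ v, l j * φ j (l j) * φ j (φ j v) = v := fun v => by
        obtain ⟨y, hy, rfl, -⟩ := p.exY j v
        exact ((h.mul h (p.S_le hg)).2.1 y hy j).symm.trans (p.x_conj j h2 hy)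
      have h4 : l j * φ j (l j) = 1 := by simpa using h3 1
      refine (aut_sq (q := q) fun v => by simpa [h4] using h3 v).imp (fun e => ⟨sc e, e⟩)
        fun e => ⟨k0_ext ?_, e⟩
      rw [e] at h4
      simpa [mul_comm] using h4
    · have h3 : ∀ m, nm q (l j) * kf (φ j) m = m := fun m => by
        obtain ⟨w, hw, rfl, -⟩ := p.exW j m
        have := h.2.2 w hw j
        rw [h2 w hw, mul_inv_cancel_right] at this
        exact this.symm
      have h4 : nm q (l j) = 1 := by simpa using h3 1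
      exact (aut_k0 fun v => by simpa [h4] using h3 v).imp (fun e => ⟨sc e, e⟩) fun e => ⟨h4, e⟩
  refine ⟨fun w hw => mul_inv_eq_iff_eq_mul.1 (p.W_ext (p.cjW (p.S_le hg) hw) hw fun j => ?_), key⟩
  have := h.2.2 w hw j
  rcases key j with ⟨e1, e2⟩ | ⟨e1, e2⟩ <;> simpa [e1, e2] using this

end PQ

end Cfsg.Agent.GMS
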