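import Cfsg.Agent.GMS.PQ1

set_option autoImplicit false
set_option linter.unusedSectionVars false

namespace Cfsg.Agent.GMS

open Subgroup H10 H91
open H42 hiding SylIn

variable {G : Type*} [Group G] [Finite G] {F : Type*} [Field F] [Fintype F] [CharP F 2] {q : ℕ}
  [hF : Fact (Fintype.card F = q ^ 2)]

theorem pq_relIndex {H K : Subgroup G} (h : ∀ a ∈ K, ∀ b ∈ K, a ∉ H → b ∉ H → a * b ∈ H) :
    H.relIndex K ≤ 2 := by
  by_cases e : K ≤ H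
  · rw [relIndex_eq_one.2 e]; omega
  obtain ⟨a, ha, h1⟩ := SetLike.not_le_iff_exists.1 e
  refine (relIndex_eq_two_iff.2 ⟨a, ha, fun b hb => ?_⟩).le
  by_cases h2 : b ∈ H
  · exact Or.inr ⟨h2, fun h3 => h1 ((H.mul_mem_cancel_left h2).1 h3)⟩
  · exact Or.inl ⟨h b hb a ha h2 h1, h2⟩

theorem pq_index (S : AddSubgroup F) (h : ∀ a b, a ∉ S → b ∉ S → a + b ∈ S) : S.index ≤ 2 := by
  by_cases e : S = ⊤
  · rw [e, AddSubgroup.index_top]; omega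
  obtain ⟨a, -, h1⟩ := SetLike.exists_of_lt (lt_top_iff_ne_top.2 e)
  refine (AddSubgroup.index_eq_two_iff.2 ⟨a, fun b => ?_⟩).le
  by_cases h2 : b ∈ S
  · exact Or.inr ⟨h2, fun h3 => h1 ((S.add_mem_cancel_left h2).1 h3)⟩
  · exact Or.inl ⟨h b a h2 h1, h2⟩

namespace PQ

variable (p : PQ G F q)

theorem pgY : IsPGroup 2 p.Y := p.syl.isPGroup.to_le p.YS

/-- the kernel of a coordinate -/
def Ks (j : Bool) : Subgroup G where
  carrier := {y | y ∈ p.Y ∧ p.x j y = 0}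
  one_mem' := ⟨one_mem _, p.x_one j⟩
  mul_mem' hx hy := ⟨mul_mem hx.1 hy.1, by rw [p.x_mul _ _ hx.1 _ hy.1, hx.2, hy.2, add_zero]⟩
  inv_mem' hx := ⟨inv_mem hx.1, by rw [p.x_inv _ hx.1, hx.2]⟩

/-- the image of a subgroup under a coordinate -/
def img (j : Bool) (D : Subgroup G) : AddSubgroup F where
  carrier := {v | ∃ d ∈ D, d ∈ p.Y ∧ p.x j d = v}
  zero_mem' := ⟨1, one_mem _, one_mem _, p.x_one j⟩
  add_mem' := fun ⟨a, ha, ha', e⟩ ⟨b, hb, hb', e'⟩ =>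
    ⟨a * b, mul_mem ha hb, mul_mem ha' hb', by rw [p.x_mul j _ ha' _ hb', e, e']⟩
  neg_mem' h := by rwa [CharTwo.neg_eq]

/-- the elements acting trivially on a coordinate -/
def Tr (j : Bool) : Subgroup G where
  carrier := {g | g ∈ normalizer (p.Y : Set G) ∧ ∀ y ∈ p.Y, p.x j (g * y * g⁻¹) = p.x j y}
  one_mem' := ⟨one_mem _, fun y _ => by simp⟩
  mul_mem' := fun {g g'} hg hg' => ⟨mul_mem hg.1 hg'.1, fun y hy => by
    rw [show g * g' * y * (g * g')⁻¹ = g * (g' * y * g'⁻¹) * g⁻¹ by group,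
      hg.2 _ (p.cjY hg'.1 hy), hg'.2 y hy]⟩
  inv_mem' := fun {g} hg => ⟨inv_mem hg.1, fun y hy => by
    rw [← hg.2 _ (p.cjY (inv_mem hg.1) hy)]; congr 1; group⟩

theorem mem_of_Tr {g : G} (hg : g ∈ p.S) (h : ∀ j, g ∈ p.Tr j) : g ∈ p.Y :=
  p.faith g hg fun y hy j => (h j).2 y hy

theorem ns_of_cent {g : G} (hg : g ∈ normalizer (p.Y : Set G)) (h : ∀ w ∈ p.W, g * w = w * g) :
    p.NS g := by
  obtain ⟨w, hw, h1, h2⟩ := p.exW false 1
  exact p.ns_of_fix hg hw (fun e => by rw [e, p.k_one] at h1; exact zero_ne_one h1) h2 (h w hw)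

theorem tr_or {g : G} (hg : g ∈ p.S) (h : ∀ w ∈ p.W, g * w = w * g) {j : Bool} (hj : g ∉ p.Tr j) :
    ∃ l, nm q l = 1 ∧ ∀ y ∈ p.Y, p.x j (g * y * g⁻¹) = l * H10.cj F q (p.x j y) := by
  obtain ⟨l, φ, h1⟩ := p.ns_of_cent (p.S_le hg) h
  rcases (p.types hg h1 (Or.inr h)).2 j with ⟨e1, e2⟩ | ⟨e1, e2⟩
  · exact absurd ⟨p.S_le hg, fun y hy => by simpa [e1, e2] using h1.2.1 y hy j⟩ hj
  · exact ⟨l j, e1, fun y hy => by simpa [e2] using h1.2.1 y hy j⟩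

theorem tr_mul {g g' : G} (hg : g ∈ p.S) (hg' : g' ∈ p.S) (h : ∀ w ∈ p.W, g * w = w * g)
    (h' : ∀ w ∈ p.W, g' * w = w * g') {j : Bool} (hj : g ∉ p.Tr j) (hj' : g' ∉ p.Tr j) :
    g * g' ∈ p.Tr j := by
  obtain ⟨l, -, e⟩ := p.tr_or hg h hj
  obtain ⟨l', -, e'⟩ := p.tr_or hg' h' hj'
  have key : ∀ y ∈ p.Y, p.x j (g * g' * y * (g * g')⁻¹) = l * H10.cj F q l' * p.x j y :=
    fun y hy => by
      rw [show g * g' * y * (g * g')⁻¹ = g * (g' * y * g'⁻¹) * g⁻¹ by group,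
        e _ (p.cjY (p.S_le hg') hy), e' y hy, map_mul, H10.cj_cj, mul_assoc]
  exact ⟨p.S_le (mul_mem hg hg'), fun y hy => by
    rw [key y hy, p.scal (mul_mem hg hg') key, one_mul]⟩

theorem exists_cm (M : Subgroup G) (j : Bool)
    (hM : ∀ y ∈ p.Ks (!j), ∀ y' ∈ p.Ks (!j), y ∉ M → y' ∉ M → y * y' ∈ M) {z : G} (hz : z ∈ p.W)
    (h0 : p.k (!j) z = 0) : ∃ y ∈ M ⊓ p.Ks (!j), ∃ y' ∈ M ⊓ p.Ks (!j), z = y * y' * y⁻¹ * y'⁻¹ := by
  obtain ⟨_, ⟨y, hy, y1, rfl⟩, _, ⟨y', hy', y2, rfl⟩, e⟩ := idx2 p.q4 (p.img j (M ⊓ p.Ks (!j)))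
    (pq_index _ fun a b ha hb => by
      obtain ⟨u, hu, rfl, u2⟩ := p.exY j a
      obtain ⟨v, hv, rfl, v2⟩ := p.exY j b
      exact ⟨u * v, ⟨hM u ⟨hu, u2⟩ v ⟨hv, v2⟩ (fun h => ha ⟨u, ⟨h, hu, u2⟩, hu, rfl⟩)
        fun h => hb ⟨v, ⟨h, hv, v2⟩, hv, rfl⟩, (p.Ks (!j)).mul_mem ⟨hu, u2⟩ ⟨hv, v2⟩⟩, mul_mem hu hv,
        p.x_mul j _ hu _ hv⟩) (p.k j z)
  refine ⟨y, hy, y', hy', p.W_ext hz (p.comm y1 y2).1 (both j ?_ ?_)⟩
  · rw [(p.comm y1 y2).2, e]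
  · rw [(p.comm y1 y2).2, h0, hy.2.2, cm_zero_left]

theorem W_split {w : G} (hw : w ∈ p.W) :
    ∃ a ∈ p.W, ∃ b ∈ p.W, p.k true a = 0 ∧ p.k false b = 0 ∧ w = a * b := by
  obtain ⟨a, ha, a1, a2⟩ := p.exW false (p.k false w)
  obtain ⟨b, hb, b1, b2⟩ := p.exW true (p.k true w)
  refine ⟨a, ha, b, hb, a2, b2, p.W_ext hw (mul_mem ha hb) (both false ?_ ?_)⟩
  · rw [p.kW _ ha hb, a1, show p.k false b = 0 from b2, add_zero]
  · rw [p.kW _ ha hb, a2, zero_add]; exact b1.symm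

theorem img_le (D : Subgroup G) :
    (p.img false D).index * (p.img true D).index ≤ D.relIndex p.Y := by
  let X : p.Y →* Multiplicative (F × F) := MonoidHom.mk'
    (fun y => Multiplicative.ofAdd (p.x false y, p.x true y)) fun a b => by
      rw [← ofAdd_add, Prod.mk_add_mk, coe_mul, p.x_mul _ _ a.2 _ b.2, p.x_mul _ _ a.2 _ b.2]
  have hX : Function.Surjective X := fun v => by
    obtain ⟨y, hy, e⟩ := p.surj fun i => if i then v.toAdd.2 else v.toAdd.1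
    exact ⟨⟨y, hy⟩, by simp [X, e]⟩
  rw [← AddSubgroup.index_prod, ← AddSubgroup.index_toSubgroup, ← index_comap_of_surjective _ hX]
  exact Nat.le_of_dvd (Nat.pos_of_ne_zero index_ne_zero_of_finite) (index_dvd_of_le fun y hy =>
    ⟨⟨y, hy, y.2, rfl⟩, ⟨y, hy, y.2, rfl⟩⟩)

/-- `Y` is weakly closed in `S` -/
theorem wc {g : G} (h : ∀ y ∈ p.Y, g * y * g⁻¹ ∈ p.S) : g ∈ normalizer (p.Y : Set G) := by
  obtain ⟨S₀, s1, -, s2, s3⟩ := p.exists_S0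
  have h1 : ∀ j, ∀ z ∈ p.W, p.k (!j) z = 0 → g * z * g⁻¹ ∈ p.Y := fun j z hz h0 => by
    obtain ⟨y, hy, y', hy', rfl⟩ := p.exists_cm (S₀.comap (MulAut.conj g).toMonoidHom) j
      (fun y hy y' hy' a b => by
        have := s2 _ (h y hy.1) _ (h y' hy'.1) a b
        rwa [conj_mul] at this) hz h0
    convert s3 _ hy.1 _ hy'.1 using 1
    simp only [MulEquiv.toMonoidHom_eq_coe, MonoidHom.coe_coe, MulAut.conj_apply]
    group
  have hW : g ∈ normalizer (p.W : Set G) := mem_normalizer_of_conj_mem fun w hw => by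
    refine (p.sq_iff ?_).1 (by rw [conj_mul, p.W_sq hw]; group)
    obtain ⟨a, ha, b, hb, a1, b1, rfl⟩ := p.W_split hw
    rw [← conj_mul]
    exact mul_mem (h1 false a ha a1) (h1 true b hb b1)
  have hS : ∀ s ∈ H42.cj g p.Y, s ∈ p.S := fun s hs => by simpa [mul_assoc] using h _ (mem_cj.1 hs)
  have hc : ∀ s ∈ H42.cj g p.Y, ∀ w ∈ p.W, s * w = w * s := fun s hs w hw => by
    have := p.cW (((inv_mem hW) w).1 hw) (mem_cj.1 hs)
    calc s * w = g * (g⁻¹ * s * g * (g⁻¹ * w * g⁻¹⁻¹)) * g⁻¹ := by group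
      _ = w * s := by rw [← this]; group
  have fx : ∀ j, (p.img j (p.Y ⊓ H42.cj g p.Y)).index < q → H42.cj g p.Y ≤ p.Tr j := by
    intro j hj s hs
    obtain ⟨l, φ, h2⟩ := p.ns_of_cent (p.S_le (hS s hs)) (hc s hs)
    obtain ⟨e1, e2⟩ := fix_index (l := l j) (φ := φ j) _ (by
      rintro _ ⟨d, hd, hd', rfl⟩
      have h3 := ((hW _).1 (p.comm (mem_cj.1 hs) (mem_cj.1 hd.2)).1).2 j
      have h4 := p.cjY (p.S_le (hS s hs)) hd'
      rw [show g * (g⁻¹ * s * g * (g⁻¹ * d * g) * (g⁻¹ * s * g)⁻¹ * (g⁻¹ * d * g)⁻¹) * g⁻¹ =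
        s * d * s⁻¹ * d⁻¹ by group, p.x_mul j _ h4 _ (inv_mem hd'), p.x_inv j hd',
        CharTwo.add_eq_zero] at h3
      exact (h2.2.1 d hd' j).symm.trans h3) hj
    exact ⟨p.S_le (hS s hs), fun y hy => by simpa [e1, e2] using h2.2.1 y hy j⟩
  have t2 : ∀ j, (p.Tr j).relIndex (H42.cj g p.Y) ≤ 2 := fun j =>
    pq_relIndex fun a ha b hb => p.tr_mul (hS a ha) (hS b hb) (hc a ha) (hc b hb)
  have e1 : (p.Y ⊓ H42.cj g p.Y).relIndex p.Y = (p.Y ⊓ H42.cj g p.Y).relIndex (H42.cj g p.Y) :=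
    Nat.eq_of_mul_eq_mul_left (Nat.card_pos (α := ↥(p.Y ⊓ H42.cj g p.Y))) (by
      rw [H42.card_mul_relIndex inf_le_left, H42.card_mul_relIndex inf_le_right, card_cj])
  have e2 : (p.Y ⊓ H42.cj g p.Y).relIndex (H42.cj g p.Y) ≤
      (p.Tr false).relIndex (H42.cj g p.Y) * (p.Tr true).relIndex (H42.cj g p.Y) := by
    refine le_trans ?_ relIndex_inf_le
    rw [← inf_relIndex_right (p.Tr false ⊓ p.Tr true)]
    exact relIndex_le_of_le_left (fun s hs => ⟨p.mem_of_Tr (hS s hs.2) (both false hs.1.1 hs.1.2),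
      hs.2⟩) index_ne_zero_of_finite
  have e3 := (p.img_le (p.Y ⊓ H42.cj g p.Y)).trans (e1.le.trans e2)
  have n0 := Nat.pos_of_ne_zero (AddSubgroup.index_ne_zero_of_finite
    (H := p.img false (p.Y ⊓ H42.cj g p.Y)))
  have n1 := Nat.pos_of_ne_zero (AddSubgroup.index_ne_zero_of_finite
    (H := p.img true (p.Y ⊓ H42.cj g p.Y)))
  have f0 := fun h => relIndex_eq_one.2 (fx false h)
  have f1 := fun h => relIndex_eq_one.2 (fx true h)
  have q4 := p.q4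
  have t0 := t2 false
  have t1 := t2 true
  have a0 : (p.img false (p.Y ⊓ H42.cj g p.Y)).index < q := by
    by_contra hh
    rw [f1 (by nlinarith)] at e3
    nlinarith
  have a1 : (p.img true (p.Y ⊓ H42.cj g p.Y)).index < q := by
    rw [f0 a0] at e3
    nlinarith
  exact mem_normalizer_of_conj_mem fun y hy => p.mem_of_Tr (h y hy)
    (both false (fx false a0 (conj_mem_cj hy)) (fx true a1 (conj_mem_cj hy)))

theorem syl_top : SylIn 2 p.S ⊤ :=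
  sylIn_of_maximal le_top p.syl.isPGroup fun H hH hle _ => by
    by_contra hn
    have h1 := lt_inf_normalizer hH (lt_of_le_of_ne hle fun e => hn e.ge)
    exact h1.ne' (p.syl.eq_of_le (hH.to_le inf_le_left) h1.le fun g hg =>
      p.wc fun y hy => (hg.2 y).1 (p.YS hy))

/-- a 2-subgroup of an overgroup `C` of `Y` can be moved into `S` by `N(Y) C` -/
theorem move {C R : Subgroup G} (hC : p.Y ≤ C) (hR : IsPGroup 2 R) (hle : R ≤ C) :
    ∃ m ∈ normalizer (p.Y : Set G), ∃ c ∈ C, ∀ r ∈ R, m * c * r * (m * c)⁻¹ ∈ p.S := by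
  obtain ⟨P, hP, h1⟩ := exists_sylIn_ge p.pgY hC
  obtain ⟨c, hc, h2⟩ := hP.exists_conj_mem hR hle
  obtain ⟨m, -, h3⟩ := p.syl_top.exists_conj_mem hP.isPGroup le_top
  refine ⟨m, p.wc fun y hy => h3 y (h1 hy), c, hc, fun r hr => ?_⟩
  convert h3 _ (h2 r hr) using 1
  group

/-- `N(Y)` controls fusion in `W` -/
theorem fc {g : G} {D : Set G} (hD : ∀ w ∈ D, w ∈ p.W ∧ g * w * g⁻¹ ∈ p.W) :
    ∃ n ∈ normalizer (p.Y : Set G), ∀ w ∈ D, g * w * g⁻¹ = n * w * n⁻¹ := by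
  obtain ⟨m, hm, c, hc, h⟩ := p.move (C := centralizer ((fun w => g * w * g⁻¹) '' D))
    (by rintro y hy _ ⟨w, hw, rfl⟩; exact p.cW (hD w hw).2 hy) (isPGroup_cj g p.pgY) (by
      rintro y hy _ ⟨w, hw, rfl⟩
      have := p.cW (hD w hw).1 (mem_cj.1 hy)
      calc g * w * g⁻¹ * y = g * (w * (g⁻¹ * y * g)) * g⁻¹ := by group
        _ = _ := by rw [this]; group)
  have h1 : m * (c * g) ∈ normalizer (p.Y : Set G) := p.wc fun y hy => by
    convert h _ (conj_mem_cj hy) using 1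
    group
  refine ⟨c * g, (Subgroup.mul_mem_cancel_left _ hm).1 h1, fun w hw => ?_⟩
  have := hc _ ⟨w, hw, rfl⟩
  calc g * w * g⁻¹ = g * w * g⁻¹ * c * c⁻¹ := by group
    _ = _ := by rw [this]; group

theorem extr {s w : G} (hs : s ∈ p.S) (hw : w ∈ p.W) (h : IsConj w s) :
    ∃ g, g * s * g⁻¹ ∈ p.W ∧ ∀ y ∈ p.S, y * s = s * y → g * y * g⁻¹ ∈ p.S := by
  obtain ⟨a, rfl⟩ := isConj_iff.1 h
  obtain ⟨m, hm, c, hc, h1⟩ := p.move (C := centralizer {w})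
    (fun y hy => mem_centralizer_singleton_iff.2 (p.cW hw hy).symm)
    (isPGroup_cj a⁻¹ (p.syl.isPGroup.to_le (inf_le_left (b := centralizer {a * w * a⁻¹})))) (by
      intro y hy
      have := mem_centralizer_singleton_iff.1 (mem_cj.1 hy).2
      rw [mem_centralizer_singleton_iff]
      calc y * w = a⁻¹ * (a⁻¹⁻¹ * y * a⁻¹ * (a * w * a⁻¹)) * a := by group
        _ = _ := by rw [this]; group)
  refine ⟨m * c * a⁻¹, ?_, fun y hy e => ?_⟩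
  · convert p.cjW hm hw using 1
    calc _ = m * (c * w) * c⁻¹ * m⁻¹ := by group
      _ = _ := by rw [mem_centralizer_singleton_iff.1 hc]; group
  · convert h1 _ (conj_mem_cj ⟨hy, mem_centralizer_singleton_iff.2 e⟩) using 1
    group

end PQ

end Cfsg.Agent.GMS
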