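import Cfsg.Agent.GMS.PQ2

set_option autoImplicit false
set_option linter.unusedSectionVars false

namespace Cfsg.Agent.GMS

open Subgroup H10 H91
open H42 hiding SylIn

variable {G : Type*} [Group G] [Finite G] {F : Type*} [Field F] [Fintype F] [CharP F 2] {q : ℕ}
  [hF : Fact (Fintype.card F = q ^ 2)]

theorem pq_onto {l : F} (hl : l ≠ 0) (φ : F ≃+* F) (m : K0 F q) : ∃ m', nm q l * kf φ m' = m :=
  ⟨kf φ.symm (m / nm q l), by rw [kf_symm, mul_div_cancel₀ _ (nm_eq_zero.not.2 hl)]⟩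

/-- no swapping element of `S` is conjugate into `W` -/
theorem PQ.ns_of_conj (p : PQ G F q) {s w : G} (hs : s ∈ p.S) (hw : w ∈ p.W) (h : IsConj w s) :
    p.NS s := by
  by_contra hn
  have hsN := p.S_le hs
  obtain ⟨l, φ, hA⟩ := p.act_not hsN hn
  have s2 : s * s = 1 := by
    obtain ⟨a, rfl⟩ := isConj_iff.1 h
    rw [conj_mul, p.W_sq hw]; group
  have si : s⁻¹ = s := inv_eq_of_mul_eq_one_right s2
  obtain ⟨g, hg, hg'⟩ := p.extr hs hw h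
  obtain ⟨S₀, s1, -, s3, s4⟩ := p.exists_S0
  have cm0 : ∀ y ∈ p.Ks true, ∀ y' ∈ p.Ks true, s * y * s⁻¹ * y' = y' * (s * y * s⁻¹) :=
    fun y hy y' hy' => p.comm_of (p.cjY hsN hy.1) hy'.1 (PQ.both false (by
      have := hA.2.1 y hy.1 true
      rw [hy.2, map_zero, mul_zero] at this
      exact (congrArg (cm q · _) this).trans (cm_zero_left _))
      (by rw [show p.x (!false) y' = 0 from hy'.2, cm_zero_right]))
  let δ : p.Ks true →* G := MonoidHom.mk' (fun y => y * (s * y * s⁻¹)) fun a b => by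
    simp only [coe_mul]
    calc _ = a * (b * (s * a * s⁻¹)) * (s * b * s⁻¹) := by group
      _ = _ := by rw [← cm0 a a.2 b b.2]; group
  have dS : ∀ y, g * δ y * g⁻¹ ∈ p.S := fun y =>
    hg' _ (p.YS (mul_mem y.2.1 (p.cjY hsN y.2.1))) (by
      change y * (s * y * s⁻¹) * s = s * (y * (s * y * s⁻¹))
      calc _ = s * s * y * s * y := by rw [s2]; group
        _ = s * (s * y * s⁻¹ * y) := by rw [si]; group
        _ = _ := by rw [cm0 y y.2 y y.2])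
  have WK : p.W ≤ p.Ks true := fun z hz => ⟨hz.1, hz.2 true⟩
  have dW : ∀ z ∈ p.W, z * (s * z * s⁻¹) ∈ p.W := fun z hz => mul_mem hz (p.cjW hsN hz)
  have dW' : ∀ z ∈ p.W, p.k true z = 0 → g * (z * (s * z * s⁻¹)) * g⁻¹ ∈ p.W := by
    intro z hz h0
    refine (p.sq_iff ?_).1 (by rw [conj_mul, p.W_sq (dW z hz)]; group)
    obtain ⟨y, hy, y', hy', e⟩ := p.exists_cm
      ((S₀.comap ((MulAut.conj g).toMonoidHom.comp δ)).map (p.Ks true).subtype) false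
      (fun y hy y' hy' a b => ⟨⟨y, hy⟩ * ⟨y', hy'⟩, by
        rw [SetLike.mem_coe, mem_comap, map_mul]
        exact s3 _ (dS _) _ (dS _) (fun e => a ⟨_, e, rfl⟩) fun e => b ⟨_, e, rfl⟩, rfl⟩) hz h0
    obtain ⟨u, hu, rfl⟩ := hy.1
    obtain ⟨v, hv, rfl⟩ := hy'.1
    have := s4 _ hu _ hv
    rw [← map_inv, ← map_inv, ← map_mul, ← map_mul, ← map_mul] at this
    rw [e]
    exact this
  have k0 : ∀ z ∈ p.W, p.k true z = 0 → p.k false (z * (s * z * s⁻¹)) = p.k false z :=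
    fun z hz h0 => by
      have := hA.2.2 z hz true
      rw [h0, kf_zero, mul_zero] at this
      rw [p.kW _ hz (p.cjW hsN hz), show p.k false (s * z * s⁻¹) = 0 from this, add_zero]
  have on0 : ∀ j m, ∃ z ∈ p.W, p.k true z = 0 ∧ p.k j (z * (s * z * s⁻¹)) = m := fun j m => by
    cases j
    · obtain ⟨z, hz, h1, h2⟩ := p.exW false m
      exact ⟨z, hz, h2, by rw [k0 z hz h2, h1]⟩
    · obtain ⟨m', e⟩ := pq_onto (hA.1 false) (φ false) m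
      obtain ⟨z, hz, h1, h2⟩ := p.exW false m'
      refine ⟨z, hz, h2, ?_⟩
      rw [p.kW _ hz (p.cjW hsN hz), show p.k true z = 0 from h2, zero_add, ← e, ← h1]
      exact hA.2.2 z hz false
  have on1 : ∀ j m, ∃ z ∈ p.W, p.k true z = 0 ∧ p.k j (g * (z * (s * z * s⁻¹)) * g⁻¹) = m := by
    obtain ⟨n, hn, e⟩ := p.fc (g := g) (D := {d | ∃ z ∈ p.W, p.k true z = 0 ∧ d = z * (s * z * s⁻¹)})
      (by rintro _ ⟨z, hz, h0, rfl⟩; exact ⟨dW z hz, dW' z hz h0⟩)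
    have : ∀ π l φ, p.Act n π l φ → ∀ j m, ∃ z ∈ p.W, p.k true z = 0 ∧
        p.k (π j) (g * (z * (s * z * s⁻¹)) * g⁻¹) = m := fun π l φ hB j m => by
      obtain ⟨m', e'⟩ := pq_onto (hB.1 j) (φ j) m
      obtain ⟨z, hz, h0, h1⟩ := on0 j m'
      exact ⟨z, hz, h0, by rw [e _ ⟨z, hz, h0, rfl⟩, hB.2.2 _ (dW z hz), h1, e']⟩
    obtain ⟨l', φ', hB | hB⟩ := p.act hn
    · exact this _ _ _ hB
    · exact fun j m => by simpa using this _ _ _ hB (!j) m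
  have cen : ∀ n, p.NS n → n ∈ normalizer (p.Y : Set G) → (∀ z ∈ p.W, p.k true z = 0 →
      n * (g * (z * (s * z * s⁻¹)) * g⁻¹) * n⁻¹ = g * (z * (s * z * s⁻¹)) * g⁻¹) →
      n * (g * s * g⁻¹) * n⁻¹ = g * s * g⁻¹ := fun n ⟨l', φ', hB⟩ hn e =>
    p.W_ext (p.cjW hn hg) hg fun j => by
      obtain ⟨z, hz, h0, h1⟩ := on1 j (p.k j (g * s * g⁻¹))
      have h2 := hB.2.2 _ (dW' z hz h0) j
      rw [e z hz h0, id, h1] at h2
      exact (hB.2.2 _ hg j).trans h2.symm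
  have ex : ∀ z ∈ p.W, p.k true z = 0 → ∃ n ∈ normalizer (p.Y : Set G),
      n * (g * s * g⁻¹) * n⁻¹ = g * (z * (s * z * s⁻¹)) * g⁻¹ * (g * s * g⁻¹) ∧
      ∀ z ∈ p.W, p.k true z = 0 →
        n * (g * (z * (s * z * s⁻¹)) * g⁻¹) * n⁻¹ = g * (z * (s * z * s⁻¹)) * g⁻¹ := by
    intro z hz h0
    have e1 : g * z * g⁻¹ * (g * s * g⁻¹) * (g * z * g⁻¹)⁻¹ =
        g * (z * (s * z * s⁻¹)) * g⁻¹ * (g * s * g⁻¹) := by
      calc _ = g * (z * s * z⁻¹) * g⁻¹ := by group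
        _ = _ := by rw [p.W_inv hz]; group
    have e2 : ∀ z' ∈ p.W, g * z * g⁻¹ * (g * (z' * (s * z' * s⁻¹)) * g⁻¹) * (g * z * g⁻¹)⁻¹ =
        g * (z' * (s * z' * s⁻¹)) * g⁻¹ := fun z' hz' => by
      calc _ = g * (z * (z' * (s * z' * s⁻¹)) * z⁻¹) * g⁻¹ := by group
        _ = _ := by rw [p.cW hz (dW z' hz').1]; group
    obtain ⟨n, hn, e⟩ := p.fc (g := g * z * g⁻¹) (D := {d | d = g * s * g⁻¹ ∨
      ∃ z ∈ p.W, p.k true z = 0 ∧ d = g * (z * (s * z * s⁻¹)) * g⁻¹}) (by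
        rintro _ (rfl | ⟨z', hz', h1, rfl⟩)
        · exact ⟨hg, e1 ▸ mul_mem (dW' z hz h0) hg⟩
        · exact ⟨dW' z' hz' h1, (e2 z' hz').symm ▸ dW' z' hz' h1⟩)
    exact ⟨n, hn, by rw [← e _ (Or.inl rfl), e1], fun z' hz' h1 => by
      rw [← e _ (Or.inr ⟨z', hz', h1, rfl⟩), e2 z' hz']⟩
  have ne : ∀ z ∈ p.W, p.k true z = 0 →
      g * (z * (s * z * s⁻¹)) * g⁻¹ * (g * s * g⁻¹) = g * s * g⁻¹ → p.k false z = 0 :=
    fun z hz h0 e => by
      rw [← k0 z hz h0, conj_eq_one_iff.1 (mul_eq_right.1 e), p.k_one]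
  obtain ⟨κ, κ0, κ1⟩ := exists_k0 (F := F) p.q4
  obtain ⟨a, ha, a1, a2⟩ := p.exW false 1
  obtain ⟨b, hb, b1, b2⟩ := p.exW false κ
  obtain ⟨n, hn, n1, n2⟩ := ex a ha a2
  obtain ⟨m, hm, m1, m2⟩ := ex b hb b2
  have h1 := cen _ (p.ns_mul hn hm
    (fun e => one_ne_zero (a1 ▸ ne a ha a2 (n1.symm.trans (cen n e hn n2))))
    fun e => κ0 (b1 ▸ ne b hb b2 (m1.symm.trans (cen m e hm m2)))) (mul_mem hn hm)
    fun z hz h0 => by
      rw [mul_inv_rev, ← mul_assoc, mul_assoc n, mul_assoc n, m2 z hz h0, n2 z hz h0]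
  rw [mul_inv_rev, ← mul_assoc, mul_assoc n, mul_assoc n, m1, ← conj_mul, n2 b hb b2, n1,
    ← mul_assoc] at h1
  have h2 := ne _ (mul_mem hb ha) (by
    rw [p.kW _ hb ha, show p.k true a = 0 from a2, show p.k true b = 0 from b2, add_zero]) (by
    rw [← h1]
    have := map_mul δ ⟨b, WK hb⟩ ⟨a, WK ha⟩
    change b * a * (s * (b * a) * s⁻¹) = b * (s * b * s⁻¹) * (a * (s * a * s⁻¹)) at this
    rw [this, h1, ← conj_mul, h1])
  rw [p.kW _ hb ha, a1, b1] at h2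
  exact κ1 (CharTwo.add_eq_zero.1 h2)

end Cfsg.Agent.GMS
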