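import Cfsg.Agent.GMS.Base2

set_option autoImplicit false
set_option linter.unusedSectionVars false

namespace Cfsg.Agent.GMS

open Subgroup H10 H91
open H42 hiding SylIn

variable {G : Type*} [Group G] [Finite G] {F : Type*} [Field F] [Fintype F] [CharP F 2] {q : ℕ}
  [hF : Fact (Fintype.card F = q ^ 2)]

theorem std_qs {H : Type*} [Group H] (h : IsQuasisimple H) {N : Subgroup H} (hN : N.Normal)
    {x : H} (hx : x ∈ N) (hz : x ∉ center H) : N = ⊤ := by
  have := h.2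
  rcases (hN.map (QuotientGroup.mk' (center H)) (QuotientGroup.mk'_surjective _)).eq_bot_or_eq_top with e | e
  · exact absurd ((QuotientGroup.eq_one_iff x).1 (Subgroup.mem_bot.1 (e ▸ mem_map_of_mem _ hx))) hz
  · have d : ∀ a : H, ∃ n ∈ N, ∃ z ∈ center H, a = n * z := fun a => by
      obtain ⟨n, hn, e'⟩ : QuotientGroup.mk' (center H) a ∈ N.map (QuotientGroup.mk' (center H)) :=
        e ▸ mem_top _
      exact ⟨n, hn, n⁻¹ * a, QuotientGroup.eq.1 e', by group⟩
    rw [eq_top_iff, ← h.1.commutator_eq_top, commutator_def, commutator_le]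
    intro a _ b _
    obtain ⟨n, hn, z, hz, rfl⟩ := d a
    rw [commutatorElement_def, mul_assoc n z b, ← mem_center_iff.1 hz b, show
      n * (b * z) * (n * z)⁻¹ * b⁻¹ = n * (b * n⁻¹ * b⁻¹) by group]
    exact mul_mem hn (hN.conj_mem _ (inv_mem hn) b)

namespace Ctx

variable (c : Ctx G F q)

theorem std_syl : SylIn 2 c.R (centralizer (c.A : Set G)) := by
  refine sylIn_of_maximal (fun r hr => mem_centralizer_iff.2 fun a ha => (c.RA r hr a ha).symm)
    (c.syl.isPGroup.to_le c.RT) fun H hH hR hK => by_contra fun hn => ?_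
  obtain ⟨g, ⟨gH, gN⟩, gR⟩ := SetLike.exists_of_lt (lt_inf_normalizer hH (lt_of_le_not_ge hR hn))
  obtain ⟨k, hk⟩ := hH ⟨g, gH⟩
  have ht := c.two_elt c.tR c.t1 ((mem_normalizer_iff.1 gN _).1 c.tR) (congrArg Subtype.val hk)
  obtain ⟨r, hr, o, ho, rfl⟩ := c.KO g (fun x hx => (mem_centralizer_iff.1 (hK gH) x hx).symm) ht
  obtain ⟨j, hj⟩ := hH ⟨o, (mul_mem_cancel_left (hR hr)).1 gH⟩
  have h1 : orderOf o ∣ 2 ^ j := orderOf_dvd_of_pow_eq_one (congrArg Subtype.val hj)
  have h2 : orderOf o ∣ Nat.card c.O := orderOf_dvd_natCard _ ho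
  have h3 : orderOf o = 1 := Nat.eq_one_of_dvd_coprimes (c.Oodd.coprime_two_left.pow_left j) h1 h2
  rw [orderOf_eq_one_iff.1 h3, mul_one] at gR
  exact gR hr

theorem std_pg (g : G) : IsPGroup 2 (c.Q.map (MulAut.conj g).toMonoidHom) :=
  (c.syl.isPGroup.to_le c.QT).map _

theorem std_key (hA : IsQuasisimple c.A) {g : G} (h : ∀ a ∈ c.A, g * a * g⁻¹ * c.t = c.t * (g * a * g⁻¹)) :
    g ∈ normalizer (c.A : Set G) := by
  obtain ⟨k, hk, hT⟩ := c.syl.exists_conj_mem (c.std_pg g) (by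
    rintro _ ⟨x, hx, rfl⟩
    exact mem_centralizer_singleton_iff.2 (h x (c.bs_QA hx)))
  have kt := mem_centralizer_singleton_iff.1 hk
  obtain ⟨b, hb⟩ := (c.XX (g := k * g) fun u => by
    have := hT _ ⟨c.U u, ⟨u, rfl⟩, rfl⟩
    rwa [show k * g * c.U u * (k * g)⁻¹ = k * (g * c.U u * g⁻¹) * k⁻¹ by group]).2 1
  have kN : k ∈ normalizer (c.A : Set G) := mem_normalizer_of_conj_mem (c.An k kt)
  have e := std_qs hA (N := (c.A.comap (MulAut.conj (k * g)).toMonoidHom).subgroupOf c.A)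
    ⟨fun n hn a => by
      have := c.An (k * (g * a * g⁻¹) * k⁻¹) (by
        rw [mul_assoc, (show Commute k c.t from kt).inv_left.eq, ← mul_assoc, mul_assoc k, h _ a.2,
          ← mul_assoc, kt]; group) _ hn
      change k * g * (a * n * (a : G)⁻¹) * (k * g)⁻¹ ∈ c.A
      convert this using 1
      change _ = _ * (k * g * n * (k * g)⁻¹) * _
      group⟩ (x := ⟨c.z 1, c.UA _⟩) (by
      change k * g * c.z 1 * (k * g)⁻¹ ∈ c.A
      rw [hb]; exact c.UA _) fun hz => one_ne_zero (c.z_eq_one.1 (c.bs_L_center (c.ZL 1) fun x hx =>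
        (congrArg Subtype.val (mem_center_iff.1 hz ⟨x, c.LA hx⟩)).symm))
  exact (mul_mem_cancel_left kN).1 (mem_normalizer_of_conj_mem fun a ha =>
    (e ▸ mem_top (⟨a, ha⟩ : c.A) : (⟨a, ha⟩ : c.A) ∈ (c.A.comap (MulAut.conj (k * g)).toMonoidHom).subgroupOf c.A))

theorem std_fus (hA : IsQuasisimple c.A) {e g : G} (e1 : e ≠ 1) (ee : e * e = 1)
    (he : e ∈ centralizer (c.A : Set G)) (hg : g * e * g⁻¹ ∈ centralizer (c.A : Set G)) :
    g ∈ normalizer (c.A : Set G) := by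
  obtain ⟨k, hk, hR⟩ := c.std_syl.exists_conj_mem (H := zpowers (g * e * g⁻¹))
    (IsPGroup.of_card (n := 1) (by
      rw [Nat.card_zpowers, pow_one]
      exact orderOf_eq_prime (by rw [conj_pow, pow_two, ee]; group) (by simpa using e1)))
    (zpowers_le_of_mem hg)
  refine (mul_mem_cancel_left (centralizer_le_normalizer _ hk)).1 (c.std_key hA fun a ha => ?_)
  refine (c.RC _ (hR _ (mem_zpowers _)) (by simpa using e1) _).1 ?_
  calc k * g * a * (k * g)⁻¹ * (k * (g * e * g⁻¹) * k⁻¹) = k * g * (a * e) * (k * g)⁻¹ := by group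
    _ = _ := by rw [mem_centralizer_iff.1 he a ha]; group

end Ctx

/-- `A` is a standard subgroup -/
theorem Ctx.std (c : Ctx G F q) (hA : IsQuasisimple c.A) : IsStandardSubgroup c.A := by
  have tK : c.t ∈ centralizer (c.A : Set G) := c.std_syl.le c.tR
  have nK : normalizer (c.A : Set G) ≤ normalizer (centralizer (c.A : Set G) : Set G) :=
    H49.norm_cent le_rfl
  refine ⟨hA, ⟨even_iff_two_dvd.2 ?_, fun g hg => Nat.not_even_iff_odd.1 fun he => hg ?_⟩,
    fun g _ hc => ?_, le_antisymm nK fun g hg => c.std_fus hA c.t1 c.t2 tK ((mem_normalizer_iff.1 hg _).1 tK)⟩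
  · rw [← orderOf_eq_prime (x := c.t) (p := 2) (by rw [pow_two, c.t2]) c.t1]
    exact orderOf_dvd_natCard _ tK
  · obtain ⟨⟨_, h1, e, h2, rfl⟩, ho⟩ := exists_prime_orderOf_dvd_card' 2 (even_iff_two_dvd.1 he)
    rw [← orderOf_coe] at ho
    have ho' : orderOf e = 2 := by
      rwa [← orderOf_injective (MulAut.conj g).toMonoidHom (MulAut.conj g).injective e]
    exact nK (c.std_fus hA (fun e' => by simp [e'] at ho') (by rw [← pow_two, ← ho', pow_orderOf_eq_one]) h2 h1)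
  · rw [commutator_comm, commutator_eq_bot_iff_le_centralizer] at hc
    obtain ⟨k, -, hR⟩ := c.std_syl.exists_conj_mem (c.std_pg g) ((map_mono c.bs_QA).trans hc)
    have hR' : ∀ u, k * g * c.U u * (k * g)⁻¹ ∈ c.R := fun u => by
      have := hR _ ⟨c.U u, ⟨u, rfl⟩, rfl⟩
      rwa [show k * g * c.U u * (k * g)⁻¹ = k * (g * c.U u * g⁻¹) * k⁻¹ by group]
    obtain ⟨b, hb⟩ := (c.XX fun u => c.RT (hR' u)).2 1
    have := c.RA1 _ (hR' (zz 1)) (by rw [show c.U (zz 1) = c.z 1 from rfl, hb]; exact c.UA _)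
    exact one_ne_zero (c.z_eq_one.1 (conj_eq_one_iff.1 this))

end Cfsg.Agent.GMS
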