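import Cfsg.Agent.GMS.Lam
import Cfsg.Agent.GMS.CaseI
import Cfsg.Agent.H70.Conj

/-! Project GMS: the case `|R| = q`, swapping elements (notes/GMS.md, Tail2). -/

set_option autoImplicit false
set_option linter.unusedSectionVars false

namespace Cfsg.Agent.GMS

open Subgroup H10 H91
open H42 hiding SylIn
open H70 (conj_mem_of_mem_norm conj_mem_of_mem_norm')

variable {G : Type*} [Group G] [Finite G] {F : Type*} [Field F] [Fintype F] [CharP F 2] {q : ℕ}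
  [hF : Fact (Fintype.card F = q ^ 2)]

theorem t2_idx {A : Type*} [AddGroup A] (S : AddSubgroup A) (h : ∀ x y, x ∉ S → y ∉ S → x + y ∈ S) :
    S.index ≤ 2 := by
  by_cases hS : ∀ x, x ∈ S
  · rw [(AddSubgroup.eq_top_iff' S).2 hS, AddSubgroup.index_top]; decide
  push Not at hS
  obtain ⟨a, ha⟩ := hS
  refine (AddSubgroup.index_eq_two_iff.2 ⟨a, fun b => ?_⟩).le
  by_cases hb : b ∈ S
  · exact .inr ⟨hb, fun e => ha ((add_mem_cancel_left hb).1 e)⟩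
  · exact .inl ⟨h _ _ hb ha, hb⟩

/-- the image of a subgroup of index at most two -/
theorem t2_img {A : Type*} [AddCommGroup A] {M N : Subgroup G} (π : G → A)
    (hπ : ∀ x ∈ M, ∀ y ∈ M, π (x * y) = π x + π y) (hs : ∀ a, ∃ y ∈ M, π y = a)
    (h : ∀ x ∈ M, ∀ y ∈ M, x ∉ N → y ∉ N → x * y ∈ N) :
    ∃ S : AddSubgroup A, S.index ≤ 2 ∧ ∀ a ∈ S, ∃ y ∈ M ⊓ N, π y = a := by
  have h1 : π 1 = 0 := by simpa using hπ 1 (one_mem _) 1 (one_mem _)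
  refine ⟨{ carrier := {a | ∃ y ∈ M ⊓ N, π y = a}
            zero_mem' := ⟨1, one_mem _, h1⟩
            add_mem' := ?_
            neg_mem' := ?_ }, t2_idx _ fun a b ha hb => ?_, fun _ h => h⟩
  · rintro _ _ ⟨x, hx, rfl⟩ ⟨y, hy, rfl⟩
    exact ⟨_, mul_mem hx hy, hπ _ hx.1 _ hy.1⟩
  · rintro _ ⟨x, hx, rfl⟩
    exact ⟨_, inv_mem hx, eq_neg_of_add_eq_zero_left (by
      rw [← hπ _ (inv_mem hx).1 _ hx.1, inv_mul_cancel, h1])⟩
  · obtain ⟨x, hx, rfl⟩ := hs a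
    obtain ⟨y, hy, rfl⟩ := hs b
    exact ⟨_, ⟨mul_mem hx hy, h x hx y hy (fun e => ha ⟨x, ⟨hx, e⟩, rfl⟩) fun e => hb ⟨y, ⟨hy, e⟩, rfl⟩⟩,
      hπ _ hx _ hy⟩

theorem t2_cm_nd {a a' : F} (h : ∀ x, cm q a x = cm q a' x) : a = a' := by
  by_contra hn
  obtain ⟨x, hx⟩ := cm_surj (q := q) (mt CharTwo.add_eq_zero.1 hn) 1
  rw [cm_add_left, h, k0_add_self] at hx
  exact zero_ne_one hx

namespace Fr1

variable {c : Ctx G F q} (f : Fr1 c)

/-- `g` swaps `V` and `W` -/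
def Swp (g : G) (l : F) (φ : F ≃+* F) (μ ν : K0 F q) : Prop :=
  l ≠ 0 ∧ μ * ν = nm q l ∧ (∀ k, g * c.z k * g⁻¹ = c.z (nm q l * kf φ k)) ∧ ∀ p ∈ f.P,
    g * p * g⁻¹ ∈ f.P ∧ f.e (g * p * g⁻¹) = ν * kf φ (f.b p) ∧ f.a (g * p * g⁻¹) = l * φ (f.a p) ∧
      f.b (g * p * g⁻¹) = μ * kf φ (f.e p)

/-- the commutator form -/
noncomputable def cf (y y' : G) : K0 F q :=
  cm q (f.a y) (f.a y') + f.e y * f.b y' + f.e y' * f.b y

theorem cf_cj {g y y' : G} (hg : g ∈ normalizer (f.P : Set G)) (hy : y ∈ f.P) (hy' : y' ∈ f.P) :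
    g * c.z (f.cf y y') * g⁻¹ = c.z (f.cf (g * y * g⁻¹) (g * y' * g⁻¹)) := by
  have e := f.comm _ (conj_mem_of_mem_norm hg hy) _ (conj_mem_of_mem_norm hg hy')
  rw [show g * y * g⁻¹ * (g * y' * g⁻¹) = g * (y * y') * g⁻¹ by group, f.comm _ hy _ hy'] at e
  refine mul_left_cancel (a := g * y' * g⁻¹ * (g * y * g⁻¹)) (Eq.trans ?_ e)
  rw [cf]; group

theorem cf_z {y y' : G} (hy : y ∈ f.P) (hy' : y' ∈ f.P) : y * y' * y⁻¹ * y'⁻¹ = c.z (f.cf y y') := by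
  rw [f.comm _ hy _ hy', ← f.z_comm _ (mul_mem hy' hy), cf]; group

theorem tail2a (hc : f.cc = 0) (hR : ∀ k, ∃ r ∈ c.R, f.e r = k)
    (h0 : ∀ s ∈ f.P, c.Tc s → f.a s = 0) : ∃ S : Subgroup G, f.Ph ≤ S ∧
      SylIn 2 S (normalizer (f.P : Set G)) ∧ (∀ g ∈ S, g ∉ f.Ph → ∃ l φ μ ν, f.Swp g l φ μ ν) ∧
      ∀ g ∈ S, ∀ g' ∈ S, g ∉ f.Ph → g' ∉ f.Ph → g * g' ∈ f.Ph := by
  obtain ⟨S, hS, PS⟩ := exists_sylIn_ge f.pg_Ph f.Ph_nrm
  have PP : f.P ≤ f.Ph := le_sup_left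
  have A : ∀ g ∈ S, ∀ r ∈ c.R, r ≠ 1 → g * r * g⁻¹ ∈ c.V → g ∈ f.Ph := fun g hg r hr r1 e => by
    obtain ⟨w, hw, n, -⟩ := f.stab_V (hS.le hg) hr r1 e
    have m := mul_mem (PS (PP hw.1)) hg
    obtain ⟨k, hk⟩ := hS.isPGroup ⟨_, m⟩
    have := c.syl.eq_of_le (H := S ⊓ centralizer {c.t}) (hS.isPGroup.to_le inf_le_left)
      (le_inf (le_sup_right.trans PS) c.syl.le) inf_le_right
    have wT : w * g ∈ c.T := this.le ⟨m, mem_centralizer_singleton_iff.2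
      (c.two_elt hr r1 (conj_mem_of_mem_norm n hr) (congrArg Subtype.val hk))⟩
    exact (mul_mem_cancel_left (PP hw.1)).1 (mem_sup_right wT)
  have B : ∀ g ∈ S, g ∉ f.Ph → ∀ r ∈ c.R, r ≠ 1 → f.e (g * r * g⁻¹) = 0 ∧ f.a (g * r * g⁻¹) = 0 ∧
      f.b (g * r * g⁻¹) ≠ 0 := fun g hg n r hr r1 => by
    have m := conj_mem_of_mem_norm (hS.le hg) (f.mR r hr).1
    have a := h0 _ m ⟨r, hr, r1, isConj_iff.2 ⟨g, rfl⟩⟩
    have b : f.b (g * r * g⁻¹) ≠ 0 := fun b => n (A g hg r hr r1 (f.mem_V.2 ⟨m, a, b⟩))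
    have e := f.sq _ m
    rw [show g * r * g⁻¹ * (g * r * g⁻¹) = g * (r * r) * g⁻¹ by group, c.Re r hr, mul_one,
      mul_inv_cancel, eq_comm, c.z_eq_one, a, hc, nm_zero, zero_add, zero_add] at e
    exact ⟨(mul_eq_zero.1 e).resolve_right b, a, b⟩
  have C : ∀ g ∈ S, g ∉ f.Ph → ∃ l φ μ ν, f.Swp g l φ μ ν := fun g hg n => by
    have hn := hS.le hg
    have m := fun p (hp : p ∈ f.P) => conj_mem_of_mem_norm hn hp
    have B' := B g⁻¹ (inv_mem hg) (mt inv_mem_iff.1 n)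
    choose ρ hρ eρ using hR
    have m' := fun k => conj_mem_of_mem_norm (inv_mem hn) (f.mR _ (hρ k)).1
    have : Finite (K0 F q) := inferInstance
    obtain ⟨k, hk⟩ := Finite.surjective_of_injective (f := fun k => f.b (g⁻¹ * ρ k * g⁻¹⁻¹))
      (fun k k' e => by
        have h1 : ρ k * ρ k' = 1 := by_contra fun n => (B' _ (mul_mem (hρ k) (hρ k')) n).2.2 (by
          rw [show g⁻¹ * (ρ k * ρ k') * g⁻¹⁻¹ = g⁻¹ * ρ k * g⁻¹⁻¹ * (g⁻¹ * ρ k' * g⁻¹⁻¹) by group,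
            f.b_mul _ (m' k) _ (m' k')]
          exact CharTwo.add_eq_zero.2 e)
        have := f.e_mul _ (f.mR _ (hρ k)).1 _ (f.mR _ (hρ k')).1
        rw [h1, f.e_one, eρ, eρ] at this
        exact CharTwo.add_eq_zero.1 this.symm) 1
    have k1 : ρ k ≠ 1 := fun e => by simp [e, f.b_one] at hk
    have k0 : k ≠ 0 := fun e => k1 (f.eR _ (hρ k) ((eρ k).trans e))
    obtain ⟨w1, w2, -⟩ := B' _ (hρ k) k1
    obtain ⟨t1, t2, t3⟩ := B g hg n _ c.tR c.t1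
    obtain ⟨tP, ta, tb⟩ := f.mR _ c.tR
    obtain ⟨-, ra, rb⟩ := f.mR _ (hρ k)
    have cw : ∀ p ∈ f.P, g * c.z (f.e p) * g⁻¹ = c.z (k * f.b (g * p * g⁻¹)) := fun p hp => by
      have := f.cf_cj hn hp (m' k)
      simp only at hk
      rwa [show g * (g⁻¹ * ρ k * g⁻¹⁻¹) * g⁻¹ = ρ k by group, cf, cf, w1, w2, hk, ra, rb, eρ,
        cm_zero_right, cm_zero_right, zero_mul, mul_zero, mul_one, zero_add, zero_add, add_zero,
        zero_add] at this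
    have ct : ∀ p ∈ f.P, g * c.z (f.b p) * g⁻¹ = c.z (f.e (g * p * g⁻¹) * f.b (g * c.t * g⁻¹)) :=
      fun p hp => by
      have := f.cf_cj hn hp tP
      rwa [cf, cf, t1, t2, ta, tb, f.et, cm_zero_right, cm_zero_right, zero_mul, mul_zero, one_mul,
        zero_add, zero_add, add_zero, zero_add] at this
    have cU : ∀ u, f.e (g * c.U u * g⁻¹) = 0 ∧ f.b (g * c.U u * g⁻¹) = 0 := fun u => by
      obtain ⟨hu, e, -, b⟩ := f.mU u
      have h1 := cw _ hu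
      have h2 := ct _ hu
      rw [e] at h1
      rw [b] at h2
      rw [c.z_zero, mul_one, mul_inv_cancel, eq_comm, c.z_eq_one, mul_eq_zero] at h1 h2
      exact ⟨h2.resolve_right t3, h1.resolve_left k0⟩
    choose u hu using exists_um (F := F) (q := q)
    choose γ hγ using f.nrm_Z hn
    have ka : ∀ v, f.a (g * c.U v * g⁻¹) = f.a (g * c.U (u v.x) * g⁻¹) := fun v => by
      obtain ⟨j, e⟩ := f.eq_mul_z (f.mU v).1 (f.mU (u v.x)).1 (by rw [(f.mU _).2.1, (f.mU _).2.1])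
        (by rw [(f.mU _).2.2.1, (f.mU _).2.2.1, hu]) (by rw [(f.mU _).2.2.2, (f.mU _).2.2.2])
      rw [e, show g * (c.U (u v.x) * c.z j) * g⁻¹ = g * c.U (u v.x) * g⁻¹ * (g * c.z j * g⁻¹) by group,
        hγ, f.a_mul _ (m _ (f.mU _).1) _ (f.mZ _).1, (f.mZ _).2.2.1, add_zero]
    obtain ⟨l, φ, l0, h1, h2⟩ := semi (fun x => f.a (g * c.U (u x) * g⁻¹)) γ (fun x y => by
        have := ka (u x * u y)
        rw [UM.mul_x, hu, hu] at this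
        rw [← this, ← f.a_mul _ (m _ (f.mU _).1) _ (m _ (f.mU _).1), map_mul]; congr 1; group)
      (fun x y => c.z_inj.1 (by rw [← hγ, c.z_add (γ x), ← hγ, ← hγ, c.z_add]; group))
      (fun x => c.z_inj.1 (by
        have := f.sq _ (m _ (f.mU (u x)).1)
        rw [(cU _).2, mul_zero, add_zero] at this
        rw [← this, ← hγ, ← hu x, Ctx0.z, ← um_sq, map_mul, hu]; group)) fun e => by
        obtain ⟨j, e1⟩ := f.ker _ (m _ (f.mU (u 1)).1) (cU _).1 e (cU _).2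
        obtain ⟨j', e2⟩ := f.nrm_Z (inv_mem hn) j
        have := (f.mU (u 1)).2.2.1
        rw [show c.U (u 1) = c.z j' by rw [← e2, ← e1]; group, (f.mZ _).2.2.1, hu] at this
        exact zero_ne_one this
    have hz : ∀ k, g * c.z k * g⁻¹ = c.z (nm q l * kf φ k) := fun k => by rw [hγ, h2]
    have e1 := cw _ tP
    rw [hz, f.et, kf_one, mul_one, c.z_inj] at e1
    refine ⟨l, φ, _, k, l0, by rw [e1, mul_comm], hz, fun p hp => ⟨m p hp, ?_, ?_, ?_⟩⟩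
    · have := ct p hp
      rw [hz, c.z_inj, e1] at this
      exact mul_right_cancel₀ t3 (by linear_combination -this)
    · refine t2_cm_nd (q := q) fun x => ?_
      obtain ⟨y, rfl⟩ : ∃ y, x = l * φ y := ⟨φ.symm (x / l), by simp [mul_div_cancel₀ _ l0]⟩
      have := f.cf_cj hn hp (f.mU (u y)).1
      rw [hz, c.z_inj, cf, cf, (cU _).1, (cU _).2, h1, (f.mU _).2.1, (f.mU _).2.2.1, (f.mU _).2.2.2,
        hu] at this
      simpa [cm_mul, kf_cm] using this.symm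
    · have := cw p hp
      rw [hz, c.z_inj, e1] at this
      exact mul_left_cancel₀ k0 (by linear_combination -this)
  refine ⟨S, PS, hS, C, fun g hg g' hg' n n' => A _ (mul_mem hg hg') _ c.tR c.t1 ?_⟩
  obtain ⟨l, φ, μ, ν, -, -, -, h⟩ := C g hg n
  obtain ⟨t1, t2, -⟩ := B g' hg' n' _ c.tR c.t1
  obtain ⟨h1, -, h2, h3⟩ := h _ (conj_mem_of_mem_norm (hS.le hg') (f.mR _ c.tR).1)
  rw [show g * g' * c.t * (g * g')⁻¹ = g * (g' * c.t * g'⁻¹) * g⁻¹ by group]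
  exact f.mem_V.2 ⟨h1, by rw [h2, t2, map_zero, mul_zero], by rw [h3, t1, kf_zero, mul_zero]⟩

/-- groups of type `Q` in an overgroup of index two of `P T` have centre `Z` -/
theorem l0s {S : Subgroup G} (hS : ∀ g ∈ S, ∀ g' ∈ S, g ∉ f.Ph → g' ∉ f.Ph → g * g' ∈ f.Ph)
    {M : Subgroup G} (hM : M ≤ f.P) (hZ : c.Z ≤ M) {g : G} (hg : ∀ y ∈ M, g * y * g⁻¹ ∈ S)
    (h : ((∀ x, ∃ y ∈ M, f.a y = x) ∧ ∀ y ∈ M, ∀ y' ∈ M, f.e y * f.b y' + f.e y' * f.b y = 0) ∨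
      ((∀ k k', ∃ y ∈ M, f.e y = k ∧ f.b y = k') ∧ ∀ y ∈ M, ∀ y' ∈ M, cm q (f.a y) (f.a y') = 0))
    (k : K0 F q) : g * c.z k * g⁻¹ ∈ c.Z := by
  let N := f.Ph.comap (MulAut.conj g).toMonoidHom
  have i2 : ∀ x ∈ M, ∀ y ∈ M, x ∉ N → y ∉ N → x * y ∈ N := fun x hx y hy n n' =>
    mem_comap.2 (by rw [map_mul]; exact hS _ (hg x hx) _ (hg y hy) n n')
  have k1 : ∀ k, ∃ y ∈ M ⊓ N, ∃ y' ∈ M ⊓ N, y * y' * y⁻¹ * y'⁻¹ = c.z k := fun k => by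
    rcases h with ⟨h1, h2⟩ | ⟨h1, h2⟩
    · obtain ⟨A, i, hA⟩ := t2_img f.a (fun x hx y hy => f.a_mul _ (hM hx) _ (hM hy)) h1 i2
      obtain ⟨x, hx, x', hx', e⟩ := idx2 c.q4 A i k
      obtain ⟨y, hy, rfl⟩ := hA x hx
      obtain ⟨y', hy', rfl⟩ := hA x' hx'
      exact ⟨y, hy, y', hy', by
        rw [f.cf_z (hM hy.1) (hM hy'.1), cf, add_assoc, h2 y hy.1 y' hy'.1, add_zero, e]⟩
    · obtain ⟨A, i, hA⟩ := t2_img (fun y => (f.e y, f.b y)) (fun x hx y hy => by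
        rw [f.e_mul _ (hM hx) _ (hM hy), f.b_mul _ (hM hx) _ (hM hy)]; rfl)
        (fun a => (h1 a.1 a.2).imp fun y hy => ⟨hy.1, Prod.ext hy.2.1 hy.2.2⟩) i2
      obtain ⟨x, hx, x', hx', e⟩ := idx2' c.q4 A i k
      obtain ⟨y, hy, rfl⟩ := hA x hx
      obtain ⟨y', hy', rfl⟩ := hA x' hx'
      exact ⟨y, hy, y', hy', by
        rw [f.cf_z (hM hy.1) (hM hy'.1), cf, add_assoc, h2 y hy.1 y' hy'.1, zero_add, e]⟩
  have k2 : ∀ y ∈ M ⊓ N, g * (y * y) * g⁻¹ ∈ c.Z := fun y hy => by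
    obtain ⟨a, ha, b, hb, e⟩ := k1 (nm q (f.a y) + (f.cc + f.e y) * f.b y)
    have e1 : g * y * g⁻¹ * (g * y * g⁻¹) = g * (y * y) * g⁻¹ := by group
    rw [← e1]
    refine f.sq_Z hy.2 ?_ ?_ <;> rw [e1, f.sq y (hM hy.1)]
    · have := f.comm_P ha.2 hb.2
      rw [← map_inv, ← map_inv, ← map_mul, ← map_mul, ← map_mul, e] at this
      exact this
    · rw [show ∀ x : G, g * x * g⁻¹ * (g * x * g⁻¹) = g * (x * x) * g⁻¹ from fun x => by group, c.z_sq]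
      simp
  obtain ⟨a, ha, b, hb, e⟩ := k1 k
  have := mul_mem (mul_mem (k2 a ha) (k2 _ (mul_mem (inv_mem ha) hb))) (k2 _ (inv_mem hb))
  rw [← e]
  convert this using 1; group

end Fr1

end Cfsg.Agent.GMS
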