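import Cfsg.Agent.GMS.Base2
import Cfsg.Agent.GMS.FldC

/-! Project GMS: API of the second frame. -/

set_option autoImplicit false
set_option linter.unusedSectionVars false

namespace Cfsg.Agent.GMS

open Subgroup H10 H91
open H42 hiding SylIn

variable {G : Type*} [Group G] [Finite G] {F : Type*} [Field F] [Fintype F] [CharP F 2] {q : ℕ}
  [hF : Fact (Fintype.card F = q ^ 2)]

theorem top0_half {X : Subgroup G} {y : G} (k : ℕ) (h : y ^ 2 ^ k ∈ X) (hy : y ∉ X) :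
    ∃ n : ℕ, y ^ n ∉ X ∧ y ^ n * y ^ n ∈ X := by
  induction k with
  | zero => exact absurd (by simpa using h) hy
  | succ k ih =>
    by_cases e : y ^ 2 ^ k ∈ X
    · exact ih e
    · exact ⟨_, e, by rwa [← pow_add, ← mul_two, ← pow_succ]⟩

theorem top0_odd {O N : Subgroup G} (hO : Odd (Nat.card O)) {o : G} (ho : o ∈ O) {k : ℕ}
    (h : o ^ 2 ^ k ∈ N) : o ∈ N := by
  have h1 : (orderOf o).Coprime (2 ^ k) :=
    (Nat.Coprime.coprime_dvd_left (O.orderOf_dvd_natCard ho) (Nat.coprime_two_right.2 hO)).pow_right k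
  obtain ⟨m, hm⟩ := exists_pow_eq_self_of_coprime h1.symm
  rw [← hm]
  exact pow_mem h m

theorem top0_card {M : Type*} [AddGroup M] {K L : Subgroup G} (hK : K ≤ L) (φ : G → M)
    (h1 : ∀ y ∈ L, ∀ y' ∈ L, φ (y * y') = φ y + φ y') (h2 : ∀ m, ∃ y ∈ L, φ y = m)
    (h3 : ∀ y ∈ L, φ y = 0 ↔ y ∈ K) : Nat.card L = Nat.card K * Nat.card M := by
  let ψ : L →* Multiplicative M := MonoidHom.mk' (fun y => Multiplicative.ofAdd (φ y))
    fun y y' => by rw [← ofAdd_add, coe_mul, h1 _ y.2 _ y'.2]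
  have hs : Function.Surjective ψ := fun m => by
    obtain ⟨w, hw, h⟩ := h2 m.toAdd
    exact ⟨⟨w, hw⟩, by simp [ψ, h]⟩
  have hk : ψ.ker = K.subgroupOf L := by
    ext y
    simp [ψ, mem_subgroupOf, MonoidHom.mem_ker, h3]
  have := ψ.ker.card_mul_index
  rw [index_ker, MonoidHom.range_eq_top.2 hs, card_top, Nat.card_congr Multiplicative.toAdd,
    hk, Nat.card_congr (subgroupOfEquivOfLe hK).toEquiv] at this
  exact this.symm

namespace Fr2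

variable {c : Ctx G F q} (f : Fr2 c)

theorem top0_b {w w' : G} (hw : w ∈ f.W) (hw' : w' ∈ f.W) : f.b (w * w') = f.b w + f.b w' :=
  f.b_mul _ hw.1 hw.2.1 hw.2.2 _ hw'.1 hw'.2.1 hw'.2.2
theorem top0_k {w w' : G} (hw : w ∈ f.W) (hw' : w' ∈ f.W) : f.k (w * w') = f.k w + f.k w' :=
  f.k_mul _ hw.1 hw.2.1 hw.2.2 _ hw'.1 hw'.2.1 hw'.2.2
theorem top0_sq {y : G} (hy : y ∈ f.Y) : y * y ∈ f.W :=
  ⟨mul_mem hy hy, by rw [f.d_mul _ hy _ hy, CharTwo.add_self_eq_zero],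
    by rw [f.a_mul _ hy _ hy, CharTwo.add_self_eq_zero]⟩
theorem top0_mem {y y' : G} (hy : y ∈ f.Y) (hy' : y' ∈ f.Y) (h1 : f.d y = f.d y')
    (h2 : f.a y = f.a y') : y⁻¹ * y' ∈ f.W :=
  ⟨mul_mem (inv_mem hy) hy',
    by rw [f.d_mul _ (inv_mem hy) _ hy', f.d_inv hy, h1, CharTwo.add_self_eq_zero],
    by rw [f.a_mul _ (inv_mem hy) _ hy', f.a_inv hy, h2, CharTwo.add_self_eq_zero]⟩
theorem top0_cen {w y : G} (hw : w ∈ f.W) (hy : y ∈ f.Y) : w * y = y * w :=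
  f.cen w hw.1 hw.2.1 hw.2.2 y hy

theorem comm {y y' : G} (hy : y ∈ f.Y) (hy' : y' ∈ f.Y) : y * y' * y⁻¹ * y'⁻¹ ∈ f.W ∧
    f.b (y * y' * y⁻¹ * y'⁻¹) =
      cm q (f.d y) (f.d y') + cm q (f.d y) (f.a y') + cm q (f.d y') (f.a y) ∧
    f.k (y * y' * y⁻¹ * y'⁻¹) = cm q (f.a y) (f.a y') + f.dl * cm q (f.d y) (f.d y') := by
  have m1 := mul_mem hy hy'
  have m2 := mul_mem hy' hy
  have hW : y * y' * y⁻¹ * y'⁻¹ ∈ f.W := by
    have := f.top0_mem (inv_mem m1) (inv_mem m2)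
      (by rw [f.d_inv m1, f.d_inv m2, f.d_mul _ hy _ hy', f.d_mul _ hy' _ hy, add_comm])
      (by rw [f.a_inv m1, f.a_inv m2, f.a_mul _ hy _ hy', f.a_mul _ hy' _ hy, add_comm])
    rwa [inv_inv, mul_inv_rev, ← mul_assoc] at this
  have e : y * y' * y⁻¹ * y'⁻¹ * (y * y' * (y * y')) = y * y * (y' * y') := by
    rw [mul_assoc y y' (y * y'), ← mul_assoc _ y, f.top0_cen hW hy]; group
  have h2 : (2 : K0 F q) = 0 := CharTwo.two_eq_zero
  have hb := f.top0_b hW (f.top0_sq m1)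
  have hk := f.top0_k hW (f.top0_sq m1)
  rw [e, f.top0_b (f.top0_sq hy) (f.top0_sq hy'), (f.sq _ hy).1, (f.sq _ hy').1, (f.sq _ m1).1,
    f.d_mul _ hy _ hy', f.a_mul _ hy _ hy', nm_add, cm_add_left, cm_add_right, cm_add_right] at hb
  rw [e, f.top0_k (f.top0_sq hy) (f.top0_sq hy'), (f.sq _ hy).2, (f.sq _ hy').2, (f.sq _ m1).2,
    f.d_mul _ hy _ hy', f.a_mul _ hy _ hy', nm_add, nm_add] at hk
  refine ⟨hW, ?_, ?_⟩
  · linear_combination -hb -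
      (cm q (f.d y) (f.d y') + cm q (f.d y) (f.a y') + cm q (f.d y') (f.a y)) * h2
  · linear_combination -hk - (cm q (f.a y) (f.a y') + f.dl * cm q (f.d y) (f.d y')) * h2
theorem W_sq {w : G} (hw : w ∈ f.W) : w * w = 1 := by
  have h := f.top0_sq hw.1
  exact f.ker _ h.1 h.2.1 h.2.2 (by rw [f.top0_b hw hw, k0_add_self])
    (by rw [f.top0_k hw hw, k0_add_self])
theorem W_ext {w w' : G} (hw : w ∈ f.W) (hw' : w' ∈ f.W) (h1 : f.b w = f.b w')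
    (h2 : f.k w = f.k w') : w = w' := by
  have h := mul_mem hw hw'
  have := f.ker _ h.1 h.2.1 h.2.2 (by rw [f.top0_b hw hw', h1, k0_add_self])
    (by rw [f.top0_k hw hw', h2, k0_add_self])
  rw [← f.W_sq hw'] at this
  exact mul_right_cancel this
theorem ZW : c.Z ≤ f.W := fun y hy => by
  obtain ⟨b, rfl⟩ := c.mem_Z.1 hy
  exact f.mU (zz b)
theorem card_W : Nat.card f.W = q ^ 2 := by
  have := top0_card (K := ⊥) (L := f.W) bot_le (fun w => (f.b w, f.k w))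
    (fun y hy y' hy' => by rw [f.top0_b hy hy', f.top0_k hy hy']; rfl)
    (fun m => by
      obtain ⟨w, hw, h1, h2, h3, h4⟩ := f.surjW m.1 m.2
      exact ⟨w, ⟨hw, h1, h2⟩, Prod.ext h3 h4⟩)
    fun y hy => ⟨fun h => f.ker _ hy.1 hy.2.1 hy.2.2 (congrArg Prod.fst h) (congrArg Prod.snd h),
      fun h => by
        have := f.mZ 0
        rw [c.z_zero] at this
        rw [mem_bot.1 h, this.1, this.2]; rfl⟩
  rw [this, Nat.card_prod, card_k0, card_bot, one_mul, pow_two]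
theorem card_Y : Nat.card f.Y = q ^ 6 := by
  have := top0_card (K := f.W) (L := f.Y) (fun y hy => hy.1) (fun w => (f.d w, f.a w))
    (fun y hy y' hy' => by rw [f.d_mul _ hy _ hy', f.a_mul _ hy _ hy']; rfl)
    (fun m => by
      obtain ⟨w, hw, h1, h2⟩ := f.surj m.1 m.2
      exact ⟨w, hw, Prod.ext h1 h2⟩)
    fun y hy => ⟨fun h => ⟨hy, congrArg Prod.fst h, congrArg Prod.snd h⟩,
      fun h => Prod.ext h.2.1 h.2.2⟩
  rw [this, Nat.card_prod, f.card_W, Nat.card_eq_fintype_card, hF.out]; ring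
theorem card_Ln (x : F) : Nat.card (f.Ln x) = q ^ 4 := by
  have := top0_card (K := f.W) (L := f.Ln x)
    (fun y hy => ⟨hy.1, by rw [hy.2.1, hy.2.2, mul_zero]⟩) f.d
    (fun y hy y' hy' => f.d_mul _ hy.1 _ hy'.1)
    (fun m => by
      obtain ⟨w, hw, h1, h2⟩ := f.surj m (x * m)
      exact ⟨w, ⟨hw, by rw [h1, h2]⟩, h1⟩)
    fun y hy => ⟨fun h => ⟨hy.1, h, by rw [hy.2, h, mul_zero]⟩, fun h => h.2.1⟩
  rw [this, f.card_W, Nat.card_eq_fintype_card, hF.out]; ring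
theorem T_nrm : c.T ≤ normalizer (f.Y : Set G) := fun g hg => by
  obtain ⟨w, φ, h⟩ := c.actT g hg
  exact mem_normalizer_fintype (S := (f.Y : Set G)) fun y hy =>
    (f.act g (c.Tt hg) w 1 φ h y hy).1
theorem top0_tU (c : Ctx G F q) (u : UM F q) : c.t * c.U u = c.U u * c.t :=
  c.RA _ c.tR _ (c.UA u)
theorem top0_t {y : G} (hy : y ∈ f.Y) : c.t * y * c.t⁻¹ ∈ f.Y ∧ f.d (c.t * y * c.t⁻¹) = f.d y := by
  simpa using f.act c.t rfl 1 1 (RingEquiv.refl F) (fun u => by simp [top0_tU]) y hy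
theorem top0_tW {w : G} (hw : w ∈ f.W) : c.t * w * c.t⁻¹ ∈ f.W :=
  ⟨(f.top0_t hw.1).1, by rw [(f.top0_t hw.1).2, hw.2.1],
    by rw [f.ta _ hw.1, hw.2.1, hw.2.2, add_zero]⟩
theorem top0_in {g y : G} (hg : g ∈ f.Y) (hy : y ∈ f.Y) :
    f.d (g * y * g⁻¹) = f.d y ∧ f.a (g * y * g⁻¹) = f.a y := by
  rw [f.d_mul _ (mul_mem hg hy) _ (inv_mem hg), f.d_mul _ hg _ hy, f.d_inv hg,
    f.a_mul _ (mul_mem hg hy) _ (inv_mem hg), f.a_mul _ hg _ hy, f.a_inv hg, add_right_comm,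
    CharTwo.add_self_eq_zero, add_right_comm, CharTwo.add_self_eq_zero, zero_add, zero_add]
  exact ⟨rfl, rfl⟩
theorem top0_not (h : ∀ y ∈ f.Y, f.a (c.t * y * c.t⁻¹) = f.a y) : False := by
  obtain ⟨y, hy, h1, -⟩ := f.surj 1 0
  have := h y hy
  rw [f.ta _ hy, h1, add_eq_left] at this
  exact one_ne_zero this
theorem t_not_mem : c.t ∉ f.Y := fun h => f.top0_not fun _ hy => (f.top0_in h hy).2
theorem top0_z {w : G} (hw : w ∈ f.W) (h : f.b w = 0) : w = c.z (f.k w) :=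
  f.W_ext hw (f.ZW (c.mem_Z.2 ⟨_, rfl⟩)) (by rw [h, (f.mZ _).1]) (f.mZ _).2.symm
theorem cent_t {y : G} (hy : y ∈ f.Y) : y * c.t = c.t * y ↔ y ∈ c.Q := by
  refine ⟨fun h => ?_, fun h => ?_⟩
  · have h1 := f.ta _ hy
    rw [← h, mul_inv_cancel_right, left_eq_add] at h1
    obtain ⟨u, hu⟩ := exists_um (q := q) (f.a y)
    obtain ⟨u0, u1, u2⟩ := f.mU u
    have hw := f.top0_mem u0 hy (by rw [u1, h1]) (by rw [u2, hu])
    have h2 := (f.tW _ hw.1 hw.2.1 hw.2.2).2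
    have h3 : c.t * ((c.U u)⁻¹ * y) * c.t⁻¹ = (c.U u)⁻¹ * y := by
      rw [← map_inv, ← mul_assoc, top0_tU, mul_assoc _ c.t, ← h]; group
    rw [h3, left_eq_add] at h2
    have h4 := f.top0_z hw h2
    exact c.mem_Q.2 ⟨u * zz _, by rw [map_mul]; exact inv_mul_eq_iff_eq_mul.1 h4⟩
  · obtain ⟨u, rfl⟩ := c.mem_Q.1 h
    exact (top0_tU c u).symm
/-- the involutions of `t Y` are conjugate to `t` under `Y` -/
theorem inv_conj {y : G} (hy : y ∈ f.Y) (h : c.t * y * (c.t * y) = 1) :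
    ∃ u ∈ f.Y, u * c.t * u⁻¹ = c.t * y := by
  have ti : c.t⁻¹ = c.t := inv_eq_of_mul_eq_one_right c.t2
  have h1 := f.ta _ hy
  rw [show c.t * y * c.t⁻¹ = y⁻¹ from eq_inv_of_mul_eq_one_left (by rw [ti, ← h]; group),
    f.a_inv hy, left_eq_add] at h1
  obtain ⟨u, hu, u1, u2⟩ := f.surj (f.a y) 0
  obtain ⟨v0, v1⟩ := f.top0_t hu
  have hi := inv_mem hu
  have hw := f.top0_mem (mul_mem v0 hi) hy
    (by rw [f.d_mul _ v0 _ hi, v1, f.d_inv hu, h1, CharTwo.add_self_eq_zero])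
    (by rw [f.a_mul _ v0 _ hi, f.ta _ hu, f.a_inv hu, u1, u2, zero_add, add_zero])
  obtain ⟨w, hw, e⟩ : ∃ w ∈ f.W, c.t * y = u * (c.t * w) * u⁻¹ := ⟨_, hw, by
    rw [mul_assoc u, mul_assoc c.t _ u⁻¹, f.top0_cen hw hi]
    calc c.t * y = c.t⁻¹ * y := by rw [ti]
      _ = u * (c.t * (u⁻¹ * (u * c.t⁻¹ * u⁻¹ * c.t⁻¹ * y))) := by group
      _ = _ := by rw [show u * c.t⁻¹ * u⁻¹ * c.t⁻¹ = (c.t * u * c.t⁻¹ * u⁻¹)⁻¹ by
        rw [mul_inv_rev, mul_inv_rev, mul_inv_rev, inv_inv, inv_inv, ti]; group]⟩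
  have h2 : c.t * w * c.t⁻¹ * w = 1 := by
    rw [e, conj_mul, conj_eq_one_iff] at h
    rw [ti, ← h]; group
  obtain ⟨-, h3⟩ := f.tW _ hw.1 hw.2.1 hw.2.2
  have h4 := f.top0_k (f.top0_tW hw) hw
  have h5 := (f.mZ 0).2
  rw [c.z_zero] at h5
  rw [h2, h5, h3, add_right_comm, k0_add_self, zero_add] at h4
  obtain ⟨w', w0, w1, w2, w3, -⟩ := f.surjW (f.k w) 0
  have hw' : w' ∈ f.W := ⟨w0, w1, w2⟩
  obtain ⟨h6, h7⟩ := f.tW _ w0 w1 w2
  have h8 : c.t * w' * c.t⁻¹ = w * w' := f.W_ext (f.top0_tW hw') (mul_mem hw hw')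
    (by rw [h6, f.top0_b hw hw', ← h4, zero_add]) (by rw [h7, f.top0_k hw hw', w3, add_comm])
  refine ⟨u * w', mul_mem hu w0, ?_⟩
  rw [ti] at h8
  calc u * w' * c.t * (u * w')⁻¹ = u * (c.t⁻¹ * (c.t * w' * c.t) * w'⁻¹) * u⁻¹ := by group
    _ = _ := by rw [e, h8, ti]; group
theorem nrm_t {g : G} (h : g * c.t * g⁻¹ * c.t⁻¹ ∈ f.Y) :
    ∃ u ∈ f.Y, u⁻¹ * g * c.t = c.t * (u⁻¹ * g) := by
  have ti : c.t⁻¹ = c.t := inv_eq_of_mul_eq_one_right c.t2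
  have e : c.t * (c.t * (g * c.t * g⁻¹ * c.t⁻¹) * c.t⁻¹) = g * c.t * g⁻¹ := by
    rw [ti]
    calc _ = c.t * c.t * (g * c.t * g⁻¹) * (c.t * c.t) := by group
      _ = _ := by rw [c.t2, one_mul, mul_one]
  obtain ⟨u, hu, h1⟩ := f.inv_conj (f.top0_t h).1 (by rw [e, conj_mul, c.t2]; group)
  refine ⟨u, hu, ?_⟩
  calc u⁻¹ * g * c.t = u⁻¹ * (g * c.t * g⁻¹) * g := by group
    _ = _ := by rw [← e, ← h1]; group
/-- 2-groups above `Y ⟨t⟩` act faithfully on `Y/W` modulo `Y` -/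
theorem faith {S : Subgroup G} (hS : IsPGroup 2 S) (hY : f.Y ≤ S) (ht : c.t ∈ S)
    (hn : S ≤ normalizer (f.Y : Set G)) {g : G} (hg : g ∈ S)
    (h : ∀ y ∈ f.Y, f.d (g * y * g⁻¹) = f.d y ∧ f.a (g * y * g⁻¹) = f.a y) : g ∈ f.Y := by
  have ti : c.t⁻¹ = c.t := inv_eq_of_mul_eq_one_right c.t2
  have nY : ∀ s ∈ S, ∀ y ∈ f.Y, s * y * s⁻¹ ∈ f.Y := fun s hs y hy =>
    (mem_normalizer_iff.1 (hn hs) y).1 hy
  let C : Subgroup G :=
    { carrier := {g | g ∈ S ∧ ∀ y ∈ f.Y, f.d (g * y * g⁻¹) = f.d y ∧ f.a (g * y * g⁻¹) = f.a y}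
      one_mem' := ⟨one_mem _, fun y _ => by simp⟩
      mul_mem' := fun {a b} ha hb => ⟨mul_mem ha.1 hb.1, fun y hy => by
        rw [show a * b * y * (a * b)⁻¹ = a * (b * y * b⁻¹) * a⁻¹ by group]
        have := ha.2 _ (nY _ hb.1 _ hy)
        exact ⟨this.1.trans (hb.2 y hy).1, this.2.trans (hb.2 y hy).2⟩⟩
      inv_mem' := fun {a} ha => ⟨inv_mem ha.1, fun y hy => by
        have := ha.2 _ (nY _ (inv_mem ha.1) _ hy)
        rw [show a * (a⁻¹ * y * a⁻¹⁻¹) * a⁻¹ = y by group] at this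
        exact ⟨this.1.symm, this.2.symm⟩⟩ }
  have YC : f.Y ≤ C := fun y hy => ⟨hY hy, fun _ hy' => f.top0_in hy hy'⟩
  have tC : ∀ a ∈ C, c.t * a * c.t⁻¹ ∈ C := fun a ha =>
    ⟨mul_mem (mul_mem ht ha.1) (inv_mem ht), fun y hy => by
      have h1 := nY _ (inv_mem ht) _ hy
      have h2 := nY _ ha.1 _ h1
      have h3 := f.top0_t h1
      have h4 := f.ta _ h1
      rw [show c.t * (c.t⁻¹ * y * c.t⁻¹⁻¹) * c.t⁻¹ = y by group] at h3 h4
      rw [show c.t * a * c.t⁻¹ * y * (c.t * a * c.t⁻¹)⁻¹ =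
        c.t * (a * (c.t⁻¹ * y * c.t⁻¹⁻¹) * a⁻¹) * c.t⁻¹ by group, (f.top0_t h2).2, f.ta _ h2,
        (ha.2 _ h1).1, (ha.2 _ h1).2]
      exact ⟨h3.2.symm, h4.symm⟩⟩
  have key : ∀ a ∈ C, a * c.t * a⁻¹ * c.t⁻¹ ∈ f.Y → a ∈ f.Y := fun a ha h1 => by
    obtain ⟨u, hu, h2⟩ := f.nrm_t h1
    have hb : u⁻¹ * a ∈ C := mul_mem (inv_mem (YC hu)) ha
    refine (mul_mem_cancel_left (inv_mem hu)).1 ?_
    generalize u⁻¹ * a = b at h2 hb
    obtain ⟨w, k, hk, e⟩ := c.ker b h2 fun v => by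
      have h3 := nY _ hb.1 _ (f.mU v).1
      obtain ⟨v', hv'⟩ := c.mem_Q.1 ((f.cent_t h3).1 (by
        calc b * c.U v * b⁻¹ * c.t = b * c.U v * b⁻¹ * (c.t * b) * b⁻¹ := by group
          _ = b * (c.U v * c.t) * b⁻¹ := by rw [← h2]; group
          _ = _ := by rw [← top0_tU, ← mul_assoc, h2]; group))
      exact ⟨v', hv', by rw [← (f.mU v').2.2, ← hv', (hb.2 _ (f.mU v).1).2, (f.mU v).2.2]⟩
    have hw := (f.mU w).1
    obtain ⟨r, hr, o, ho, rfl⟩ := c.KO k hk (by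
      rw [e, mul_assoc, ← mul_assoc c.t, top0_tU, mul_assoc] at h2
      exact mul_left_cancel h2)
    have rS : r ∈ S := by
      rcases f.R2 r hr with rfl | rfl
      exacts [one_mem _, ht]
    obtain ⟨n, hn⟩ := hS ⟨o, (mul_mem_cancel_left rS).1
      ((mul_mem_cancel_left (hY hw)).1 (e ▸ hb.1))⟩
    obtain rfl : o = 1 := mem_bot.1 (top0_odd (k := n) c.Oodd ho
      (mem_bot.2 (congrArg Subtype.val hn)))
    rcases f.R2 r hr with rfl | rfl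
    · rwa [e, mul_one, mul_one]
    · rw [e, mul_one] at hb
      exact (f.top0_not fun y hy => (((mul_mem_cancel_left (YC hw)).1 hb).2 y hy).2).elim
  have gC : g ∈ C := ⟨hg, h⟩
  refine key g gC (by_contra fun hx => ?_)
  have xC : g * c.t * g⁻¹ * c.t⁻¹ ∈ C := by
    rw [mul_assoc, mul_assoc, ← mul_assoc c.t]
    exact mul_mem gC (tC _ (inv_mem gC))
  have e : c.t * (g * c.t * g⁻¹ * c.t⁻¹)⁻¹ * c.t⁻¹ = g * c.t * g⁻¹ * c.t⁻¹ := by
    calc _ = c.t * c.t * g * c.t⁻¹ * g⁻¹ * c.t⁻¹ := by group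
      _ = _ := by rw [c.t2, one_mul, ti]
  generalize g * c.t * g⁻¹ * c.t⁻¹ = x at hx xC e
  obtain ⟨k, hk⟩ := hS ⟨x, xC.1⟩
  obtain ⟨n, n1, n2⟩ := top0_half (X := f.Y) k
    (by rw [show x ^ 2 ^ k = 1 from congrArg Subtype.val hk]; exact one_mem _) hx
  refine n1 (key _ (pow_mem xC n) ?_)
  rwa [mul_assoc, mul_assoc, ← mul_assoc c.t, ← inv_pow, ← conj_pow, e]
/-- `Y` lies in every normal subgroup of 2-power index -/
theorem le_normal {N : Subgroup G} [N.Normal] (hN : IsPGroup 2 (G ⧸ N)) : f.Y ≤ N := by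
  have nN : N.Normal := inferInstance
  have cN : ∀ h ∈ c.H, ∀ y, h * y * h⁻¹ * y⁻¹ ∈ N := fun h hh y => by
    obtain ⟨k, hk⟩ := hN (QuotientGroup.mk h)
    have h1 : h ∈ N := top0_odd (k := k) c.Hodd hh ((QuotientGroup.eq_one_iff _).1 hk)
    rw [mul_assoc, mul_assoc, ← mul_assoc y]
    exact mul_mem h1 (nN.conj_mem _ (inv_mem h1) y)
  have act : ∀ h l, c.Sc h l → ∀ y ∈ f.Y, h * y * h⁻¹ ∈ f.Y ∧ f.d (h * y * h⁻¹) = l * f.d y :=
    fun h l hh y hy => f.act h (c.Ht hh.1) 1 l (RingEquiv.refl F) (by simpa using hh.2) y hy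
  have WN : ∀ w ∈ f.W, w ∈ N := fun w hw => by
    obtain ⟨k, k0, k1⟩ := exists_k0 (F := F) c.q4
    obtain ⟨h, -, hh⟩ := c.exists_h0 k k0
    have k2 : k ^ 2 + 1 ≠ 0 := fun e => k1 (by
      rw [CharTwo.add_eq_zero] at e
      exact k0_ext (eq_one_of_pow (k := 1) (by simpa using congrArg Subtype.val e)))
    obtain ⟨v, v0, v1, v2, v3, v4⟩ := f.surjW (f.b w / (k ^ 2 + 1)) (f.k w / (k ^ 2 + 1))
    have hv : v ∈ f.W := ⟨v0, v1, v2⟩
    obtain ⟨a1, a2⟩ := f.Hact h k hh v v0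
    obtain ⟨a2, a3⟩ := a2 v1 v2
    have hv' : h * v * h⁻¹ ∈ f.W :=
      ⟨(act h k hh v v0).1, by rw [(act h k hh v v0).2, v1, mul_zero], by rw [a1, v2, mul_zero]⟩
    have := cN h hh.1 v
    rw [inv_eq_of_mul_eq_one_right (f.W_sq hv)] at this
    rwa [f.W_ext hw (mul_mem hv' hv)
      (by rw [f.top0_b hv' hv, a2, v3, nm_k0]; field_simp)
      (by rw [f.top0_k hv' hv, a3, v4, nm_k0]; field_simp)]
  intro y hy
  obtain ⟨h, η, hh, -, η1⟩ := c.exists_h1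
  have η2 : η + 1 ≠ 0 := fun e => η1 (CharTwo.add_eq_zero.1 e)
  obtain ⟨v, hv, v1, v2⟩ := f.surj (f.d y / (η + 1)) (f.a y / (η + 1))
  obtain ⟨a0, a1⟩ := act h η hh v hv
  have hi := inv_mem hv
  exact (mul_mem_cancel_left (inv_mem (cN h hh.1 v))).1 (WN _ (f.top0_mem (mul_mem a0 hi) hy
    (by rw [f.d_mul _ a0 _ hi, a1, f.d_inv hv, v1]; field_simp)
    (by rw [f.a_mul _ a0 _ hi, (f.Hact h η hh v hv).1, f.a_inv hv, v2]; field_simp)))
/-- the product frame -/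
theorem exists_pq {ρ : K0 F q} (h : ρ ^ 2 + ρ = f.dl) : ∃ p : PQ G F q, p.W = f.W := by
  have h2 : (2 : F) = 0 := CharTwo.two_eq_zero
  have h2' : (2 : K0 F q) = 0 := CharTwo.two_eq_zero
  obtain ⟨r, r0, r1⟩ : ∃ r : Bool → K0 F q, r false = ρ ∧ r true = ρ + 1 :=
    ⟨fun j => bif j then ρ + 1 else ρ, rfl, rfl⟩
  have hr : ∀ j, r j ^ 2 + r j = f.dl := by
    rintro (_ | _)
    · rw [r0, h]
    · rw [r1, ← h]; linear_combination (ρ + 1) * h2'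
  have ext : ∀ {d a d' a' : F}, (∀ j, a + r j * d = a' + r j * d') → d = d' ∧ a = a' := fun H => by
    have e0 := H false
    have e1 := H true
    rw [r0] at e0
    rw [r1, Subfield.coe_add, Subfield.coe_one] at e1
    exact ⟨by linear_combination e1 - e0, by linear_combination (ρ + 1) * e0 - ρ * e1⟩
  have zero : ∀ {y : G}, (∀ j, f.a y + r j * f.d y = 0) → f.d y = 0 ∧ f.a y = 0 := fun H =>
    ext fun j => by rw [H, mul_zero, add_zero]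
  obtain ⟨S, hS, hle⟩ := exists_sylIn_ge (A := normalizer (f.Y : Set G))
    (IsPGroup.to_sup_of_normal_left' f.pg c.syl.isPGroup f.T_nrm) (sup_le le_normalizer f.T_nrm)
  refine ⟨⟨f.Y, S, fun j y => f.a y + r j * f.d y, fun j y => f.k y + r j * f.b y, c.q4,
    fun j y hy y' hy' => ?_, fun j y hy H y' hy' H' => ?_, fun y hy H H' => ?_, fun v => ?_,
    fun m => ?_, fun w hw H y hy => f.cen w hw (zero H).1 (zero H).2 y hy, fun y hy j => ?_,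
    le_sup_left.trans hle, hS, fun g hg H => ?_⟩, ?_⟩
  · rw [f.a_mul _ hy _ hy', f.d_mul _ hy _ hy']; ring
  · rw [f.top0_k ⟨hy, zero H⟩ ⟨hy', zero H'⟩, f.top0_b ⟨hy, zero H⟩ ⟨hy', zero H'⟩]; ring
  · have e0 := H' false
    have e1 := H' true
    rw [r0] at e0
    rw [r1] at e1
    exact f.ker y hy (zero H).1 (zero H).2 (by linear_combination e1 - e0)
      (by linear_combination (ρ + 1) * e0 - ρ * e1)
  · obtain ⟨y, hy, h3, h4⟩ := f.surj (v true - v false) (v false - ρ * (v true - v false))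
    refine ⟨y, hy, ?_⟩
    rintro (_ | _)
    · rw [h3, h4, r0]; ring
    · rw [h3, h4, r1, Subfield.coe_add, Subfield.coe_one]; ring
  · obtain ⟨w, hw, w1, w2, h3, h4⟩ :=
      f.surjW (m true - m false) (m false - ρ * (m true - m false))
    refine ⟨w, hw, fun j => by rw [w1, w2, mul_zero, add_zero], ?_⟩
    rintro (_ | _)
    · rw [h3, h4, r0]; ring
    · rw [h3, h4, r1]; ring
  · rw [(f.sq y hy).1, (f.sq y hy).2, nm_add, nm_mul, nm_k0, cm_smul_right, cm_comm (f.a y), ← hr j]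
    linear_combination r j * nm q (f.d y) * h2'
  · exact f.faith hS.isPGroup (le_sup_left.trans hle) (hle (le_sup_right (a := f.Y) (c.RT c.tR)))
      hS.le hg fun y hy => ext (H y hy)
  · exact Subgroup.ext fun y => ⟨fun hy => ⟨hy.1, zero hy.2⟩, fun hy => ⟨hy.1, fun j => by
      change f.a y + r j * f.d y = 0
      rw [hy.2.1, hy.2.2, mul_zero, add_zero]⟩⟩

end Fr2

end Cfsg.Agent.GMS
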